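import Mathlib.AlgebraicGeometry.Morphisms.UnderlyingMap
import Groth.Prelude.Def_AlgSp4
import Groth.Agent.Lib.AlgSpace.Points

/-!
# Topological properties of morphisms of algebraic spaces

"Universally open / closed / injective / submersive" can be tested after base change to affine
schemes; the comparison with the representable notions.
-/

universe w u

open CategoryTheory CategoryTheory.Limits AlgebraicGeometry Opposite Topology
open Groth.Agent.Lib.AlgSpace

namespace Groth.Agent.Lib.AlgSpMor.Topo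

open AlgSp (Sp yon Representable RepWith IsAlgSpace)
open AlgSp

variable {S : Scheme.{u}}

/-! ### Families of squares of topological spaces that are cartesian on points -/

section General

variable {ι : Type w} {A B : Type*} {A' B' : ι → Type*} [TopologicalSpace A] [TopologicalSpace B]
  [∀ i, TopologicalSpace (A' i)] [∀ i, TopologicalSpace (B' i)]
  {f : A → B} {f' : ∀ i, A' i → B' i} {p : ∀ i, A' i → A} {q : ∀ i, B' i → B}

/-- A family of squares which are "cartesian on points" over an open covering family of the base. -/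
structure CartFamily (f : A → B) (f' : ∀ i, A' i → B' i) (p : ∀ i, A' i → A)
    (q : ∀ i, B' i → B) : Prop where
  w : ∀ i a, f (p i a) = q i (f' i a)
  ex : ∀ i a b, f a = q i b → ∃ a', p i a' = a ∧ f' i a' = b
  cont : ∀ i, Continuous (p i)
  contq : ∀ i, Continuous (q i)
  openq : ∀ i, IsOpenMap (q i)
  surj : ∀ b, ∃ i b', q i b' = b

theorem CartFamily.preimage_image (h : CartFamily f f' p q) (i : ι) (W : Set A) :
    q i ⁻¹' (f '' W) = f' i '' (p i ⁻¹' W) := by
  ext b
  constructor
  · rintro ⟨a, ha, e⟩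
    obtain ⟨a', rfl, rfl⟩ := h.ex i a b e
    exact ⟨a', ha, rfl⟩
  · rintro ⟨a', ha, rfl⟩
    exact ⟨p i a', ha, h.w i a'⟩

theorem CartFamily.isOpen_of_forall (h : CartFamily f f' p q) {W : Set B}
    (hW : ∀ i, IsOpen (q i ⁻¹' W)) : IsOpen W := by
  have : W = ⋃ i, q i '' (q i ⁻¹' W) := by
    ext b
    simp only [Set.mem_iUnion, Set.mem_image, Set.mem_preimage]
    exact ⟨fun hb ↦ by obtain ⟨i, b', rfl⟩ := h.surj b; exact ⟨i, b', hb, rfl⟩,
      fun ⟨_, _, hb, e⟩ ↦ e ▸ hb⟩
  rw [this]
  exact isOpen_iUnion fun i ↦ h.openq i _ (hW i)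

theorem CartFamily.isOpenMap (h : CartFamily f f' p q) (h' : ∀ i, IsOpenMap (f' i)) :
    IsOpenMap f := fun W hW ↦ h.isOpen_of_forall fun i ↦ by
  rw [h.preimage_image]
  exact h' i _ (hW.preimage (h.cont i))

theorem CartFamily.isClosedMap (h : CartFamily f f' p q) (h' : ∀ i, IsClosedMap (f' i)) :
    IsClosedMap f := fun W hW ↦ ⟨h.isOpen_of_forall fun i ↦ by
  rw [Set.preimage_compl, h.preimage_image]
  exact (h' i _ (hW.preimage (h.cont i))).isOpen_compl⟩

theorem CartFamily.injective (h : CartFamily f f' p q) (h' : ∀ i, Function.Injective (f' i)) :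
    Function.Injective f := by
  intro x y e
  obtain ⟨i, b', hb⟩ := h.surj (f x)
  obtain ⟨x', rfl, hx⟩ := h.ex i x b' hb.symm
  obtain ⟨y', rfl, hy⟩ := h.ex i y b' (e.symm.trans hb.symm)
  rw [h' i (hx.trans hy.symm)]

theorem CartFamily.surjective (h : CartFamily f f' p q) (h' : ∀ i, Function.Surjective (f' i)) :
    Function.Surjective f := by
  intro b
  obtain ⟨i, b', rfl⟩ := h.surj b
  obtain ⟨a', rfl⟩ := h' i b'
  exact ⟨_, h.w i a'⟩

theorem CartFamily.isQuotientMap (h : CartFamily f f' p q) (hf : Continuous f)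
    (h' : ∀ i, IsQuotientMap (f' i)) : IsQuotientMap f := by
  rw [isQuotientMap_iff_isClosed]
  refine ⟨h.surjective fun i ↦ (h' i).surjective, fun W ↦ ⟨fun hW ↦ hW.preimage hf, fun hW ↦
    ⟨h.isOpen_of_forall fun i ↦ (h' i).isOpen_preimage.1 ?_⟩⟩⟩
  rw [← Set.preimage_comp, show q i ∘ f' i = f ∘ p i from funext fun a ↦ (h.w i a).symm,
    Set.preimage_comp, Set.preimage_compl]
  exact hW.isOpen_compl.preimage (h.cont i)

theorem CartFamily.isHomeomorph (h : CartFamily f f' p q) (hf : Continuous f)
    (h' : ∀ i, IsHomeomorph (f' i)) : IsHomeomorph f :=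
  ⟨hf, h.isOpenMap fun i ↦ (h' i).isOpenMap,
    h.injective fun i ↦ (h' i).bijective.1, h.surjective fun i ↦ (h' i).bijective.2⟩

end General

/-- A property of maps of topological spaces that can be checked on an open covering family of
cartesian squares over the target. -/
def CartLocal (Φ : ∀ {A B : Type (u + 1)} [TopologicalSpace A] [TopologicalSpace B], (A → B) → Prop) :
    Prop :=
  ∀ {ι : Type (u + 1)} {A B : Type (u + 1)} {A' B' : ι → Type (u + 1)} [TopologicalSpace A]
    [TopologicalSpace B] [∀ i, TopologicalSpace (A' i)] [∀ i, TopologicalSpace (B' i)]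
    (f : A → B) (f' : ∀ i, A' i → B' i) (p : ∀ i, A' i → A) (q : ∀ i, B' i → B),
    CartFamily f f' p q → Continuous f → (∀ i, Φ (f' i)) → Φ f

theorem cartLocal_isOpenMap : CartLocal.{u} fun f ↦ IsOpenMap f :=
  fun _ _ _ _ h _ h' ↦ h.isOpenMap h'

theorem cartLocal_isClosedMap : CartLocal.{u} fun f ↦ IsClosedMap f :=
  fun _ _ _ _ h _ h' ↦ h.isClosedMap h'

theorem cartLocal_injective : CartLocal.{u} fun f ↦ Function.Injective f :=
  fun _ _ _ _ h _ h' ↦ h.injective h'

theorem cartLocal_surjective : CartLocal.{u} fun f ↦ Function.Surjective f :=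
  fun _ _ _ _ h _ h' ↦ h.surjective h'

theorem cartLocal_isQuotientMap : CartLocal.{u} fun f ↦ IsQuotientMap f :=
  fun _ _ _ _ h hc h' ↦ h.isQuotientMap hc h'

theorem cartLocal_isHomeomorph : CartLocal.{u} fun f ↦ IsHomeomorph f :=
  fun _ _ _ _ h hc h' ↦ h.isHomeomorph hc h'

/-! ### Base changes to affine schemes suffice -/

/-- An open subscheme as a scheme over `S`, with its inclusion. -/
noncomputable abbrev opensOver {U : Over S} (V : U.left.Opens) : Over S :=
  Over.mk (V.ι ≫ U.hom)

noncomputable abbrev opensOverι {U : Over S} (V : U.left.Opens) : opensOver V ⟶ U :=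
  Over.homMk V.ι rfl

/-- A jointly surjective family of affine etale charts. -/
theorem exists_affine_charts {Z : Sp S} (hZ : IsAlgSpace Z) :
    ∃ (ι : Type (u + 1)) (W : ι → Over S) (b : ∀ i, (yon S).obj (W i) ⟶ Z),
      (∀ i, IsAffine (W i).left) ∧ (∀ i, RepWith @Etale (b i)) ∧
        ∀ z, ∃ i w, Points.ofPt (b i) w = z := by
  obtain ⟨U, p, hp, hps⟩ := hZ.atlas
  refine ⟨ULift.{u + 1} U.left.affineOpens, fun i ↦ opensOver i.down.1,
    fun i ↦ (yon S).map (opensOverι i.down.1) ≫ p, fun i ↦ i.down.2, fun i ↦ ?_, fun z ↦ ?_⟩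
  · have : MorphismProperty.IsStableUnderComposition (@Etale : MorphismProperty Scheme.{u}) :=
      ⟨fun f g (_ : Etale f) (_ : Etale g) ↦ inferInstanceAs (Etale (f ≫ g))⟩
    exact repWith_yon_map_comp (inferInstanceAs (Etale i.down.1.ι)) hp
  · obtain ⟨u, rfl⟩ := surjective_ofPt hps z
    obtain ⟨_, ⟨V, hV, rfl⟩, hu, -⟩ :=
      U.left.isBasis_affineOpens.exists_subset_of_mem_open (Set.mem_univ u) isOpen_univ
    exact ⟨⟨⟨V, hV⟩⟩, ⟨u, hu⟩, ofPt_yon_map_comp _ _ _⟩

variable {Φ : ∀ {A B : Type (u + 1)} [TopologicalSpace A] [TopologicalSpace B], (A → B) → Prop}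

/-- A cart local property holds for the base change to an algebraic space as soon as it holds
after base change to affine schemes. -/
theorem of_affine (hΦ : CartLocal @Φ) {F G : Sp S} (f : F ⟶ G)
    (h : ∀ (Z : Over S), IsAffine Z.left → ∀ (g : (yon S).obj Z ⟶ G) (P : Sp S) (fst : P ⟶ F)
      (snd : P ⟶ (yon S).obj Z), IsPullback fst snd f g → Φ (Points.map snd))
    {Z Z' : Sp S} (hZ : IsAlgSpace Z) (g : Z ⟶ G) (fst : Z' ⟶ F) (snd : Z' ⟶ Z)
    (sq : IsPullback fst snd f g) : Φ (Points.map snd) := by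
  obtain ⟨ι, W, b, hW, hb, hsurj⟩ := exists_affine_charts hZ
  refine hΦ (Points.map snd) (fun i ↦ Points.map (pullback.snd snd (b i)))
    (fun i ↦ Points.map (pullback.fst snd (b i))) (fun i ↦ Points.map (b i))
    ⟨fun i a ↦ ?_, fun i a c e ↦ ?_, fun i ↦ Points.continuous_map _, fun i ↦ Points.continuous_map _,
      fun i ↦ isOpenMap_map (repWith_mono (hb i) fun _ _ e (_ : Etale e) ↦
        (inferInstance : UniversallyOpen e)), fun z ↦ ?_⟩ (Points.continuous_map _) fun i ↦ ?_
  · rw [← Points.map_comp, ← Points.map_comp, pullback.condition]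
  · exact exists_of_isPullback (IsPullback.of_hasPullback snd (b i)) a c e
  · obtain ⟨i, w, rfl⟩ := hsurj z
    exact ⟨i, Points.ofScheme (W i) w, (Points.ofPt_eq_map_ofScheme _ _).symm⟩
  · exact h (W i) (hW i) (b i ≫ g) _ _ _
      ((IsPullback.of_hasPullback snd (b i)).paste_horiz sq)

/-- The universal form of a cart local property is equivalent to its form over affine schemes. -/
theorem univSp_iff_affine (hΦ : CartLocal @Φ) {F G : Sp S} (f : F ⟶ G) :
    UnivSp (fun _ _ f ↦ Φ (Points.map f)) f ↔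
      ∀ (Z : Over S), IsAffine Z.left → ∀ (g : (yon S).obj Z ⟶ G) (P : Sp S) (fst : P ⟶ F)
        (snd : P ⟶ (yon S).obj Z), IsPullback fst snd f g → Φ (Points.map snd) :=
  ⟨fun h _ _ g _ fst snd sq ↦ h (IsAlgSpace.yon_obj _) g fst snd sq,
    fun h _ _ hZ g fst snd sq ↦ of_affine hΦ f h hZ g fst snd sq⟩

/-- The universal form of a cart local property descends along representable etale surjections
from schemes. -/
theorem univSp_of_cover (hΦ : CartLocal @Φ) {F G : Sp S} (hG : Representable (Limits.diag G))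
    {f : F ⟶ G} {V : Over S} {p : (yon S).obj V ⟶ G} (hp : RepWith @Etale p)
    (hps : RepWith @Surjective p) {P : Sp S} {fst : P ⟶ F} {snd : P ⟶ (yon S).obj V}
    (sq : IsPullback fst snd f p) (h : UnivSp (fun _ _ f ↦ Φ (Points.map f)) snd) :
    UnivSp (fun _ _ f ↦ Φ (Points.map f)) f := by
  refine (univSp_iff_affine hΦ f).2 fun Z _ g Q fst' snd' sq' ↦ ?_
  obtain ⟨T, t, v, sqT⟩ := exists_isPullback_yon hG g p
  have het : RepWith @Etale ((yon S).map t) := repWith_baseChange sqT.flip hp
  have hsu : RepWith @Surjective ((yon S).map t) := repWith_baseChange sqT.flip hps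
  have sq2 := IsPullback.of_hasPullback snd' ((yon S).map t)
  have sq3 := sq2.paste_horiz sq'
  rw [sqT.w] at sq3
  have sq4 := IsPullback.of_right' sq3 sq
  refine hΦ (ι := PUnit) (Points.map snd') (fun _ ↦ Points.map (pullback.snd snd' ((yon S).map t)))
    (fun _ ↦ Points.map (pullback.fst snd' ((yon S).map t))) (fun _ ↦ Points.map ((yon S).map t))
    ⟨fun _ a ↦ ?_, fun _ a c e ↦ ?_, fun _ ↦ Points.continuous_map _,
      fun _ ↦ Points.continuous_map _,
      fun _ ↦ isOpenMap_map (repWith_mono het fun _ _ e (_ : Etale e) ↦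
        (inferInstance : UniversallyOpen e)), fun z ↦ ?_⟩ (Points.continuous_map _) fun _ ↦ ?_
  · rw [← Points.map_comp, ← Points.map_comp, pullback.condition]
  · exact exists_of_isPullback sq2 a c e
  · obtain ⟨y, hy⟩ := surjective_map hsu z
    exact ⟨⟨⟩, y, hy⟩
  · exact h (IsAlgSpace.yon_obj T) _ _ _ sq4

/-! ### Comparison with the representable notions -/

/-- `Points.map (h_g)` is the map underlying `g` up to homeomorphisms. -/
theorem isOpenMap_yon_map_iff {U V : Over S} (g : U ⟶ V) :
    IsOpenMap (Points.map ((yon S).map g)) ↔ IsOpenMap g.left := by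
  rw [Points.map_yon_map_eq]
  refine ⟨fun h ↦ ?_, fun h ↦ (Points.schemeHomeo V).isOpenMap.comp
    (h.comp (Points.schemeHomeo U).symm.isOpenMap)⟩
  have := ((Points.schemeHomeo V).symm.isOpenMap.comp h).comp (Points.schemeHomeo U).isOpenMap
  simpa [Function.comp_def] using this

theorem isClosedMap_yon_map_iff {U V : Over S} (g : U ⟶ V) :
    IsClosedMap (Points.map ((yon S).map g)) ↔ IsClosedMap g.left := by
  rw [Points.map_yon_map_eq]
  refine ⟨fun h ↦ ?_, fun h ↦ (Points.schemeHomeo V).isClosedMap.comp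
    (h.comp (Points.schemeHomeo U).symm.isClosedMap)⟩
  have := ((Points.schemeHomeo V).symm.isClosedMap.comp h).comp (Points.schemeHomeo U).isClosedMap
  simpa [Function.comp_def] using this

theorem injective_yon_map_iff {U V : Over S} (g : U ⟶ V) :
    Function.Injective (Points.map ((yon S).map g)) ↔ Function.Injective g.left := by
  rw [Points.map_yon_map_eq]
  exact ((Points.schemeHomeo V).injective.of_comp_iff _).trans
    (Function.Injective.of_comp_iff' _ (Points.schemeHomeo U).symm.bijective)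

theorem surjective_yon_map_iff {U V : Over S} (g : U ⟶ V) :
    Function.Surjective (Points.map ((yon S).map g)) ↔ Function.Surjective g.left := by
  rw [Points.map_yon_map_eq]
  exact (Function.Surjective.of_comp_iff' (Points.schemeHomeo V).bijective _).trans
    ((Points.schemeHomeo U).symm.surjective.of_comp_iff _)

theorem isQuotientMap_yon_map_iff {U V : Over S} (g : U ⟶ V) :
    IsQuotientMap (Points.map ((yon S).map g)) ↔ IsQuotientMap g.left := by
  rw [Points.map_yon_map_eq]
  refine ⟨fun h ↦ ?_, fun h ↦ (Points.schemeHomeo V).isQuotientMap.comp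
    (h.comp (Points.schemeHomeo U).symm.isQuotientMap)⟩
  have := ((Points.schemeHomeo V).symm.isQuotientMap.comp h).comp
    (Points.schemeHomeo U).isQuotientMap
  simpa [Function.comp_def] using this

theorem isHomeomorph_yon_map_iff {U V : Over S} (g : U ⟶ V) :
    IsHomeomorph (Points.map ((yon S).map g)) ↔ IsHomeomorph g.left := by
  rw [Points.map_yon_map_eq]
  refine ⟨fun h ↦ ?_, fun h ↦ (Points.schemeHomeo V).isHomeomorph.comp
    (h.comp (Points.schemeHomeo U).symm.isHomeomorph)⟩
  have := ((Points.schemeHomeo V).symm.isHomeomorph.comp h).comp (Points.schemeHomeo U).isHomeomorph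
  simpa [Function.comp_def] using this

/-- For a representable morphism, `RepWith (universally Ψ)` agrees with the universal property on
points, for `Ψ` corresponding to `Φ` on maps between representable sheaves. -/
theorem repWith_universally_iff (hΦ : CartLocal @Φ) {Ψ : MorphismProperty Scheme.{u}}
    (hΨ : ∀ {U V : Over S} (g : U ⟶ V), Φ (Points.map ((yon S).map g)) ↔ Ψ g.left)
    (hiso : ∀ {A A' B : Sp S} (e : A ≅ A') (f : A' ⟶ B),
      Φ (Points.map (e.hom ≫ f)) ↔ Φ (Points.map f)) [Ψ.RespectsIso]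
    {F G : Sp S} {f : F ⟶ G} (hf : Representable f) :
    RepWith Ψ.universally f ↔ UnivSp (fun _ _ f ↦ Φ (Points.map f)) f := by
  constructor
  · intro h
    refine (univSp_iff_affine hΦ f).2 fun Z _ g P fst snd sq ↦ ?_
    let e := (hf.isPullback g).isoIsPullback _ _ sq
    rw [← hiso e, show e.hom ≫ snd = (yon S).map (hf.snd g) by simp [e], hΨ]
    exact MorphismProperty.universally_le Ψ _ (h.property g _ _ (hf.isPullback g))
  · intro h
    refine repWith_of_exists fun T ξ ↦ ⟨_, hf.snd ξ, hf.fst ξ, hf.isPullback ξ, ?_⟩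
    intro X' Y' i₁ i₂ f' hpb
    let T' : Over S := Over.mk (i₂ ≫ T.hom)
    let V' : Over S := Over.mk (i₁ ≫ (hf.pullback ξ).hom)
    let i₂' : T' ⟶ T := Over.homMk i₂ rfl
    let i₁' : V' ⟶ hf.pullback ξ := Over.homMk i₁ rfl
    let g' : V' ⟶ T' := Over.homMk f' (by
      have hw : i₁ ≫ (hf.snd ξ).left = f' ≫ i₂ := hpb.flip.w
      simp only [T', V', Over.mk_hom]
      rw [← Category.assoc, ← hw, Category.assoc, Over.w])
    have sq : IsPullback i₁' g' (hf.snd ξ) i₂' :=
      IsPullback.of_map_of_faithful (Over.forget S) hpb.flip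
    have h2 := (isPullback_yon sq).paste_horiz (hf.isPullback ξ)
    exact (hΨ g').1 (h (IsAlgSpace.yon_obj T') _ _ _ h2)

theorem map_iso_comp {A A' B : Sp S} (e : A ≅ A') (f : A' ⟶ B) :
    Points.map (e.hom ≫ f) = Points.map f ∘ Points.map e.hom :=
  funext fun x ↦ Points.map_comp _ _ x

/-- An isomorphism of sheaves gives a homeomorphism of points. -/
noncomputable def homeoOfIso {A A' : Sp S} (e : A ≅ A') : Points A ≃ₜ Points A' where
  toFun := Points.map e.hom
  invFun := Points.map e.inv
  left_inv x := by rw [← Points.map_comp, e.hom_inv_id, Points.map_id]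
  right_inv x := by rw [← Points.map_comp, e.inv_hom_id, Points.map_id]
  continuous_toFun := Points.continuous_map _
  continuous_invFun := Points.continuous_map _

theorem isHomeomorph_map_iso {A A' : Sp S} (e : A ≅ A') : IsHomeomorph (Points.map e.hom) :=
  (homeoOfIso e).isHomeomorph

theorem isOpenMap_iso_comp {A A' B : Sp S} (e : A ≅ A') (f : A' ⟶ B) :
    IsOpenMap (Points.map (e.hom ≫ f)) ↔ IsOpenMap (Points.map f) := by
  refine ⟨fun h ↦ ?_, fun h ↦ by
    rw [map_iso_comp]; exact h.comp (isHomeomorph_map_iso e).isOpenMap⟩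
  have h' : Points.map f = Points.map (e.hom ≫ f) ∘ Points.map e.inv := by
    rw [show e.inv = e.symm.hom from rfl, ← map_iso_comp e.symm]; simp
  rw [h']
  exact h.comp (isHomeomorph_map_iso e.symm).isOpenMap

theorem isClosedMap_iso_comp {A A' B : Sp S} (e : A ≅ A') (f : A' ⟶ B) :
    IsClosedMap (Points.map (e.hom ≫ f)) ↔ IsClosedMap (Points.map f) := by
  refine ⟨fun h ↦ ?_, fun h ↦ by
    rw [map_iso_comp]; exact h.comp (isHomeomorph_map_iso e).isClosedMap⟩
  have h' : Points.map f = Points.map (e.hom ≫ f) ∘ Points.map e.inv := by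
    rw [show e.inv = e.symm.hom from rfl, ← map_iso_comp e.symm]; simp
  rw [h']
  exact h.comp (isHomeomorph_map_iso e.symm).isClosedMap

theorem injective_iso_comp {A A' B : Sp S} (e : A ≅ A') (f : A' ⟶ B) :
    Function.Injective (Points.map (e.hom ≫ f)) ↔ Function.Injective (Points.map f) := by
  rw [map_iso_comp]
  exact Function.Injective.of_comp_iff' _ (isHomeomorph_map_iso e).bijective

theorem isQuotientMap_iso_comp {A A' B : Sp S} (e : A ≅ A') (f : A' ⟶ B) :
    IsQuotientMap (Points.map (e.hom ≫ f)) ↔ IsQuotientMap (Points.map f) := by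
  refine ⟨fun h ↦ ?_, fun h ↦ by
    rw [map_iso_comp]; exact h.comp (homeoOfIso e).isQuotientMap⟩
  have h' : Points.map f = Points.map (e.hom ≫ f) ∘ Points.map e.inv := by
    rw [show e.inv = e.symm.hom from rfl, ← map_iso_comp e.symm]; simp
  rw [h']
  exact h.comp (homeoOfIso e.symm).isQuotientMap

theorem isHomeomorph_iso_comp {A A' B : Sp S} (e : A ≅ A') (f : A' ⟶ B) :
    IsHomeomorph (Points.map (e.hom ≫ f)) ↔ IsHomeomorph (Points.map f) := by
  refine ⟨fun h ↦ ?_, fun h ↦ by
    rw [map_iso_comp]; exact h.comp (isHomeomorph_map_iso e)⟩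
  have h' : Points.map f = Points.map (e.hom ≫ f) ∘ Points.map e.inv := by
    rw [show e.inv = e.symm.hom from rfl, ← map_iso_comp e.symm]; simp
  rw [h']
  exact h.comp (isHomeomorph_map_iso e.symm)


instance : (topologically @IsOpenMap).RespectsIso :=
  topologically_respectsIso _ (fun f ↦ f.isOpenMap) fun _ _ hf hg ↦ hg.comp hf

instance : (topologically @IsClosedMap).RespectsIso :=
  topologically_respectsIso _ (fun f ↦ f.isClosedMap) fun _ _ hf hg ↦ hg.comp hf

instance : (topologically (fun f ↦ IsQuotientMap f)).RespectsIso :=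
  topologically_respectsIso _ (fun f ↦ f.isQuotientMap) fun _ _ hf hg ↦ hg.comp hf

instance : (topologically (fun f ↦ IsHomeomorph f)).RespectsIso :=
  topologically_respectsIso _ (fun f ↦ f.isHomeomorph) fun _ _ hf hg ↦ hg.comp hf

end Groth.Agent.Lib.AlgSpMor.Topo
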