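import Groth.Agent.Lib.AlgSpace.OpenSub
import Groth.Agent.Lib.AlgSpMor.Topo
import Mathlib.AlgebraicGeometry.Limits
import Mathlib.AlgebraicGeometry.Morphisms.QuasiCompact

/-!
# Quasi-compact morphisms of algebraic spaces

Quasi-compactness of an algebraic space is compactness of its space of points; quasi-compactness
of a morphism can be tested after base change to affine schemes.
-/

universe u

open CategoryTheory CategoryTheory.Limits AlgebraicGeometry Topology
open Groth.Agent.Lib.AlgSpace

namespace Groth.Agent.Lib.AlgSpMor.QC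

open AlgSp (Sp yon Representable RepWith IsAlgSpace IsQuasiCompactSp IsQuasiCompactMor)
open AlgSp

variable {S : Scheme.{u}}

theorem compactSpace_points {F : Sp S} (h : IsQuasiCompactSp F) : CompactSpace (Points F) := by
  obtain ⟨U, p, -, hs, (hc : CompactSpace ↥U.left)⟩ := h
  refine ⟨?_⟩
  rw [← Set.image_univ_of_surjective (surjective_ofPt hs)]
  exact isCompact_univ.image (Points.continuous_ofPt p)

/-- An algebraic space with compact space of points has an affine etale atlas. -/
theorem exists_affine_atlas {F : Sp S} (hF : IsAlgSpace F) [CompactSpace (Points F)] :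
    ∃ (U : Over S) (p : (yon S).obj U ⟶ F),
      IsAffine U.left ∧ RepWith @Etale p ∧ RepWith @Surjective p := by
  obtain ⟨U, p, he, hs⟩ := hF.atlas
  have hcov : ∀ x : Points F, ∃ O : U.left.affineOpens, x ∈ Points.ofPt p '' (O.1 : Set ↥U.left) := by
    intro x
    obtain ⟨v, rfl⟩ := surjective_ofPt hs x
    obtain ⟨O, hO, hv, -⟩ := exists_isAffineOpen_mem_and_subset (U := ⊤) (Set.mem_univ v)
    exact ⟨⟨O, hO⟩, v, hv, rfl⟩
  obtain ⟨s, hs'⟩ := isCompact_univ.elim_finite_subcover
    (fun O : U.left.affineOpens ↦ Points.ofPt p '' (O.1 : Set ↥U.left))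
    (fun O ↦ isOpenMap_ofPt he _ O.1.2) (fun x _ ↦ Set.mem_iUnion.2 (hcov x))
  let O' : ↥s → U.left.Opens := fun x ↦ x.1.1
  have : ∀ i, IsAffine (O' i).toScheme := fun i ↦ i.1.2
  have he' : RepWith @Etale ((yon S).map (opensSigmaMap O') ≫ p) :=
    repWith_comp (repWith_etale_yon_map (etale_opensSigmaMap O')) he
  refine ⟨opensSigma O', _, inferInstanceAs (IsAffine (∐ fun i ↦ (O' i).toScheme)), he',
    repWith_of_exists fun T ξ ↦ ?_⟩
  obtain ⟨V, g, fst, sq, -⟩ := repWith_exists he' ξ
  refine ⟨V, g, fst, sq, ⟨fun t ↦ ?_⟩⟩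
  obtain ⟨i, hi, v, hv, hx⟩ := Set.mem_iUnion₂.1 (hs' (Set.mem_univ (Points.ofPt ξ t)))
  have ht : t ∈ Points.ofPt ξ ⁻¹'
      (Points.map ((yon S).map (opensSigmaMap O') ≫ p) '' Set.univ) := by
    refine ⟨Points.ofScheme _ (Sigma.ι (fun i ↦ (O' i).toScheme) ⟨i, hi⟩ ⟨v, hv⟩), trivial, ?_⟩
    rw [← Points.ofPt_eq_map_ofScheme, ofPt_yon_map_comp, opensSigmaMap_apply]
    exact hx
  rw [preimage_image_map sq] at ht
  obtain ⟨w, -, hw⟩ := ht
  exact ⟨w, hw⟩

/-- An algebraic space is quasi-compact iff its space of points is compact. -/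
theorem isQuasiCompactSp_iff {F : Sp S} (hF : IsAlgSpace F) :
    IsQuasiCompactSp F ↔ CompactSpace (Points F) :=
  ⟨compactSpace_points, fun h ↦ by
    obtain ⟨U, p, hU, he, hs⟩ := @exists_affine_atlas S F hF h
    exact ⟨U, p, he, hs, (inferInstance : CompactSpace ↥U.left)⟩⟩

theorem compactSpace_yon {T : Over S} [CompactSpace ↥T.left] :
    CompactSpace (Points ((yon S).obj T)) :=
  (Points.schemeHomeo T).compactSpace

theorem isQuasiCompactSp_yon {T : Over S} [CompactSpace ↥T.left] :
    IsQuasiCompactSp ((yon S).obj T) :=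
  (isQuasiCompactSp_iff (IsAlgSpace.yon_obj T)).2 compactSpace_yon

theorem compactSpace_of_surjective {F G : Sp S} {q : F ⟶ G} [CompactSpace (Points F)]
    (hq : Function.Surjective (Points.map q)) : CompactSpace (Points G) := by
  refine ⟨?_⟩
  rw [← Set.image_univ_of_surjective hq]
  exact isCompact_univ.image (Points.continuous_map q)

/-- Base changes of surjective-on-points maps are surjective on points. -/
theorem surjective_of_isPullback {F G F' G' : Sp S} {f : F ⟶ G} {g : G' ⟶ G} {fst : F' ⟶ F}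
    {snd : F' ⟶ G'} (sq : IsPullback fst snd f g) (hf : Function.Surjective (Points.map f)) :
    Function.Surjective (Points.map snd) := by
  intro y
  obtain ⟨x, hx⟩ := hf (Points.map g y)
  obtain ⟨z, -, hz⟩ := exists_of_isPullback sq x y hx
  exact ⟨z, hz⟩

theorem surjective_of_isPullback' {F G F' G' : Sp S} {f : F ⟶ G} {g : G' ⟶ G} {fst : F' ⟶ F}
    {snd : F' ⟶ G'} (sq : IsPullback fst snd f g) (hg : Function.Surjective (Points.map g)) :
    Function.Surjective (Points.map fst) :=
  surjective_of_isPullback sq.flip hg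

/-- It suffices to test quasi-compactness of a morphism on affine schemes over the target. -/
theorem isQuasiCompactMor_of_affine {F G : Sp S} {f : F ⟶ G} (hF : IsAlgSpace F)
    (hG : Representable (Limits.diag G))
    (h : ∀ (Z : Over S), IsAffine Z.left → ∀ (g : (yon S).obj Z ⟶ G) (P : Sp S) (fst : P ⟶ F)
      (snd : P ⟶ (yon S).obj Z), IsPullback fst snd f g → CompactSpace (Points P)) :
    IsQuasiCompactMor f := by
  intro Z Z' hZ hZc g fst snd sq
  haveI := compactSpace_points hZc
  obtain ⟨W, w, hW, -, hws⟩ := exists_affine_atlas hZ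
  refine (isQuasiCompactSp_iff (isAlgSpace_of_isPullback sq hG hF hZ)).2 ?_
  have sq2 := IsPullback.of_hasPullback snd w
  haveI := h W hW (w ≫ g) _ _ _ (sq2.paste_horiz sq)
  exact compactSpace_of_surjective (surjective_of_isPullback' sq2 (surjective_map hws))

theorem compactSpace_of_isQuasiCompactMor {F G : Sp S} {f : F ⟶ G} (hf : IsQuasiCompactMor f)
    {Z : Over S} [CompactSpace ↥Z.left] {g : (yon S).obj Z ⟶ G} {P : Sp S} {fst : P ⟶ F}
    {snd : P ⟶ (yon S).obj Z} (sq : IsPullback fst snd f g) : CompactSpace (Points P) :=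
  compactSpace_points (hf (IsAlgSpace.yon_obj Z) isQuasiCompactSp_yon g fst snd sq)

theorem isQuasiCompactMor_iff_affine {F G : Sp S} {f : F ⟶ G} (hF : IsAlgSpace F)
    (hG : Representable (Limits.diag G)) :
    IsQuasiCompactMor f ↔
    ∀ (Z : Over S), IsAffine Z.left → ∀ (g : (yon S).obj Z ⟶ G) (P : Sp S) (fst : P ⟶ F)
      (snd : P ⟶ (yon S).obj Z), IsPullback fst snd f g → CompactSpace (Points P) :=
  ⟨fun hf Z hZ g P fst snd sq ↦ by
    haveI : CompactSpace ↥Z.left := inferInstance
    exact compactSpace_of_isQuasiCompactMor hf sq, isQuasiCompactMor_of_affine hF hG⟩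

theorem isQuasiCompactMor_comp {X Y Z : Sp S} {f : X ⟶ Y} {g : Y ⟶ Z} (hY : IsAlgSpace Y)
    (hZ : Representable (Limits.diag Z)) (hf : IsQuasiCompactMor f) (hg : IsQuasiCompactMor g) :
    IsQuasiCompactMor (f ≫ g) := by
  intro W W' hW hWc a fst snd sq
  have sqg := IsPullback.of_hasPullback g a
  have sqf : IsPullback fst (sqg.lift (fst ≫ f) snd (by rw [Category.assoc, sq.w])) f
      (pullback.fst g a) :=
    IsPullback.of_bot (by simpa using sq) (sqg.lift_fst _ _ _).symm sqg
  exact hf (isAlgSpace_of_isPullback sqg hZ hY hW) (hg hW hWc a _ _ sqg) _ _ _ sqf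

/-- A representable quasi-compact morphism to a quasi-compact space has quasi-compact source. -/
theorem compactSpace_of_repWith {F G : Sp S} {f : F ⟶ G} (hf : RepWith @QuasiCompact f)
    (hG : IsAlgSpace G) [CompactSpace (Points G)] : CompactSpace (Points F) := by
  obtain ⟨W, w, hW, -, hws⟩ := exists_affine_atlas hG
  obtain ⟨V, v, fst, sq, hv⟩ := repWith_exists hf w
  have : QuasiCompact v.left := hv
  haveI : CompactSpace ↥V.left := QuasiCompact.compactSpace_of_compactSpace v.left
  haveI := compactSpace_yon (T := V)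
  exact compactSpace_of_surjective (surjective_of_isPullback' sq (surjective_map hws))

theorem isQuasiCompactMor_of_repWith {F G : Sp S} {f : F ⟶ G} (hf : RepWith @QuasiCompact f) :
    IsQuasiCompactMor f := by
  intro Z Z' hZ hZc g fst snd sq
  haveI := compactSpace_points hZc
  have h := repWith_baseChange sq hf
  exact (isQuasiCompactSp_iff (isAlgSpace_of_representable h.rep hZ)).2
    (compactSpace_of_repWith h hZ)

theorem repWith_quasiCompact_iff {F G : Sp S} {f : F ⟶ G} (hf : Representable f) :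
    RepWith @QuasiCompact f ↔ IsQuasiCompactMor f := by
  refine ⟨isQuasiCompactMor_of_repWith, fun h ↦ repWith_of_exists fun U ξ ↦
    ⟨_, hf.snd ξ, hf.fst ξ, hf.isPullback ξ, ?_⟩⟩
  refine quasiCompact_iff_forall_isAffineOpen.2 fun O hO ↦ ?_
  let j : Topo.opensOver O ⟶ U := Topo.opensOverι O
  haveI : IsAffine (Topo.opensOver O).left := hO
  have sq2 := IsPullback.of_hasPullback ((yon S).map (hf.snd ξ)) ((yon S).map j)
  haveI := compactSpace_of_isQuasiCompactMor h (sq2.paste_horiz (hf.isPullback ξ))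
  have key : (hf.snd ξ).left ⁻¹' (O : Set ↥U.left) =
      Set.range (fun z ↦ (Points.schemeHomeo _).symm
        (Points.map (pullback.fst ((yon S).map (hf.snd ξ)) ((yon S).map j)) z)) := by
    ext v
    constructor
    · intro hv
      obtain ⟨z, hz, -⟩ := exists_of_isPullback sq2 (Points.schemeHomeo _ v)
        (Points.schemeHomeo _ (⟨(hf.snd ξ).left v, hv⟩ : ↥(Topo.opensOver O).left)) (by
          simp only [Points.map_yon_map_eq, Function.comp_apply, Homeomorph.symm_apply_apply]
          rfl)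
      exact ⟨z, by simp [hz]⟩
    · rintro ⟨z, rfl⟩
      have := congrArg (fun w ↦ (Points.schemeHomeo U).symm w)
        (congr_fun (congrArg Points.map sq2.w) z)
      simp only [Points.map_comp, Points.map_yon_map_eq, Function.comp_apply,
        Homeomorph.symm_apply_apply] at this
      simp only [Set.mem_preimage, SetLike.mem_coe]
      rw [this]
      exact Subtype.prop _
  show IsCompact ((hf.snd ξ).left ⁻¹' (O : Set ↥U.left))
  rw [key]
  exact isCompact_range ((Points.schemeHomeo _).symm.continuous.comp (Points.continuous_map _))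

/-- Descent of quasi-compactness of morphisms: along a base change which is universally open and
surjective on points. -/
theorem isQuasiCompactMor_of_cover {X Y Y' X' : Sp S} {f : X ⟶ Y} {g : Y' ⟶ Y} {fst : X' ⟶ X}
    {f' : X' ⟶ Y'} (sq : IsPullback fst f' f g) (hX : IsAlgSpace X)
    (hY : Representable (Limits.diag Y)) (hY' : IsAlgSpace Y')
    (hgo : ∀ (Z : Over S), IsAffine Z.left → ∀ (a : (yon S).obj Z ⟶ Y) (Q : Sp S) (q₁ : Q ⟶ Y')
      (q₂ : Q ⟶ (yon S).obj Z), IsPullback q₁ q₂ g a → IsOpenMap (Points.map q₂))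
    (hgs : Function.Surjective (Points.map g)) (hf' : IsQuasiCompactMor f') :
    IsQuasiCompactMor f := by
  refine isQuasiCompactMor_of_affine hX hY fun Z hZ a P p₁ p₂ sqP ↦ ?_
  have sqQ := IsPullback.of_hasPullback g a
  have hQ : IsAlgSpace (pullback g a) := isAlgSpace_of_isPullback sqQ hY hY' (IsAlgSpace.yon_obj Z)
  have hopen := hgo Z hZ a _ _ _ sqQ
  have hsurj := surjective_of_isPullback sqQ hgs
  obtain ⟨ι, W, b, hW, hb, hbs⟩ := Topo.exists_affine_charts hQ
  haveI : CompactSpace (Points ((yon S).obj Z)) := compactSpace_yon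
  obtain ⟨s, hs⟩ := isCompact_univ.elim_finite_subcover
    (fun i ↦ Points.map (pullback.snd g a) '' Set.range (Points.ofPt (b i)))
    (fun i ↦ hopen _ (isOpenMap_ofPt (hb i)).isOpen_range) (fun z _ ↦ by
      obtain ⟨q, rfl⟩ := hsurj z
      obtain ⟨i, w, rfl⟩ := hbs q
      exact Set.mem_iUnion.2 ⟨i, _, ⟨w, rfl⟩, rfl⟩)
  have sqR := fun i : ι ↦ IsPullback.of_hasPullback p₂ (b i ≫ pullback.snd g a)
  have hR : ∀ i, CompactSpace (Points (pullback p₂ (b i ≫ pullback.snd g a))) := fun i ↦ by
    haveI := hW i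
    have h1 := (sqR i).paste_horiz sqP
    rw [Category.assoc, ← sqQ.w, ← Category.assoc] at h1
    exact compactSpace_of_isQuasiCompactMor hf' (IsPullback.of_right' h1 sq)
  refine ⟨?_⟩
  have hu : (Set.univ : Set (Points P)) =
      ⋃ i ∈ s, Set.range (Points.map (pullback.fst p₂ (b i ≫ pullback.snd g a))) := by
    refine (Set.eq_univ_of_forall fun x ↦ ?_).symm
    obtain ⟨i, hi, q, ⟨w, rfl⟩, hq⟩ := Set.mem_iUnion₂.1 (hs (Set.mem_univ (Points.map p₂ x)))
    rw [Points.map_ofPt, Points.ofPt_eq_map_ofScheme] at hq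
    obtain ⟨r, hr, -⟩ := exists_of_isPullback (sqR i) x _ hq.symm
    exact Set.mem_iUnion₂.2 ⟨i, hi, r, hr⟩
  rw [hu]
  exact s.isCompact_biUnion fun i _ ↦ @isCompact_range _ _ _ _ (hR i) _ (Points.continuous_map _)

end Groth.Agent.Lib.AlgSpMor.QC
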