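import Mathlib.AlgebraicGeometry.ZariskisMainTheorem
import Mathlib.AlgebraicGeometry.Morphisms.FlatDescent
import Groth.Agent.Lib.AlgSpace.DiagProp
import Groth.Agent.Lib.AlgSpace.Props
import Groth.Agent.Lib.AlgSpMor.QC

/-!
# Diagonals of morphisms of algebraic spaces

Properties of relative diagonals, separatedness and quasi-separatedness: affine criterion, descent.
-/

universe u

open CategoryTheory CategoryTheory.Limits AlgebraicGeometry
open Groth.Agent.Lib.AlgSpace

namespace Groth.Agent.Lib.AlgSpMor.Sep

attribute [local simp] pullback.lift_fst pullback.lift_snd pullback.lift_fst_assoc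
  pullback.lift_snd_assoc prod.lift_fst prod.lift_snd prod.lift_fst_assoc prod.lift_snd_assoc

open AlgSp (Sp yon Representable RepWith IsAlgSpace IsSeparatedMor IsQuasiSeparatedMor)
open AlgSp

section Schemes

theorem locallyQuasiFinite_of_mono {X Y : Scheme.{u}} (f : X ⟶ Y) [Mono f]
    [LocallyOfFiniteType f] : LocallyQuasiFinite f :=
  locallyQuasiFinite_of_formallyUnramified f

/-- Closed immersions are the universally closed monomorphisms locally of finite type. -/
theorem isClosedImmersion_eq :
    (@IsClosedImmersion : MorphismProperty Scheme.{u}) =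
      ((@UniversallyClosed : MorphismProperty Scheme.{u}) ⊓
        (@LocallyOfFiniteType : MorphismProperty Scheme.{u}) : MorphismProperty Scheme.{u}) ⊓
      MorphismProperty.monomorphisms Scheme.{u} := by
  ext X Y f
  refine ⟨fun h ↦ ⟨⟨inferInstance, inferInstance⟩, (inferInstance : Mono f)⟩, fun ⟨⟨h1, h2⟩, h3⟩ ↦ ?_⟩
  have : Mono f := h3
  exact (IsClosedImmersion.iff_isProper_and_mono f).2 ⟨{ }, inferInstance⟩

instance monomorphisms_descendsAlong :
    (MorphismProperty.monomorphisms Scheme.{u}).DescendsAlong (@Surjective ⊓ @Flat ⊓ @QuasiCompact) :=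
  (MorphismProperty.diagonal_isomorphisms (C := Scheme.{u})) ▸ inferInstance

instance isClosedImmersion_descendsAlong :
    MorphismProperty.DescendsAlong @IsClosedImmersion.{u} (@Surjective ⊓ @Flat ⊓ @QuasiCompact) :=
  isClosedImmersion_eq.{u} ▸ inferInstance

theorem isLocalAtTarget_fppf_isClosedImmersion :
    MorphismProperty.IsLocalAtTarget @IsClosedImmersion.{u} Scheme.fppfPrecoverage :=
  isLocalAtTarget_fppf _

end Schemes

variable {S : Scheme.{u}}

/-- The relative diagonal is a base change of the absolute one. -/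
theorem isPullback_diagonal_diag {F G : Sp S} (f : F ⟶ G) :
    IsPullback (𝟙 F) (pullback.diagonal f) (Limits.diag F)
      (prod.lift (pullback.fst f f) (pullback.snd f f)) := by
  refine isPullback_of_yon (prod.hom_ext (by simp) (by simp)) (fun T c c' h _ ↦ by simpa using h)
    fun T a b w ↦ ⟨a, by simp, pullback.hom_ext ?_ ?_⟩
  · have h := congr($w ≫ prod.fst)
    simp only [Category.assoc, prod.lift_fst] at h
    simpa using h
  · have h := congr($w ≫ prod.snd)
    simp only [Category.assoc, prod.lift_snd] at h
    simpa using h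

theorem repWith_diagonal_of_diag (P : MorphismProperty Scheme.{u}) {F G : Sp S} (f : F ⟶ G)
    (h : RepWith P (Limits.diag F)) : RepWith P (pullback.diagonal f) :=
  repWith_baseChange (isPullback_diagonal_diag f) h

theorem representable_diagonal {F G : Sp S} (f : F ⟶ G) (hF : Representable (Limits.diag F)) :
    Representable (pullback.diagonal f) :=
  representable_baseChange (isPullback_diagonal_diag f) hF

/-- The basic properties of relative diagonals of algebraic spaces. -/
theorem diagonal_props {F G : Sp S} (f : F ⟶ G) (hF : IsAlgSpace F) :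
    Representable (pullback.diagonal f) ∧
    RepWith @LocallyOfFiniteType (pullback.diagonal f) ∧
    RepWith (MorphismProperty.monomorphisms Scheme.{u}) (pullback.diagonal f) ∧
    RepWith @IsSeparated (pullback.diagonal f) ∧
    RepWith (@LocallyQuasiFinite ⊓ @LocallyOfFiniteType) (pullback.diagonal f) := by
  have h1 := repWith_diagonal_of_diag _ f (repWith_diag_locallyOfFiniteType hF)
  have h2 := repWith_diagonal_of_diag _ f (repWith_diag_monomorphisms hF.diag)
  refine ⟨representable_diagonal f hF.diag, h1, h2,
    repWith_mono h2 fun _ _ g (_ : Mono g) ↦ inferInstance, ⟨h1.1, fun U V g a b sq ↦ ?_⟩⟩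
  have h3 : LocallyOfFiniteType b.left := repWith_property h1 sq
  have h4 : Mono b.left := repWith_property h2 sq
  exact ⟨@locallyQuasiFinite_of_mono _ _ b.left h4 h3, h3⟩

/-- Sections of a morphism are base changes of its diagonal. -/
theorem isPullback_section {X T : Sp S} (f : X ⟶ T) (s : T ⟶ X) (hs : s ≫ f = 𝟙 T) :
    IsPullback s s (pullback.diagonal f)
      (pullback.lift (𝟙 X) (f ≫ s) (by rw [Category.assoc, hs, Category.id_comp, Category.comp_id])) := by
  refine isPullback_of_yon ?_ (fun W c c' h _ ↦ ?_) fun W a b w ↦ ⟨b ≫ f, ?_, ?_⟩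
  · apply pullback.hom_ext <;> simp [reassoc_of% hs]
  · simpa [hs] using congr($h ≫ f)
  all_goals
    have h1 := congr($w ≫ pullback.fst f f)
    have h2 := congr($w ≫ pullback.snd f f)
    simp only [Category.assoc, pullback.diagonal_fst, pullback.diagonal_snd, Category.comp_id,
      pullback.lift_fst, pullback.lift_snd] at h1 h2
    subst h1
    simpa using h2.symm

/-- A base change of the diagonal is the diagonal of the base change. -/
theorem isPullback_diagonal_map {X Y Y' X' : Sp S} {f : X ⟶ Y} {g : Y' ⟶ Y} {fst : X' ⟶ X}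
    {f' : X' ⟶ Y'} (sq : IsPullback fst f' f g) :
    IsPullback fst (pullback.diagonal f') (pullback.diagonal f)
      (pullback.map f' f' f f fst fst g sq.w.symm sq.w.symm) := by
  refine isPullback_of_yon ?_ (fun W c c' _ h ↦ ?_) fun W a b w ↦ ?_
  · apply pullback.hom_ext <;> simp
  · simpa using congr($h ≫ pullback.fst f' f')
  · have h1 := congr($w ≫ pullback.fst f f)
    have h2 := congr($w ≫ pullback.snd f f)
    simp only [Category.assoc, pullback.diagonal_fst, pullback.diagonal_snd, Category.comp_id,
      pullback.map, pullback.lift_fst, pullback.lift_snd] at h1 h2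
    have e : b ≫ pullback.fst f' f' = b ≫ pullback.snd f' f' :=
      sq.hom_ext (by rw [Category.assoc, Category.assoc, ← h1, ← h2])
        (by rw [Category.assoc, Category.assoc, pullback.condition])
    refine ⟨b ≫ pullback.fst f' f', by rw [Category.assoc, ← h1], pullback.hom_ext ?_ ?_⟩
    · simp
    · simpa using e

theorem repWith_diagonal_baseChange {P : MorphismProperty Scheme.{u}} {X Y Y' X' : Sp S}
    {f : X ⟶ Y} {g : Y' ⟶ Y} {fst : X' ⟶ X} {f' : X' ⟶ Y'} (sq : IsPullback fst f' f g)
    (h : RepWith P (pullback.diagonal f)) : RepWith P (pullback.diagonal f') :=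
  repWith_baseChange (isPullback_diagonal_map sq) h

theorem repWith_diagonal_of_eq {P : MorphismProperty Scheme.{u}} {X Y X' Y' : Sp S} {f : X ⟶ Y}
    {f' : X' ⟶ Y'} (e₁ : X' ≅ X) (e₂ : Y' ≅ Y) (w : f' ≫ e₂.hom = e₁.hom ≫ f)
    (h : RepWith P (pullback.diagonal f)) : RepWith P (pullback.diagonal f') :=
  repWith_diagonal_baseChange (IsPullback.of_horiz_isIso ⟨w.symm⟩) h

/-- For algebraic spaces a property of the diagonal which is local for the fppf topology can be
checked after base change to affine schemes over the target. -/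
theorem repWith_diagonal_of_affine {P : MorphismProperty Scheme.{u}} [P.IsStableUnderBaseChange]
    [IsZariskiLocalAtTarget P] {X Y : Sp S} {f : X ⟶ Y} (hX : Representable (Limits.diag X))
    (h : ∀ (Z : Over S), IsAffine Z.left → ∀ (g : (yon S).obj Z ⟶ Y) (Q : Sp S) (fst : Q ⟶ X)
      (snd : Q ⟶ (yon S).obj Z), IsPullback fst snd f g → RepWith P (pullback.diagonal snd)) :
    RepWith P (pullback.diagonal f) := by
  have hr := representable_diagonal f hX
  refine repWith_of_exists fun U ξ ↦ ⟨_, hr.snd ξ, hr.fst ξ, hr.isPullback ξ, ?_⟩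
  refine IsZariskiLocalAtTarget.of_forall_exists_morphismRestrict fun u ↦ ?_
  obtain ⟨O, hO, hu, -⟩ := exists_isAffineOpen_mem_and_subset (U := ⊤) (Set.mem_univ u)
  refine ⟨O, hu, ?_⟩
  let j : Topo.opensOver O ⟶ U := Topo.opensOverι O
  let η := (yon S).map j ≫ ξ ≫ pullback.fst f f ≫ f
  have sqQ := IsPullback.of_hasPullback f η
  have hd := h (Topo.opensOver O) hO η _ _ _ sqQ
  let ξ' : (yon S).obj (Topo.opensOver O) ⟶
      pullback (pullback.snd f η) (pullback.snd f η) :=
    pullback.lift (sqQ.lift ((yon S).map j ≫ ξ ≫ pullback.fst f f) (𝟙 _) (by simp [η]))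
      (sqQ.lift ((yon S).map j ≫ ξ ≫ pullback.snd f f) (𝟙 _)
        (by simp [η, pullback.condition])) (by simp)
  obtain ⟨V, v, a, sqV, hv⟩ := repWith_exists hd ξ'
  have sq2 := sqV.paste_horiz (isPullback_diagonal_map sqQ)
  have e : ξ' ≫ pullback.map _ _ f f (pullback.fst f η) (pullback.fst f η) η sqQ.w.symm sqQ.w.symm =
      (yon S).map j ≫ ξ := by
    apply pullback.hom_ext <;> simp [ξ']
  rw [e] at sq2
  obtain ⟨k, hk, hk'⟩ : ∃ k : (yon S).obj V ⟶ (yon S).obj (hr.pullback ξ),
      k ≫ hr.fst ξ = a ≫ pullback.fst f η ∧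
      k ≫ (yon S).map (hr.snd ξ) = (yon S).map v ≫ (yon S).map j :=
    ⟨(hr.isPullback ξ).lift (a ≫ pullback.fst f η) ((yon S).map v ≫ (yon S).map j)
      (by rw [sq2.w, Category.assoc]), (hr.isPullback ξ).lift_fst _ _ _,
      (hr.isPullback ξ).lift_snd _ _ _⟩
  rw [← hk] at sq2
  have sq3 := IsPullback.of_right sq2 hk' (hr.isPullback ξ)
  obtain ⟨k, rfl⟩ := (yon S).map_surjective k
  have sq4 : IsPullback v.left k.left j.left (hr.snd ξ).left :=
    ((isPullback_of_yon_map sq3).map (Over.forget S)).flip
  have := (isPullback_morphismRestrict (hr.snd ξ).left O).isoIsPullback_hom_fst _ _ sq4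
  rw [← this]
  exact (MorphismProperty.cancel_left_of_respectsIso P _ _).2 hv

/-- Descent of a property of the diagonal along an etale surjection from a scheme. -/
theorem repWith_diagonal_of_cover (P : MorphismProperty Scheme.{u}) [P.IsStableUnderBaseChange]
    [P.IsLocalAtTarget Scheme.fppfPrecoverage] {X Y : Sp S} {f : X ⟶ Y}
    (hX : Representable (Limits.diag X)) {V : Over S} {p : (yon S).obj V ⟶ Y}
    (hp : RepWith @Etale p) (hps : RepWith @Surjective p) {X' : Sp S} {fst : X' ⟶ X}
    {snd : X' ⟶ (yon S).obj V} (sq : IsPullback fst snd f p)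
    (h : RepWith P (pullback.diagonal snd)) : RepWith P (pullback.diagonal f) := by
  have e : IsPullback (pullback.map snd snd f f fst fst p sq.w.symm sq.w.symm)
      (pullback.fst snd snd ≫ snd) (pullback.fst f f ≫ f) p := by
    have h1 := (IsPullback.of_hasPullback snd snd).flip.paste_horiz sq
    rw [← sq.w] at h1
    have h2 : pullback.snd snd snd ≫ fst =
        pullback.map snd snd f f fst fst p sq.w.symm sq.w.symm ≫ pullback.snd f f := by simp
    rw [h2] at h1
    exact (IsPullback.of_right h1 (by simp) (IsPullback.of_hasPullback f f).flip).paste_vert sq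
  have : Sheaf.IsLocallySurjective (pullback.map snd snd f f fst fst p sq.w.symm sq.w.symm) :=
    isLocallySurjective_of_etale (repWith_baseChange e.flip hp) (repWith_baseChange e.flip hps)
  exact repWith_of_isLocallySurjective (representable_diagonal f hX) _
    (isPullback_diagonal_map sq) P h

end Groth.Agent.Lib.AlgSpMor.Sep
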