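import Groth.Prelude.Def_AlgSp3
import Groth.Agent.Lib.AlgSpace.Diag
import Groth.Agent.Lib.AlgSpace.Local
import Groth.Agent.Lib.SourceDescent.Scheme

/-!
# Properties of morphisms of algebraic spaces etale local on the source-and-target

The chart criterion for `AlgSp.LocP P`, composition, base change, cancellation and the comparison
with `AlgSp.RepWith P` for representable morphisms, for `P` satisfying `EtaleLocalST`.
-/

universe u

open CategoryTheory CategoryTheory.Limits AlgebraicGeometry Opposite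
open Groth.Agent.Lib.SourceDescent.Scheme (EtaleLocalST of_postcomp_etale of_isPullback_etale)
open Groth.Agent.Lib.AlgSpace

namespace Groth.Agent.Lib.AlgSpMor.LocP

open AlgSp (Sp yon Representable RepWith IsAlgSpace LocP)

variable {S : Scheme.{u}}

/-- A morphism between two etale charts compatible with the chart maps is etale. -/
theorem etale_of_comm {X : Sp S} {U U' : Over S} {a : (yon S).obj U ⟶ X} {a' : (yon S).obj U' ⟶ X}
    (ha : RepWith @Etale a) (ha' : RepWith @Etale a') (k : U ⟶ U')
    (hk : (yon S).map k ≫ a' = a) : Etale k.left := by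
  have sq := ha'.1.isPullback a
  obtain ⟨q, hq⟩ := (yon S).map_surjective (ha'.1.fst a)
  rw [← hq] at sq
  have h1 : Etale (ha'.1.snd a).left := repWith_property ha' sq
  have h2 : Etale q.left := repWith_property ha sq.flip
  let σ : U ⟶ ha'.1.pullback a :=
    ha'.1.lift (g := a) ((yon S).map k) (𝟙 U) (by simpa using hk)
  have hσ : σ ≫ ha'.1.snd a = 𝟙 U := by simp [σ]
  have : σ ≫ q = k := by
    apply (yon S).map_injective
    rw [Functor.map_comp, hq]
    simp [σ]
  have : Etale σ.left := by
    refine of_postcomp_etale SourceDescent.Scheme.etale σ.left (ha'.1.snd a).left ?_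
    rw [← Over.comp_left, hσ]
    exact (inferInstance : Etale (𝟙 U.left))
  rw [← ‹σ ≫ q = k›, Over.comp_left]
  infer_instance

theorem repWith_etale_comp {X : Sp S} {U U' : Over S} (p : U' ⟶ U) [Etale p.left]
    {a : (yon S).obj U ⟶ X} (ha : RepWith @Etale a) : RepWith @Etale ((yon S).map p ≫ a) :=
  have : MorphismProperty.IsStableUnderComposition (@Etale : MorphismProperty Scheme.{u}) :=
    ⟨fun f g (_ : Etale f) (_ : Etale g) ↦ inferInstanceAs (Etale (f ≫ g))⟩
  repWith_yon_map_comp (inferInstanceAs (Etale p.left)) ha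

theorem repWith_surjective_comp {X : Sp S} {U U' : Over S} (p : U' ⟶ U) [Surjective p.left]
    {a : (yon S).obj U ⟶ X} (ha : RepWith @Surjective a) :
    RepWith @Surjective ((yon S).map p ≫ a) :=
  repWith_yon_map_comp (inferInstanceAs (Surjective p.left)) ha

/-- Charts can be refined to lie over a given chart of the target. -/
theorem exists_chart_over {X Y : Sp S} (hX : IsAlgSpace X) (hY : IsAlgSpace Y) (f : X ⟶ Y)
    {V : Over S} {b : (yon S).obj V ⟶ Y} (hb : RepWith @Etale b) (hbs : RepWith @Surjective b) :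
    ∃ (U : Over S) (a : (yon S).obj U ⟶ X) (h : U ⟶ V),
      RepWith @Etale a ∧ RepWith @Surjective a ∧ a ≫ f = (yon S).map h ≫ b := by
  obtain ⟨U₀, a₀, h₀, h₀s⟩ := hX.atlas
  obtain ⟨U, p, q, sq⟩ := exists_isPullback_yon hY.diag (a₀ ≫ f) b
  have : Etale p.left := repWith_property hb sq.flip
  have : Surjective p.left := repWith_property hbs sq.flip
  exact ⟨U, (yon S).map p ≫ a₀, q, repWith_etale_comp p h₀, repWith_surjective_comp p h₀s,
    by rw [Category.assoc, sq.w]⟩

/-- Chart diagrams exist. -/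
theorem exists_chart {X Y : Sp S} (hX : IsAlgSpace X) (hY : IsAlgSpace Y) (f : X ⟶ Y) :
    ∃ (U V : Over S) (a : (yon S).obj U ⟶ X) (b : (yon S).obj V ⟶ Y) (h : U ⟶ V),
      RepWith @Etale a ∧ RepWith @Surjective a ∧ RepWith @Etale b ∧ RepWith @Surjective b ∧
        a ≫ f = (yon S).map h ≫ b := by
  obtain ⟨V, b, hb, hbs⟩ := hY.atlas
  obtain ⟨U, a, h, ha, has, w⟩ := exists_chart_over hX hY f hb hbs
  exact ⟨U, V, a, b, h, ha, has, hb, hbs, w⟩

/-- One chart diagram with surjective source chart suffices for `LocP`. -/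
theorem locP_of_chart {P : MorphismProperty Scheme.{u}} (hP : EtaleLocalST P) {X Y : Sp S}
    (hX : Representable (Limits.diag X)) (hY : Representable (Limits.diag Y)) {f : X ⟶ Y}
    {U V : Over S} {a : (yon S).obj U ⟶ X} {b : (yon S).obj V ⟶ Y} {h : U ⟶ V}
    (ha : RepWith @Etale a) (has : RepWith @Surjective a) (hb : RepWith @Etale b)
    (comm : a ≫ f = (yon S).map h ≫ b) (hh : P h.left) : LocP P f := by
  intro U' V' a' b' h' ha' hb' comm'
  obtain ⟨U'', p, q, sq⟩ := exists_isPullback_yon hX a a'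
  obtain ⟨W, r, r', sqW⟩ := exists_isPullback_yon hY b b'
  have : Etale p.left := repWith_property ha' sq.flip
  have : Etale q.left := repWith_property ha sq
  have : Surjective q.left := repWith_property has sq
  have : Etale r.left := repWith_property hb' sqW.flip
  have : Etale r'.left := repWith_property hb sqW
  obtain ⟨k, hk⟩ := (yon S).map_surjective (sqW.lift ((yon S).map (p ≫ h)) ((yon S).map (q ≫ h'))
    (by rw [Functor.map_comp, Functor.map_comp, Category.assoc, Category.assoc, ← comm, ← comm',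
      reassoc_of% sq.w]))
  have k1 : k ≫ r = p ≫ h := by
    apply (yon S).map_injective
    rw [Functor.map_comp, hk, sqW.lift_fst]
  have k2 : k ≫ r' = q ≫ h' := by
    apply (yon S).map_injective
    rw [Functor.map_comp, hk, sqW.lift_snd]
  have hPk : P k.left := by
    refine of_postcomp_etale hP k.left r.left ?_
    rw [← Over.comp_left, k1, Over.comp_left]
    exact hP.comp _ _ (hP.etale p.left inferInstance) hh
  refine hP.descends q.left h'.left inferInstance inferInstance ?_
  rw [← Over.comp_left, ← k2, Over.comp_left]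
  exact hP.comp _ _ hPk (hP.etale r'.left inferInstance)

theorem locP_comp {P : MorphismProperty Scheme.{u}} (hP : EtaleLocalST P) {X Y Z : Sp S}
    (hX : IsAlgSpace X) (hY : IsAlgSpace Y) (hZ : IsAlgSpace Z) {f : X ⟶ Y} {g : Y ⟶ Z}
    (hf : LocP P f) (hg : LocP P g) : LocP P (f ≫ g) := by
  obtain ⟨W, V, b, c, h₂, hb, hbs, hc, -, w₂⟩ := exists_chart hY hZ g
  obtain ⟨U, a, h₁, ha, has, w₁⟩ := exists_chart_over hX hY f hb hbs
  refine locP_of_chart hP hX.diag hZ.diag ha has hc (h := h₁ ≫ h₂)
    (by rw [reassoc_of% w₁, w₂, Functor.map_comp, Category.assoc]) ?_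
  rw [Over.comp_left]
  exact hP.comp _ _ (hf a b h₁ ha hb w₁) (hg b c h₂ hb hc w₂)

/-- Cancellation: if `g ≫ f` has `P` and `g` has `R`, then `f` has `P'`, when this holds for schemes. -/
theorem locP_of_comp {P P' R : MorphismProperty Scheme.{u}} (hP' : EtaleLocalST P')
    (hc : ∀ {A B C : Scheme.{u}} (f : A ⟶ B) (g : B ⟶ C), P (f ≫ g) → R g → P' f) {X Y Z : Sp S}
    (hX : IsAlgSpace X) (hY : IsAlgSpace Y) (hZ : IsAlgSpace Z) {f : X ⟶ Y} {g : Y ⟶ Z}
    (hfg : LocP P (f ≫ g)) (hg : LocP R g) : LocP P' f := by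
  obtain ⟨W, V, b, c, h₂, hb, hbs, hc', -, w₂⟩ := exists_chart hY hZ g
  obtain ⟨U, a, h₁, ha, has, w₁⟩ := exists_chart_over hX hY f hb hbs
  refine locP_of_chart hP' hX.diag hY.diag ha has hb w₁ (hc h₁.left h₂.left ?_ (hg b c h₂ hb hc' w₂))
  exact hfg a c (h₁ ≫ h₂) ha hc' (by rw [reassoc_of% w₁, w₂, Functor.map_comp, Category.assoc])

theorem locP_of_isPullback {P : MorphismProperty Scheme.{u}} (hP : EtaleLocalST P) {X Y Y' X' : Sp S}
    (hX : IsAlgSpace X) (hY : IsAlgSpace Y) (hY' : IsAlgSpace Y') {f : X ⟶ Y} {g : Y' ⟶ Y}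
    {fst : X' ⟶ X} {f' : X' ⟶ Y'} (sq : IsPullback fst f' f g) (hf : LocP P f) : LocP P f' := by
  obtain ⟨U, V, a, b, h, ha, has, hb, hbs, w⟩ := exists_chart hX hY f
  obtain ⟨W₀, c, hc, hcs⟩ := hY'.atlas
  have hX' : IsAlgSpace X' := isAlgSpace_of_isPullback sq hY.diag hX hY'
  obtain ⟨T, t₁, t₂, sqT⟩ := exists_isPullback_yon hY.diag b (c ≫ g)
  let Q := Limits.pullback h t₁
  have sqQ := IsPullback.of_hasPullback h t₁
  let u₁ : Q ⟶ U := pullback.fst h t₁
  let u₂ : Q ⟶ T := pullback.snd h t₁
  have wQ : ((yon S).map u₁ ≫ a) ≫ f = ((yon S).map (u₂ ≫ t₂) ≫ c) ≫ g := by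
    simp only [Category.assoc, Functor.map_comp, w]
    rw [← sqT.w, ← (yon S).map_comp_assoc, sqQ.w, (yon S).map_comp_assoc]
  have sqUW : IsPullback ((yon S).map u₁) ((yon S).map (u₂ ≫ t₂)) (a ≫ f) (c ≫ g) := by
    rw [w, Functor.map_comp]
    exact (isPullback_yon sqQ).paste_vert sqT
  let a' : (yon S).obj Q ⟶ X' := sq.lift _ _ wQ
  have key : IsPullback ((yon S).map (prod.lift u₁ (u₂ ≫ t₂))) a'
      ((yonProdIso U W₀).hom ≫ prod.map a c) (prod.lift fst f') := by
    refine isPullback_of_yon (prod.hom_ext ?_ ?_) (fun T x x' h1 _ ↦ sqUW.hom_ext ?_ ?_)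
      (fun T x y e ↦ ?_)
    · simp only [Category.assoc, prod.lift_fst, prod.map_fst, yonProdIso_hom_fst_assoc]
      rw [← (yon S).map_comp_assoc, prod.lift_fst]
      simp [a']
    · simp only [Category.assoc, prod.lift_snd, prod.map_snd, yonProdIso_hom_snd_assoc]
      rw [← (yon S).map_comp_assoc, prod.lift_snd]
      simp [a']
    · simpa only [Category.assoc, ← Functor.map_comp, prod.lift_fst] using
        congr($h1 ≫ (yon S).map prod.fst)
    · simpa only [Category.assoc, ← Functor.map_comp, prod.lift_snd] using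
        congr($h1 ≫ (yon S).map prod.snd)
    · have e1 : (x ≫ (yon S).map prod.fst) ≫ a = y ≫ fst := by
        simpa [yonProdIso_hom_fst_assoc, prod.lift_fst, prod.map_fst] using congr($e ≫ prod.fst)
      have e2 : (x ≫ (yon S).map prod.snd) ≫ c = y ≫ f' := by
        simpa [yonProdIso_hom_snd_assoc, prod.lift_snd, prod.map_snd] using congr($e ≫ prod.snd)
      refine ⟨sqUW.lift (x ≫ (yon S).map prod.fst) (x ≫ (yon S).map prod.snd)
        (by rw [← Category.assoc, e1, ← Category.assoc _ c g, e2, Category.assoc, Category.assoc, sq.w]), ?_, ?_⟩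
      · apply (cancel_mono (yonProdIso U W₀).hom).1
        refine prod.hom_ext ?_ ?_
        · simp only [Category.assoc, yonProdIso_hom_fst]
          rw [← Functor.map_comp, prod.lift_fst, sqUW.lift_fst]
        · simp only [Category.assoc, yonProdIso_hom_snd]
          rw [← Functor.map_comp, prod.lift_snd, sqUW.lift_snd]
      · refine sq.hom_ext ?_ ?_
        · simp [a', e1]
        · simp only [a', Category.assoc, sq.lift_snd, sqUW.lift_snd_assoc, e2]
  have : MorphismProperty.IsStableUnderComposition (@Etale : MorphismProperty Scheme.{u}) :=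
    ⟨fun f g (_ : Etale f) (_ : Etale g) ↦ inferInstanceAs (Etale (f ≫ g))⟩
  refine locP_of_chart hP hX'.diag hY'.diag (a := a') (b := c) (h := u₂ ≫ t₂)
    (repWith_baseChange key ((repWith_iso_comp_iff _ _ _).2 (repWith_prodMap ha hc)))
    (repWith_baseChange key ((repWith_iso_comp_iff _ _ _).2 (repWith_prodMap has hcs))) hc
    (sq.lift_snd _ _ _) ?_
  have : Etale t₂.left := repWith_property hb sqT
  rw [Over.comp_left]
  have := hP.baseChange
  exact hP.comp _ _ (MorphismProperty.of_isPullback (sqQ.map (Over.forget S)) (hf a b h ha hb w))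
    (hP.etale t₂.left inferInstance)

theorem locP_of_repWith {P : MorphismProperty Scheme.{u}} (hP : EtaleLocalST P) {X Y : Sp S}
    {f : X ⟶ Y} (hf : RepWith P f) : LocP P f := by
  intro U V a b h ha hb w
  let k : U ⟶ hf.1.pullback b := hf.1.lift (g := b) a h w
  have hk : (yon S).map k ≫ hf.1.fst b = a := by simp [k]
  have : Etale k.left := etale_of_comm ha (repWith_baseChange (hf.1.isPullback b).flip hb) k hk
  have : h = k ≫ hf.1.snd b := by simp [k]
  rw [this, Over.comp_left]
  exact hP.comp _ _ (hP.etale k.left ‹_›) (repWith_property hf (hf.1.isPullback b))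

theorem repWith_of_locP {P : MorphismProperty Scheme.{u}} (hP : EtaleLocalST P) {X Y : Sp S}
    (hY : IsAlgSpace Y) {f : X ⟶ Y} (hr : Representable f) (hf : LocP P f) : RepWith P f := by
  have := hP.baseChange
  refine repWith_of_exists fun T ξ ↦ ⟨hr.pullback ξ, hr.snd ξ, hr.fst ξ, hr.isPullback ξ, ?_⟩
  obtain ⟨V, b, hb, hbs⟩ := hY.atlas
  obtain ⟨T', p, v, sqT⟩ := exists_isPullback_yon hY.diag ξ b
  have : Etale p.left := repWith_property hb sqT.flip
  have : Surjective p.left := repWith_property hbs sqT.flip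
  have hsnd : P (hr.snd b).left :=
    hf (hr.fst b) b (hr.snd b) (repWith_baseChange (hr.isPullback b).flip hb) hb (hr.w b)
  have sqR := IsPullback.of_hasPullback (hr.snd ξ) p
  have sq1 := ((isPullback_yon sqR).paste_horiz (hr.isPullback ξ))
  rw [sqT.w] at sq1
  have sq2 := IsPullback.of_right' sq1 (hr.isPullback b)
  obtain ⟨m, hm⟩ := (yon S).map_surjective ((hr.isPullback b).lift
    ((yon S).map (pullback.fst (hr.snd ξ) p) ≫ hr.fst ξ)
    ((yon S).map (pullback.snd (hr.snd ξ) p) ≫ (yon S).map v)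
    (by rw [Category.assoc, Category.assoc, hr.w, ← sqT.w, reassoc_of% (isPullback_yon sqR).w]))
  rw [← hm] at sq2
  exact of_isPullback_etale hP (f := (hr.snd ξ).left) (g := p.left) (sqR.map (Over.forget S))
    (MorphismProperty.of_isPullback ((isPullback_of_yon_map sq2).map (Over.forget S)) hsnd)

theorem locP_iff_repWith {P : MorphismProperty Scheme.{u}} (hP : EtaleLocalST P) {X Y : Sp S}
    (hY : IsAlgSpace Y) {f : X ⟶ Y} (hr : Representable f) : LocP P f ↔ RepWith P f :=
  ⟨repWith_of_locP hP hY hr, locP_of_repWith hP⟩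

theorem locP_of_isPullback_of_cover {P : MorphismProperty Scheme.{u}} (hP : EtaleLocalST P)
    {X Y X' : Sp S} (hX : IsAlgSpace X) (hY : IsAlgSpace Y) {f : X ⟶ Y} {V : Over S}
    {p : (yon S).obj V ⟶ Y} (hp : RepWith @Etale p) (hps : RepWith @Surjective p) {fst : X' ⟶ X}
    {snd : X' ⟶ (yon S).obj V} (sq : IsPullback fst snd f p) (h : LocP P snd) : LocP P f := by
  have : MorphismProperty.IsStableUnderComposition (@Etale : MorphismProperty Scheme.{u}) :=
    ⟨fun f g (_ : Etale f) (_ : Etale g) ↦ inferInstanceAs (Etale (f ≫ g))⟩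
  obtain ⟨Q, c, hc, hcs⟩ := (isAlgSpace_of_isPullback sq hY.diag hX (IsAlgSpace.yon_obj V)).atlas
  obtain ⟨m, hm⟩ := (yon S).map_surjective (c ≫ snd)
  refine locP_of_chart hP hX.diag hY.diag (a := c ≫ fst) (b := p) (h := m)
    (repWith_comp hc (repWith_baseChange sq.flip hp))
    (repWith_comp hcs (repWith_baseChange sq.flip hps)) hp
    (by rw [hm, Category.assoc, Category.assoc, sq.w]) ?_
  exact h c (𝟙 _) m hc (AlgSp.repWith_id _ _) (by rw [Category.comp_id, hm])

theorem locP_of_precomp {P : MorphismProperty Scheme.{u}} (hP : EtaleLocalST P) {X Y : Sp S}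
    (hX : IsAlgSpace X) (hY : IsAlgSpace Y) {f : X ⟶ Y} {U : Over S} {φ : (yon S).obj U ⟶ X}
    (hφ : RepWith @Etale φ) (hφs : RepWith @Surjective φ) (h : LocP P (φ ≫ f)) : LocP P f := by
  obtain ⟨V, b, hb, hbs⟩ := hY.atlas
  obtain ⟨U', p, q, sq⟩ := exists_isPullback_yon hY.diag (φ ≫ f) b
  have : Etale p.left := repWith_property hb sq.flip
  have : Surjective p.left := repWith_property hbs sq.flip
  refine locP_of_chart hP hX.diag hY.diag (repWith_etale_comp p hφ) (repWith_surjective_comp p hφs)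
    hb (h := q) (by rw [Category.assoc, sq.w]) ?_
  exact h ((yon S).map p) b q ((AlgSp.repWith_yon_map_iff _ _).2 ‹Etale p.left›) hb sq.w

/-- The seven standard classes in the form in which the statements list them. -/
theorem etaleLocalST_of_list {P : MorphismProperty Scheme.{u}}
    (hP : P = @LocallyOfFiniteType ∨ P = @LocallyOfFinitePresentation ∨ P = @Flat ∨ P = @Smooth ∨
      P = @Etale ∨
      (∀ ⦃A B : Scheme.{u}⦄ (g : A ⟶ B), P g ↔ (LocallyQuasiFinite g ∧ LocallyOfFiniteType g)) ∨
      (∀ ⦃A B : Scheme.{u}⦄ (g : A ⟶ B), P g ↔ (LocallyOfFiniteType g ∧ FormallyUnramified g))) :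
    EtaleLocalST P := by
  rcases hP with rfl | rfl | rfl | rfl | rfl | h | h
  · exact SourceDescent.Scheme.locallyOfFiniteType
  · exact SourceDescent.Scheme.locallyOfFinitePresentation
  · exact SourceDescent.Scheme.flat
  · exact SourceDescent.Scheme.smooth
  · exact SourceDescent.Scheme.etale
  · rw [show P = ((@LocallyQuasiFinite : MorphismProperty Scheme.{u}) ⊓ (@LocallyOfFiniteType : MorphismProperty Scheme.{u}) : MorphismProperty Scheme.{u}) from
      MorphismProperty.ext _ _ fun A B g ↦ h g]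
    exact SourceDescent.Scheme.inf SourceDescent.Scheme.locallyQuasiFinite
      SourceDescent.Scheme.locallyOfFiniteType
  · rw [show P = ((@LocallyOfFiniteType : MorphismProperty Scheme.{u}) ⊓ (@FormallyUnramified : MorphismProperty Scheme.{u}) : MorphismProperty Scheme.{u}) from
      MorphismProperty.ext _ _ fun A B g ↦ h g]
    exact SourceDescent.Scheme.inf SourceDescent.Scheme.locallyOfFiniteType
      SourceDescent.Scheme.formallyUnramified

theorem lqfLft : EtaleLocalST
    ((@LocallyQuasiFinite : MorphismProperty Scheme.{u}) ⊓ @LocallyOfFiniteType) :=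
  SourceDescent.Scheme.inf SourceDescent.Scheme.locallyQuasiFinite
    SourceDescent.Scheme.locallyOfFiniteType

theorem unramified : EtaleLocalST
    ((@LocallyOfFiniteType : MorphismProperty Scheme.{u}) ⊓ @FormallyUnramified) :=
  SourceDescent.Scheme.inf SourceDescent.Scheme.locallyOfFiniteType
    SourceDescent.Scheme.formallyUnramified

end Groth.Agent.Lib.AlgSpMor.LocP
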