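import Mathlib.AlgebraicGeometry.Noetherian
import Groth.Agent.Lib.AlgSpMor.LocP

/-!
Cancellation and weakening lemmas used for `AlgSp.LocP`.
-/

universe u

open CategoryTheory CategoryTheory.Limits AlgebraicGeometry

namespace Groth.Agent.Lib.AlgSpMor.Cancel

/-- If `f ≫ g` is lfp and `g` is lft, then `f` is lfp. -/
theorem locallyOfFinitePresentation_of_comp {X Y Z : Scheme.{u}} {f : X ⟶ Y} {g : Y ⟶ Z}
    (h : LocallyOfFinitePresentation (f ≫ g)) (hg : LocallyOfFiniteType g) :
    LocallyOfFinitePresentation f := by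
  wlog hZ : IsAffine Z generalizing X Y Z
  · rw [IsZariskiLocalAtTarget.iff_of_iSup_eq_top (P := @LocallyOfFinitePresentation) _
      (g.iSup_preimage_eq_top (iSup_affineOpens_eq_top Z))]
    intro U
    have H := IsZariskiLocalAtTarget.restrict h U.1
    rw [morphismRestrict_comp] at H
    exact this H (IsZariskiLocalAtTarget.restrict hg U.1) U.2
  wlog hY : IsAffine Y generalizing X Y
  · rw [IsZariskiLocalAtTarget.iff_of_iSup_eq_top (P := @LocallyOfFinitePresentation) _
      (iSup_affineOpens_eq_top Y)]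
    intro U
    have H := HasRingHomProperty.comp_of_isOpenImmersion @LocallyOfFinitePresentation
      (f ⁻¹ᵁ U.1).ι (f ≫ g) h
    rw [← morphismRestrict_ι_assoc] at H
    exact this H (HasRingHomProperty.comp_of_isOpenImmersion @LocallyOfFiniteType U.1.ι g hg) U.2
  wlog hX : IsAffine X generalizing X
  · rw [IsZariskiLocalAtSource.iff_of_iSup_eq_top (P := @LocallyOfFinitePresentation) _
      (iSup_affineOpens_eq_top X)]
    intro U
    have H := HasRingHomProperty.comp_of_isOpenImmersion @LocallyOfFinitePresentation U.1.ι (f ≫ g) h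
    rw [← Category.assoc] at H
    exact this H U.2
  rw [HasRingHomProperty.iff_of_isAffine (P := @LocallyOfFinitePresentation)] at h ⊢
  rw [HasRingHomProperty.iff_of_isAffine (P := @LocallyOfFiniteType)] at hg
  rw [Scheme.Hom.comp_appTop, CommRingCat.hom_comp] at h
  exact RingHom.FinitePresentation.of_comp_finiteType g.appTop.hom h hg

theorem formallyUnramified_lft_of_isImmersion {X Y : Scheme.{u}} (f : X ⟶ Y) [IsImmersion f] :
    LocallyOfFiniteType f ∧ FormallyUnramified f :=
  ⟨inferInstance, inferInstance⟩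

/-- `RepWith` of a stronger property gives `LocP`. -/
theorem locP_of_repWith_le {P Q : MorphismProperty Scheme.{u}} (hP : SourceDescent.Scheme.EtaleLocalST P)
    {S : Scheme.{u}} {X Y : AlgSp.Sp S} {f : X ⟶ Y} (hf : AlgSp.RepWith Q f)
    (h : ∀ ⦃A B : Scheme.{u}⦄ (g : A ⟶ B), Q g → P g) : AlgSp.LocP P f :=
  LocP.locP_of_repWith hP (AlgSpace.repWith_mono hf h)

end Groth.Agent.Lib.AlgSpMor.Cancel
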