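import Groth.Agent.Lib.AlgSpMor.Perm
import Groth.Agent.Lib.AlgSpMor.LocP

/-! # Proper morphisms of algebraic spaces -/

universe u

open CategoryTheory CategoryTheory.Limits AlgebraicGeometry Topology
open Groth.Agent.Lib.AlgSpace Groth.Agent.Lib.SourceDescent.Scheme

namespace Groth.Agent.Lib.AlgSpMor.Proper

attribute [local simp] pullback.lift_fst pullback.lift_snd

open AlgSp (Sp yon Representable RepWith IsAlgSpace IsUnivClosedMor IsProperMor IsSeparatedMor)
open AlgSp

variable {S : Scheme.{u}}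

theorem univSp_baseChange {Q : MorphismProperty (Sp S)} {X Y Y' X' : Sp S} {f : X ⟶ Y}
    {g : Y' ⟶ Y} {fst : X' ⟶ X} {f' : X' ⟶ Y'} (sq : IsPullback fst f' f g) (hf : UnivSp Q f) :
    UnivSp Q f' :=
  fun _ _ hZ _ _ _ h ↦ hf hZ _ _ _ (h.paste_horiz sq)

theorem isUnivClosedMor_of_repWith {X Y : Sp S} {f : X ⟶ Y} (h : RepWith @UniversallyClosed f) :
    IsUnivClosedMor f := by
  have h' : RepWith (topologically @IsClosedMap).universally f := by rwa [← universallyClosed_eq]
  exact (Topo.repWith_universally_iff Topo.cartLocal_isClosedMap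
    (fun g ↦ Topo.isClosedMap_yon_map_iff g) Topo.isClosedMap_iso_comp h'.rep).1 h'

theorem repWith_universallyClosed_of {X Y : Sp S} {f : X ⟶ Y} (hr : Representable f)
    (h : IsUnivClosedMor f) : RepWith @UniversallyClosed f := by
  rw [universallyClosed_eq]
  exact (Topo.repWith_universally_iff Topo.cartLocal_isClosedMap
    (fun g ↦ Topo.isClosedMap_yon_map_iff g) Topo.isClosedMap_iso_comp hr).2 h

theorem isUnivClosedMor_comp {X Y Z : Sp S} (hY : IsAlgSpace Y) (hZ : Representable (Limits.diag Z))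
    {f : X ⟶ Y} {g : Y ⟶ Z} (hf : IsUnivClosedMor f) (hg : IsUnivClosedMor g) :
    IsUnivClosedMor (f ≫ g) := by
  intro W W' hW a fst snd sq
  have sqg := IsPullback.of_hasPullback g a
  have sqf : IsPullback fst (sqg.lift (fst ≫ f) snd (by rw [Category.assoc, sq.w])) f
      (pullback.fst g a) :=
    IsPullback.of_bot (by simpa using sq) (sqg.lift_fst _ _ _).symm sqg
  have h1 := hf (isAlgSpace_of_isPullback sqg hZ hY hW) _ _ _ sqf
  have h2 := hg hW a _ _ sqg
  have : Points.map snd = Points.map (pullback.snd g a) ∘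
      Points.map (sqg.lift (fst ≫ f) snd (by rw [Category.assoc, sq.w])) :=
    funext fun x ↦ by
      rw [Function.comp_apply, ← Points.map_comp, sqg.lift_snd]
  show IsClosedMap (Points.map snd)
  rw [this]
  exact h2.comp h1

theorem isClosedMap_of_isUnivClosedMor {X Y : Sp S} (hY : IsAlgSpace Y) {f : X ⟶ Y}
    (hf : IsUnivClosedMor f) : IsClosedMap (Points.map f) :=
  hf hY (𝟙 Y) (𝟙 X) f IsPullback.of_id_fst

theorem repWith_closedImmersion_graph {X Y B : Sp S} (g : X ⟶ Y) {q : Y ⟶ B}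
    (hq : IsSeparatedMor q) :
    RepWith @IsClosedImmersion (pullback.lift (f := g ≫ q) (g := q) (𝟙 X) g (by simp)) :=
  repWith_baseChange (pullback_lift_diagonal_isPullback g q) hq

theorem isUnivClosedMor_of_comp {X Y B : Sp S} (hX : IsAlgSpace X) (hY : IsAlgSpace Y)
    (hB : Representable (Limits.diag B)) {f : X ⟶ Y} {q : Y ⟶ B}
    (h : IsUnivClosedMor (f ≫ q)) (hq : IsSeparatedMor q) : IsUnivClosedMor f := by
  have h1 := isUnivClosedMor_of_repWith (repWith_mono (repWith_closedImmersion_graph f hq)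
    fun _ _ g (_ : IsClosedImmersion g) ↦ (inferInstance : UniversallyClosed g))
  have h2 := univSp_baseChange (IsPullback.of_hasPullback (f ≫ q) q) h
  have h3 := isUnivClosedMor_comp
    (isAlgSpace_of_isPullback (IsPullback.of_hasPullback (f ≫ q) q) hB hX hY) hY.diag h1 h2
  rwa [Perm.comp_graph] at h3

theorem repWith_diagonal_comp (P : MorphismProperty Scheme.{u}) [P.IsStableUnderBaseChange]
    [P.IsStableUnderComposition] {X Y Z : Sp S} {f : X ⟶ Y} {g : Y ⟶ Z}
    (hf : RepWith P (pullback.diagonal f)) (hg : RepWith P (pullback.diagonal g)) :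
    RepWith P (pullback.diagonal (f ≫ g)) := by
  rw [pullback.diagonal_comp]
  refine repWith_comp hf ?_
  have sq := (pullback_map_diagonal_isPullback f f g)
  have h := repWith_baseChange sq hg
  convert h using 1
  apply pullback.hom_ext <;> simp [pullback.map]

/-- Cancellation for representable etale morphisms. -/
theorem repWith_etale_of_comp {X Y Z : Sp S} (hY : Representable (Limits.diag Y)) {l : X ⟶ Y}
    {g : Y ⟶ Z} (hg : RepWith @Etale g) (h : RepWith @Etale (l ≫ g)) : RepWith @Etale l := by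
  haveI : MorphismProperty.IsStableUnderComposition (@Etale : MorphismProperty Scheme.{u}) :=
    ⟨fun f g (_ : Etale f) (_ : Etale g) ↦ inferInstanceAs (Etale (f ≫ g))⟩
  have hd : RepWith @Etale (pullback.diagonal g) :=
    Sep.repWith_diagonal_of_affine hY fun T _ ξ Q fst snd sq ↦ by
      obtain ⟨V, v, a, sqV, hv⟩ := repWith_exists hg ξ
      haveI : Etale v.left := hv
      exact Sep.repWith_diagonal_of_eq (sq.isoIsPullback _ _ sqV) (Iso.refl _) (by simp)
        ((AlgSp.repWith_diagonal_yon_map_iff @Etale v).2 inferInstance)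
  have h' := repWith_comp (repWith_baseChange (pullback_lift_diagonal_isPullback l g) hd)
    (repWith_baseChange (IsPullback.of_hasPullback (l ≫ g) g) h)
  rwa [Perm.comp_graph] at h'

theorem isFiniteType_baseChange {X Y Y' X' : Sp S} (hX : IsAlgSpace X) (hY : IsAlgSpace Y)
    (hY' : IsAlgSpace Y') {f : X ⟶ Y} {g : Y' ⟶ Y} {fst : X' ⟶ X}
    {f' : X' ⟶ Y'} (sq : IsPullback fst f' f g) (hf : IsFiniteTypeMor f) : IsFiniteTypeMor f' :=
  ⟨LocP.locP_of_isPullback locallyOfFiniteType hX hY hY' sq hf.1,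
    Perm.isQuasiCompactMor_baseChange sq hf.2⟩

theorem isProperMor_baseChange {X Y Y' X' : Sp S} (hX : IsAlgSpace X) (hY : IsAlgSpace Y)
    (hY' : IsAlgSpace Y') {f : X ⟶ Y} {g : Y' ⟶ Y} {fst : X' ⟶ X}
    {f' : X' ⟶ Y'} (sq : IsPullback fst f' f g) (hf : IsProperMor f) : IsProperMor f' :=
  ⟨Sep.repWith_diagonal_baseChange sq hf.1, isFiniteType_baseChange hX hY hY' sq hf.2.1,
    univSp_baseChange sq hf.2.2⟩

theorem isProperMor_comp {X Y Z : Sp S} (hX : IsAlgSpace X) (hY : IsAlgSpace Y) (hZ : IsAlgSpace Z)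
    {f : X ⟶ Y} {g : Y ⟶ Z} (hf : IsProperMor f) (hg : IsProperMor g) : IsProperMor (f ≫ g) :=
  ⟨repWith_diagonal_comp _ hf.1 hg.1, ⟨LocP.locP_comp locallyOfFiniteType hX hY hZ hf.2.1.1 hg.2.1.1,
    QC.isQuasiCompactMor_comp hY hZ.diag hf.2.1.2 hg.2.1.2⟩,
    isUnivClosedMor_comp hY hZ.diag hf.2.2 hg.2.2⟩

theorem isSeparatedMor_of_mono_repWith {X Y : Sp S} (f : X ⟶ Y) [Mono f] : IsSeparatedMor f := by
  have h : RepWith @IsClosedImmersion (𝟙 X) := repWith_of_exists fun T ξ ↦
    ⟨T, 𝟙 T, ξ, by rw [CategoryTheory.Functor.map_id]; exact IsPullback.of_vert_isIso ⟨by simp⟩,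
      (inferInstance : IsClosedImmersion (𝟙 T.left))⟩
  exact repWith_baseChange (IsPullback.of_horiz_isIso (fst := 𝟙 X) (snd := pullback.diagonal f)
    (f := 𝟙 X) (g := pullback.fst f f) ⟨by simp⟩) h

theorem isProperMor_of_closedImmersion {X Y : Sp S} {f : X ⟶ Y}
    (h : RepWith @IsClosedImmersion f) : IsProperMor f :=
  haveI : Mono f := mono_of_repWith (fun _ _ g (_ : IsClosedImmersion g) ↦ (inferInstance : Mono g)) h
  ⟨isSeparatedMor_of_mono_repWith f,
    ⟨LocP.locP_of_repWith locallyOfFiniteType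
      (repWith_mono h fun _ _ g (_ : IsClosedImmersion g) ↦ (inferInstance : LocallyOfFiniteType g)),
     QC.isQuasiCompactMor_of_repWith
      (repWith_mono h fun _ _ g (_ : IsClosedImmersion g) ↦ (inferInstance : QuasiCompact g))⟩,
    isUnivClosedMor_of_repWith
      (repWith_mono h fun _ _ g (_ : IsClosedImmersion g) ↦ (inferInstance : UniversallyClosed g))⟩

/-- Properness is local on the target for the etale topology. -/
theorem isProperMor_of_cover {X Y : Sp S} (hX : IsAlgSpace X) (hY : IsAlgSpace Y) {f : X ⟶ Y}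
    {V : Over S} {p : (yon S).obj V ⟶ Y} (hp : RepWith @Etale p) (hps : RepWith @Surjective p)
    {X' : Sp S} {fst : X' ⟶ X} {snd : X' ⟶ (yon S).obj V} (sq : IsPullback fst snd f p)
    (h : IsProperMor snd) : IsProperMor f := by
  haveI := Sep.isLocalAtTarget_fppf_isClosedImmersion.{u}
  refine ⟨Sep.repWith_diagonal_of_cover _ hX.diag hp hps sq h.1,
    ⟨LocP.locP_of_isPullback_of_cover locallyOfFiniteType hX hY hp hps sq h.2.1.1,
     QC.isQuasiCompactMor_of_cover sq hX hY.diag (IsAlgSpace.yon_obj V)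
       (fun Z _ a Q q₁ q₂ hQ ↦ isOpenMap_map (repWith_mono (repWith_baseChange hQ hp)
          fun _ _ e (_ : Etale e) ↦ (inferInstance : UniversallyOpen e)))
       (surjective_map hps) h.2.1.2⟩,
    Topo.univSp_of_cover Topo.cartLocal_isClosedMap hY.diag hp hps sq h.2.2⟩

theorem isProperMor_of_affine {X Y : Sp S} (hX : IsAlgSpace X) (hY : IsAlgSpace Y) {f : X ⟶ Y}
    (h : ∀ (Z : Over S), IsAffine Z.left → ∀ (g : (yon S).obj Z ⟶ Y) (P : Sp S) (fst : P ⟶ X)
      (snd : P ⟶ (yon S).obj Z), IsPullback fst snd f g → IsProperMor snd) : IsProperMor f := by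
  refine ⟨Sep.repWith_diagonal_of_affine hX.diag fun Z hZ g Q a b sq ↦ (h Z hZ g Q a b sq).1,
    ⟨?_, QC.isQuasiCompactMor_of_affine hX hY.diag fun Z hZ g Q a b sq ↦
      haveI := hZ
      QC.compactSpace_of_isQuasiCompactMor (h Z hZ g Q a b sq).2.1.2 (IsPullback.of_id_fst)⟩,
    (Topo.univSp_iff_affine Topo.cartLocal_isClosedMap f).2 fun Z hZ g Q a b sq ↦
      isClosedMap_of_isUnivClosedMor (IsAlgSpace.yon_obj Z) (h Z hZ g Q a b sq).2.2⟩
  · intro U V a b k ha hb w
    refine (IsZariskiLocalAtTarget.iff_of_iSup_eq_top (P := @LocallyOfFiniteType)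
      (fun O : V.left.affineOpens ↦ O.1) (iSup_affineOpens_eq_top _)).2 fun O ↦ ?_
    have hj : Etale (Topo.opensOverι O.1).left := inferInstanceAs (Etale O.1.ι)
    have sqj := IsPullback.of_hasPullback f ((yon S).map (Topo.opensOverι O.1) ≫ b)
    have hP := (h (Topo.opensOver O.1) O.2 _ _ _ _ sqj).2.1.1
    let U' : Over S := Topo.opensOver (k.left ⁻¹ᵁ O.1)
    let k' : U' ⟶ Topo.opensOver O.1 := Over.homMk (k.left ∣_ O.1) (by
      simp only [U', Over.mk_hom]
      rw [← Category.assoc, morphismRestrict_ι, Category.assoc, Over.w])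
    let l : (yon S).obj U' ⟶ pullback f ((yon S).map (Topo.opensOverι O.1) ≫ b) :=
      pullback.lift ((yon S).map (Topo.opensOverι (k.left ⁻¹ᵁ O.1)) ≫ a) ((yon S).map k') (by
        rw [Category.assoc, w, ← Category.assoc, ← Category.assoc, ← Functor.map_comp,
          ← Functor.map_comp]
        congr 2
        exact Over.OverMorphism.ext (morphismRestrict_ι _ _).symm)
    have hu : RepWith @Etale ((yon S).map (Topo.opensOverι (k.left ⁻¹ᵁ O.1)) ≫ a) :=
      haveI : Etale (Topo.opensOverι (k.left ⁻¹ᵁ O.1)).left :=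
        inferInstanceAs (Etale (k.left ⁻¹ᵁ O.1).ι)
      LocP.repWith_etale_comp _ ha
    have hv : RepWith @Etale ((yon S).map (Topo.opensOverι O.1) ≫ b) :=
      haveI := hj
      LocP.repWith_etale_comp _ hb
    have hfst : RepWith @Etale (pullback.fst f ((yon S).map (Topo.opensOverι O.1) ≫ b)) :=
      repWith_baseChange sqj.flip hv
    have hl : RepWith @Etale l := by
      refine repWith_etale_of_comp (isAlgSpace_of_representable hfst.rep hX).diag hfst ?_
      simpa [l] using hu
    exact hP l (𝟙 _) k' hl (AlgSp.repWith_id _ _) (by simp [l])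

end Groth.Agent.Lib.AlgSpMor.Proper
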