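import Groth.Agent.Lib.AlgSpMor.LqfScheme
import Groth.Agent.Lib.AlgSpMor.LocP
import Groth.Agent.Lib.AlgSpMor.Proper
import Groth.Agent.Lib.AlgSpDecent.Glue
import Groth.Agent.Lib.AlgSpace.OpenSubExists

/-!
# Separated locally quasi-finite morphisms are representable
-/

set_option autoImplicit false
set_option linter.style.haveILetI false
universe u

open CategoryTheory CategoryTheory.Limits AlgebraicGeometry
open Groth.Agent.Lib.AlgSpace

namespace Groth.Agent.Lib.AlgSpMor.LqfRep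

open AlgSp (Sp yon Representable RepWith IsAlgSpace IsSeparatedMor LocP)
open AlgSp

variable {S : Scheme.{u}}

/-- A space separated over an affine scheme with an affine lqf chart is a scheme. -/
theorem exists_iso_of_affine_chart {T U : Over S} [IsAffine T.left] [IsAffine U.left] {X : Sp S}
    (hX : IsAlgSpace X) {f : X ⟶ (yon S).obj T} (hsep : IsSeparatedMor f)
    {a : (yon S).obj U ⟶ X} (ha : RepWith @Etale a) (has : RepWith @Surjective a) {m : U ⟶ T}
    (hm : a ≫ f = (yon S).map m) [LocallyQuasiFinite m.left] [LocallyOfFiniteType m.left] :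
    ∃ W : Over S, Nonempty ((yon S).obj W ≅ X) := by
  obtain ⟨Y, φ, -, hφ⟩ := LqfScheme.exists_isOpenImmersion hX hsep ha has hm
  obtain ⟨W, w, fst, sq, -⟩ := repWith_exists hφ (𝟙 _)
  haveI := sq.isIso_fst_of_isIso
  exact ⟨W, ⟨asIso fst⟩⟩

/-- The image of an affine chart over an affine open of the base. -/
theorem exists_open_scheme {T : Over S} {X : Sp S} (hX : IsAlgSpace X) {f : X ⟶ (yon S).obj T}
    (hqf : LocP (@LocallyQuasiFinite ⊓ @LocallyOfFiniteType) f) (hsep : IsSeparatedMor f)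
    (x : Points X) : ∃ (W : Over S) (l : (yon S).obj W ⟶ X), RepWith @IsOpenImmersion l ∧
      x ∈ Set.range (Points.map l) := by
  obtain ⟨U₀, a₀, ha₀, ha₀s⟩ := hX.atlas
  obtain ⟨u, rfl⟩ := surjective_ofPt ha₀s x
  obtain ⟨m₀, hm₀⟩ := (yon S).map_surjective (a₀ ≫ f)
  obtain ⟨O, hO, huO, -⟩ := exists_isAffineOpen_mem_and_subset
    (U := ⊤) (Set.mem_univ (m₀.left u))
  obtain ⟨Uo, hUo, hu, hUO⟩ := exists_isAffineOpen_mem_and_subset
    (U := m₀.left ⁻¹ᵁ O) (show u ∈ m₀.left ⁻¹ᵁ O from huO)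
  let U : Over S := Topo.opensOver Uo
  let ι : U ⟶ U₀ := Topo.opensOverι Uo
  let T₀ : Over S := Topo.opensOver O
  let κ : T₀ ⟶ T := Topo.opensOverι O
  haveI : IsAffine U.left := hUo
  haveI : IsAffine T₀.left := hO
  haveI : IsOpenImmersion κ.left := inferInstanceAs (IsOpenImmersion O.ι)
  haveI : IsOpenImmersion ι.left := inferInstanceAs (IsOpenImmersion Uo.ι)
  haveI : Mono κ := Over.mono_of_mono_left κ
  have hr : Set.range (ι ≫ m₀).left ⊆ Set.range κ.left := by
    rintro _ ⟨z, rfl⟩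
    exact O.range_ι.symm.subset (hUO z.2)
  let m : U ⟶ T₀ := Over.homMk (IsOpenImmersion.lift κ.left (ι ≫ m₀).left hr) (by
    rw [← Over.w κ, IsOpenImmersion.lift_fac_assoc, Over.w])
  have hmκ : m ≫ κ = ι ≫ m₀ := Over.OverMorphism.ext (IsOpenImmersion.lift_fac _ _ _)
  let a : (yon S).obj U ⟶ X := (yon S).map ι ≫ a₀
  have ha : RepWith @Etale a := LocP.repWith_etale_comp ι ha₀
  have haf : a ≫ f = (yon S).map m ≫ (yon S).map κ := by
    rw [Category.assoc, ← hm₀, ← Functor.map_comp, ← Functor.map_comp, hmκ]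
  have hP : (@LocallyQuasiFinite ⊓ @LocallyOfFiniteType : MorphismProperty Scheme.{u}) m.left :=
    hqf a ((yon S).map κ) m ha ((repWith_yon_map_iff _ κ).2 inferInstance) haf
  haveI : LocallyQuasiFinite m.left := hP.1
  haveI : LocallyOfFiniteType m.left := hP.2
  obtain ⟨F, j, hF, hj, hjr⟩ :=
    exists_open_subspace hX (AlgSpDecent.Core.isOpen_range_ofPt ha)
  have hjm : Mono j := 
    mono_of_repWith (P := @IsOpenImmersion)
      (fun _ _ g (_ : IsOpenImmersion g) ↦ (inferInstance : Mono g)) hj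
  obtain ⟨a', ha'⟩ := exists_lift_yon_of_range_subset hj a hjr.symm.subset
  have sqa : IsPullback (𝟙 ((yon S).obj U)) a' a j :=
    isPullback_of_yon (by simp [ha']) (fun Z c c' e _ ↦ by simpa using e) fun Z c z e ↦
      ⟨c, Category.comp_id c, by rw [← cancel_mono j, Category.assoc, ha', e]⟩
  have ha'e : RepWith @Etale a' := repWith_baseChange sqa ha
  have ha's : RepWith @Surjective a' := repWith_surjective_of_points ha'e.rep fun y ↦ by
    obtain ⟨z, hz⟩ := hjr.subset ⟨y, rfl⟩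
    refine ⟨Points.ofPt (𝟙 _) z, injective_map_of_mono j ?_⟩
    rw [← Points.map_comp, ha', Points.map_ofPt, Category.id_comp, hz]
  haveI := isLocallySurjective_of_etale ha'e ha's
  obtain ⟨f₀, hf₀⟩ := exists_desc a' (ha'e.rep.isPullback' a') ((yon S).map m) (by
    rw [← cancel_mono ((yon S).map κ), Category.assoc, Category.assoc, ← haf, ← ha',
      ← Category.assoc, ← Category.assoc, ← Category.assoc, ← Category.assoc,
      (ha'e.rep.isPullback' a').w])
  have hjf : f₀ ≫ (yon S).map κ = j ≫ f := by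
    rw [← cancel_epi a', ← Category.assoc, hf₀, ← Category.assoc, ha', haf]
  have hsep₀ : IsSeparatedMor f₀ := by
    haveI : MorphismProperty.IsStableUnderComposition
        (@IsClosedImmersion : MorphismProperty Scheme.{u}) :=
      ⟨fun f g (_ : IsClosedImmersion f) (_ : IsClosedImmersion g) ↦
        inferInstanceAs (IsClosedImmersion (f ≫ g))⟩
    haveI : MorphismProperty.ContainsIdentities
        (@IsClosedImmersion : MorphismProperty Scheme.{u}) :=
      ⟨fun X ↦ inferInstanceAs (IsClosedImmersion (𝟙 X))⟩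
    have h : RepWith @IsClosedImmersion (pullback.diagonal (j ≫ f)) :=
      Proper.repWith_diagonal_comp _ (repWith_of_isIso _ _) hsep
    exact SepPair.repWith_diagonal_of_comp_mono (ι := (yon S).map κ)
      (Sep.repWith_diagonal_of_eq (Iso.refl _) (Iso.refl _) (by simp [hjf]) h)
  obtain ⟨W, ⟨e⟩⟩ := exists_iso_of_affine_chart hF hsep₀ ha'e ha's hf₀
  refine ⟨W, e.hom ≫ j, (repWith_iso_comp_iff _ _ _).2 hj, ?_⟩
  obtain ⟨y, hy⟩ : Points.ofPt a₀ u ∈ Set.range (Points.map j) :=
    hjr.symm.subset ⟨⟨u, hu⟩, ofPt_yon_map_comp ι a₀ (⟨u, hu⟩ : Uo)⟩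
  exact ⟨Points.map e.inv y, by
    rw [← Points.map_comp, ← Category.assoc, e.inv_hom_id, Category.id_comp, hy]⟩

/-- A space separated and locally quasi-finite over a scheme is a scheme. -/
theorem exists_iso {T : Over S} {X : Sp S} (hX : IsAlgSpace X) (f : X ⟶ (yon S).obj T)
    (hqf : LocP (@LocallyQuasiFinite ⊓ @LocallyOfFiniteType) f) (hsep : IsSeparatedMor f) :
    ∃ W : Over S, Nonempty ((yon S).obj W ≅ X) := by
  choose W l hl hx using fun x : Points X ↦ exists_open_scheme hX hqf hsep x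
  obtain ⟨U₀, a₀, -, ha₀s⟩ := hX.atlas
  obtain ⟨G, m, hm, hmr⟩ :=
    AlgSpDecent.Glue.exists_union (fun u : U₀.left ↦ hl (Points.ofPt a₀ u)) hX
  haveI := AlgSpDecent.OpenScheme.isIso_of_surjective hm fun x ↦ by
    obtain ⟨u, rfl⟩ := surjective_ofPt ha₀s x
    exact hmr.symm.subset (Set.mem_iUnion.2 ⟨u, hx _⟩)
  exact ⟨G, ⟨asIso m⟩⟩

/-- A separated locally quasi-finite morphism of algebraic spaces is representable. -/
theorem representable {X Y : Sp S} (hX : IsAlgSpace X) (hY : IsAlgSpace Y) {f : X ⟶ Y}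
    (hqf : LocP (@LocallyQuasiFinite ⊓ @LocallyOfFiniteType) f) (hsep : IsSeparatedMor f) :
    Representable f := fun T ξ ↦ by
  have sq := IsPullback.of_hasPullback f ξ
  have hP : IsAlgSpace (pullback f ξ) :=
    isAlgSpace_of_isPullback sq hY.diag hX (IsAlgSpace.yon_obj T)
  obtain ⟨W, ⟨e⟩⟩ := exists_iso hP (pullback.snd f ξ)
    (LocP.locP_of_isPullback LocP.lqfLft hX hY (IsAlgSpace.yon_obj T) sq hqf)
    (Sep.repWith_diagonal_baseChange sq hsep)
  obtain ⟨w, hw⟩ := (yon S).map_surjective (e.hom ≫ pullback.snd f ξ)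
  exact ⟨W, w, e.hom ≫ pullback.fst f ξ, IsPullback.of_iso sq e.symm (Iso.refl _) (Iso.refl _)
    (Iso.refl _) (by simp) (by simp [hw]) (by simp) (by simp)⟩

end Groth.Agent.Lib.AlgSpMor.LqfRep
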