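import Groth.Agent.Lib.AlgSpMor.Sep

/-! # Permanence of quasi-compact, affine and separated morphisms of algebraic spaces -/

universe u

open CategoryTheory CategoryTheory.Limits AlgebraicGeometry
open Groth.Agent.Lib.AlgSpace

namespace Groth.Agent.Lib.AlgSpMor.Perm

attribute [local simp] pullback.lift_fst pullback.lift_snd prod.lift_fst prod.lift_snd

open AlgSp (Sp yon Representable RepWith IsAlgSpace IsQuasiCompactMor IsAffineMor)
open AlgSp

variable {S : Scheme.{u}}

theorem isQuasiCompactMor_baseChange {X Y Y' X' : Sp S} {f : X ⟶ Y} {g : Y' ⟶ Y} {fst : X' ⟶ X}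
    {f' : X' ⟶ Y'} (sq : IsPullback fst f' f g) (hf : IsQuasiCompactMor f) :
    IsQuasiCompactMor f' :=
  fun _ _ hZ hZc _ _ _ h ↦ hf hZ hZc _ _ _ (h.paste_horiz sq)

theorem isAffineMor_baseChange {X Y Y' X' : Sp S} {f : X ⟶ Y} {g : Y' ⟶ Y} {fst : X' ⟶ X}
    {f' : X' ⟶ Y'} (sq : IsPullback fst f' f g) (hf : IsAffineMor f) : IsAffineMor f' := by
  intro Z hZ a
  obtain ⟨W, i, w, h, hW⟩ := hf hZ (a ≫ g)
  refine ⟨W, i, sq.lift w ((yon S).map i ≫ a) (by rw [h.w, Category.assoc]),
    IsPullback.of_right (h₁₁ := sq.lift w ((yon S).map i ≫ a) (by rw [h.w, Category.assoc]))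
      (h₁₂ := fst) (by rw [sq.lift_fst]; exact h) (by simp) sq, hW⟩

theorem isAffineMor_comp {X Y Z : Sp S} {f : X ⟶ Y} {g : Y ⟶ Z} (hf : IsAffineMor f)
    (hg : IsAffineMor g) : IsAffineMor (f ≫ g) := by
  intro T hT a
  obtain ⟨V, j, v, h, hV⟩ := hg hT a
  obtain ⟨W, i, w, h', hW⟩ := hf hV v
  exact ⟨W, i ≫ j, w, by rw [Functor.map_comp]; exact h'.paste_vert h, hW⟩

theorem isAffineMor_of_repWith {P : MorphismProperty Scheme.{u}}
    (hP : ∀ ⦃A B : Scheme.{u}⦄ (g : A ⟶ B), P g → IsAffineHom g) {X Y : Sp S} {f : X ⟶ Y}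
    (hf : RepWith P f) : IsAffineMor f := by
  intro Z hZ a
  obtain ⟨W, i, w, h, hi⟩ := repWith_exists hf a
  have := hP _ hi
  exact ⟨W, i, w, h, isAffine_of_isAffineHom i.left⟩

theorem comp_graph {X Y B : Sp S} (g : X ⟶ Y) (q : Y ⟶ B) :
    pullback.lift (f := g ≫ q) (g := q) (𝟙 X) g (by simp) ≫ pullback.snd (g ≫ q) q = g := by
  simp

/-- The morphism to the base, `F ⟶ h_S`. -/
noncomputable def toBase (F : Sp S) : F ⟶ (yon S).obj (Over.mk (𝟙 S)) :=
  (Over.mkIdTerminal.isTerminalObj (yon S)).from F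

theorem isQuasiCompactMor_toBase [QuasiSeparatedSpace ↥S] {F : Sp S} (hF : IsAlgSpace F)
    [CompactSpace (Points F)] : IsQuasiCompactMor (toBase F) := by
  refine QC.isQuasiCompactMor_of_affine hF (IsAlgSpace.yon_obj _).diag
    fun Z hZ g P fst snd sq ↦ ?_
  obtain ⟨g', rfl⟩ := (yon S).map_surjective g
  haveI : IsAffine Z.left := hZ
  have hq : QuasiCompact g'.left :=
    (fun {B : Scheme.{u}} [QuasiSeparatedSpace ↥B] (e : Z.left ⟶ B) ↦
      (inferInstance : QuasiCompact e)) (B := S) g'.left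
  have h : RepWith @QuasiCompact ((yon S).map g') := (AlgSp.repWith_yon_map_iff _ g').2 hq
  have h' := repWith_baseChange sq.flip h
  exact QC.compactSpace_of_repWith h' hF

theorem isQuasiCompactMor_of_comp {X Y Z : Sp S} (hX : IsAlgSpace X) (hY : IsAlgSpace Y)
    (hZ : Representable (Limits.diag Z)) {f : X ⟶ Y} {g : Y ⟶ Z}
    (hfg : IsQuasiCompactMor (f ≫ g)) (hg : RepWith @QuasiCompact (pullback.diagonal g)) :
    IsQuasiCompactMor f := by
  have h2 := isQuasiCompactMor_baseChange (IsPullback.of_hasPullback (f ≫ g) g) hfg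
  have h1 := QC.isQuasiCompactMor_of_repWith
    (repWith_baseChange (pullback_lift_diagonal_isPullback f g) hg)
  have h := QC.isQuasiCompactMor_comp
    (isAlgSpace_of_isPullback (IsPullback.of_hasPullback (f ≫ g) g) hZ hX hY) hY.diag h1 h2
  rwa [comp_graph] at h

/-- The absolute diagonal of the source from the relative one and that of the target. -/
theorem repWith_diag_of_mor (P : MorphismProperty Scheme.{u}) [P.IsStableUnderBaseChange]
    [P.IsStableUnderComposition] {F G : Sp S} (f : F ⟶ G) (hf : RepWith P (pullback.diagonal f))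
    (hG : RepWith P (Limits.diag G)) : RepWith P (Limits.diag F) := by
  have sq := isPullback_prodLift (IsPullback.of_hasPullback f f)
  have h : Limits.diag F = pullback.diagonal f ≫ prod.lift (pullback.fst f f) (pullback.snd f f) := by
    apply prod.hom_ext <;> simp
  rw [h]
  exact repWith_comp hf (repWith_baseChange sq hG)

end Groth.Agent.Lib.AlgSpMor.Perm
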