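import Mathlib.AlgebraicGeometry.Morphisms.QuasiCompact
import Groth.Agent.Lib.AlgSpace.Descend
import Groth.Agent.Lib.AlgSpMor.Sep
import Groth.Agent.Lib.AlgSpMor.Topo

/-!
# Descent of representability for morphisms of algebraic spaces

A morphism whose base change along an etale cover of the target is representable by quasi-affine
morphisms, by open immersions or by immersions is representable.
-/

universe u

open CategoryTheory CategoryTheory.Limits AlgebraicGeometry
open Groth.Agent.Lib.AlgSpace Groth.Agent.Lib.FFDesc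

namespace Groth.Agent.Lib.AlgSpMor.RepDescent

open AlgSp (Sp yon Representable RepWith IsAlgSpace)
open AlgSp

/-- Descent data on quasi-affine schemes are effective. -/
theorem effective_of_quasiAffine {X S : Scheme.{u}} {p : X ⟶ S} (hp : fppfCover p)
    (D : Desc.SchDD p) (hD : Mor2.IsQuasiAffine D.obj.hom) :
    ∃ (U : Over S) (q : D.obj.left ⟶ U.left), IsDescended D U q := by
  have := hp.1.1
  have := hp.1.2
  have := hp.2
  obtain ⟨U, q, H, -, -⟩ := exists_isDescended D (fpqcCover_of_lfp p) hD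
  exact ⟨U, q, H⟩

/-- Descent data on open subschemes are effective. -/
theorem effective_of_isOpenImmersion {X S : Scheme.{u}} {p : X ⟶ S} (hp : fppfCover p)
    (D : Desc.SchDD p) [IsOpenImmersion D.obj.hom] :
    ∃ (U : Over S) (q : D.obj.left ⟶ U.left), IsDescended D U q := by
  have := hp.1.1
  have := hp.1.2
  have := hp.2
  let W : S.Opens := ⟨p '' Set.range D.obj.hom,
    p.isOpenMap _ D.obj.hom.isOpenEmbedding.isOpen_range⟩
  have hr : Set.range (D.obj.hom ≫ p) ⊆ Set.range W.ι := by
    rintro _ ⟨v, rfl⟩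
    rw [Scheme.Opens.range_ι]
    exact ⟨_, ⟨v, rfl⟩, rfl⟩
  let q : D.obj.left ⟶ (Over.mk W.ι).left := IsOpenImmersion.lift W.ι (D.obj.hom ≫ p) hr
  have hq : q ≫ W.ι = D.obj.hom ≫ p := IsOpenImmersion.lift_fac _ _ _
  refine ⟨Over.mk W.ι, q, ⟨?_, ?_⟩⟩
  · refine (IsOpenImmersion.isPullback q D.obj.hom W.ι p hq.symm ?_).flip
    ext x
    show p x ∈ W.ι.opensRange ↔ x ∈ Set.range D.obj.hom
    rw [Scheme.Opens.opensRange_ι]
    constructor
    · rintro ⟨x₀, ⟨v, rfl⟩, hx⟩
      obtain ⟨z, hz₁, hz₂⟩ := Scheme.Pullback.exists_preimage_pullback (f := D.obj.hom ≫ p) (g := p)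
        v x (by simpa using hx)
      refine ⟨act D z, ?_⟩
      rw [← Scheme.Hom.comp_apply, act_hom]
      exact hz₂
    · rintro ⟨v, rfl⟩
      exact ⟨_, ⟨v, rfl⟩, rfl⟩
  · rw [← cancel_mono W.ι, Category.assoc, Category.assoc, hq, act_hom_assoc]
    exact pullback.condition

variable {S : Scheme.{u}}

/-- One step of descent: if the base change of `f` along an fppf cover of `T` is a scheme with
effective descent data, the base change to `T` is a scheme. -/
theorem exists_pullback_of_cover {X Y : Sp S} {f : X ⟶ Y} {T T' V' : Over S} {t : T' ⟶ T}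
    (ht : fppfCover t.left) {ξ : (yon S).obj T ⟶ Y} {g : V' ⟶ T'} {c : (yon S).obj V' ⟶ X}
    (sq : IsPullback c ((yon S).map g) f ((yon S).map t ≫ ξ))
    (heff : ∀ D : Desc.SchDD t.left, D.obj = Over.mk g.left →
      ∃ (U : Over T.left) (q : D.obj.left ⟶ U.left), IsDescended D U q) :
    ∃ (W : Over S) (w : W ⟶ T) (fst : (yon S).obj W ⟶ X) (k : V' ⟶ W),
      IsPullback fst ((yon S).map w) f ξ ∧ IsPullback k.left g.left w.left t.left := by
  have sqP := IsPullback.of_hasPullback f ξ
  have sq3 : IsPullback (sqP.lift c ((yon S).map g ≫ (yon S).map t)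
      (by rw [Category.assoc]; exact sq.w)) ((yon S).map g) (pullback.snd f ξ) ((yon S).map t) :=
    IsPullback.of_right (h₁₁ := sqP.lift c ((yon S).map g ≫ (yon S).map t)
      (by rw [Category.assoc]; exact sq.w)) (by rw [sqP.lift_fst]; exact sq)
      (sqP.lift_snd _ _ _) sqP
  obtain ⟨W, w, e, k, he, -, sqW⟩ := exists_iso_yon_of_descent ht sq3 heff
  exact ⟨W, w, e.hom ≫ pullback.fst f ξ, k, IsPullback.of_iso sqP e.symm (Iso.refl _) (Iso.refl _)
    (Iso.refl _) (by simp) (by simp [← he]) (by simp) (by simp), sqW.map (Over.forget S)⟩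

/-- A property local for the fppf topology descends to the descended scheme. -/
theorem property_of_cover (P : MorphismProperty Scheme.{u}) [P.IsStableUnderBaseChange]
    [P.IsLocalAtTarget Scheme.fppfPrecoverage] {V' W T T' : Scheme.{u}} {k : V' ⟶ W} {g : V' ⟶ T'}
    {w : W ⟶ T} {t : T' ⟶ T} (sq : IsPullback k g w t) (ht : fppfCover t) (hg : P g) : P w := by
  refine of_fppfCover P ht ?_
  rw [← (IsPullback.of_hasPullback w t).isoIsPullback_hom_snd _ _ sq]
  exact (MorphismProperty.cancel_left_of_respectsIso P _ _).2 hg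

/-- Representability and `P` descend along an etale surjection. -/
theorem repWith_of_cover (P : MorphismProperty Scheme.{u}) [P.IsStableUnderBaseChange]
    [P.IsLocalAtTarget Scheme.fppfPrecoverage]
    (heff : ∀ ⦃A B : Scheme.{u}⦄ (p : A ⟶ B), fppfCover p → ∀ D : Desc.SchDD p, P D.obj.hom →
      ∃ (U : Over B) (q : D.obj.left ⟶ U.left), IsDescended D U q)
    {X Y : Sp S} (hY : Representable (Limits.diag Y)) {f : X ⟶ Y} {V : Over S}
    {p : (yon S).obj V ⟶ Y} (hp : RepWith @Etale p) (hps : RepWith @Surjective p) {X' : Sp S}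
    {fst : X' ⟶ X} {snd : X' ⟶ (yon S).obj V} (sq : IsPullback fst snd f p)
    (h : RepWith P snd) : RepWith P f := by
  refine repWith_of_exists fun T ξ ↦ ?_
  obtain ⟨T', t, v, sqT⟩ := exists_isPullback_yon hY ξ p
  have ht : Etale t.left := repWith_property hp sqT.flip
  have hts : Surjective t.left := repWith_property hps sqT.flip
  obtain ⟨V', g, c, sqV, hg⟩ := repWith_exists h ((yon S).map v)
  have sq2 := sqV.paste_horiz sq
  rw [← sqT.w] at sq2
  have hcov : fppfCover t.left := fppfCover_mk t.left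
  obtain ⟨W, w, fst', k, sqW, sqk⟩ := exists_pullback_of_cover hcov sq2
    (fun D hD ↦ heff t.left hcov D (by rw [hD]; exact hg))
  exact ⟨W, w, fst', sqW, property_of_cover P sqk hcov hg⟩

/-- A family of base changes to schemes glues to the base change along their coproduct. -/
theorem exists_isPullback_sigma {ι : Type u} {F : Sp S} {T : Over S} {f : F ⟶ (yon S).obj T}
    {W : ι → Over S} {w : ∀ i, W i ⟶ T} {V : ι → Over S} {g : ∀ i, V i ⟶ W i}
    {c : ∀ i, (yon S).obj (V i) ⟶ F}
    (sq : ∀ i, IsPullback (c i) ((yon S).map (g i)) f ((yon S).map (w i))) :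
    ∃ (b : (yon S).obj (sigmaOver V) ⟶ F) (G : sigmaOver V ⟶ sigmaOver W)
      (t : sigmaOver W ⟶ T),
      (∀ i, sigmaOverι W i ≫ t = w i) ∧
      (∀ i, IsPullback (sigmaOverι V i).left (g i).left G.left (sigmaOverι W i).left) ∧
      IsPullback b ((yon S).map G) f ((yon S).map t) := by
  obtain ⟨b, hb, -⟩ := existsUnique_sigmaOver_desc V c
  let G : sigmaOver V ⟶ sigmaOver W :=
    Over.homMk (Sigma.desc fun i ↦ (g i).left ≫ Sigma.ι (fun i ↦ (W i).left) i)
      (Sigma.hom_ext _ _ fun i ↦ by simp)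
  let t : sigmaOver W ⟶ T :=
    Over.homMk (Sigma.desc fun i ↦ (w i).left) (Sigma.hom_ext _ _ fun i ↦ by simp)
  have ht : ∀ i, sigmaOverι W i ≫ t = w i := fun i ↦ Over.OverMorphism.ext (by simp [t])
  have hG : ∀ i, sigmaOverι V i ≫ G = g i ≫ sigmaOverι W i := fun i ↦
    Over.OverMorphism.ext (by simp [G])
  haveI hιV : ∀ i, IsOpenImmersion (sigmaOverι V i).left := fun i ↦
    inferInstanceAs (IsOpenImmersion (Sigma.ι (fun i ↦ (V i).left) i))
  haveI hιW : ∀ i, IsOpenImmersion (sigmaOverι W i).left := fun i ↦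
    inferInstanceAs (IsOpenImmersion (Sigma.ι (fun i ↦ (W i).left) i))
  have hpre : ∀ i (x : ↥(sigmaOver V).left), G.left x ∈ Set.range (sigmaOverι W i).left →
      x ∈ Set.range (sigmaOverι V i).left := by
    rintro i x ⟨z, hz⟩
    obtain ⟨j, y, rfl⟩ := (sigmaOpenCover (fun i ↦ (V i).left)).exists_eq x
    have hj : G.left ((sigmaOverι V j).left y) = (sigmaOverι W j).left ((g j).left y) := by
      rw [← Scheme.Hom.comp_apply, ← Scheme.Hom.comp_apply, ← Over.comp_left, hG, Over.comp_left]
    by_cases hij : j = i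
    · subst hij; exact ⟨y, rfl⟩
    · exfalso
      exact disjoint_opensRange_sigmaι (fun i ↦ (W i).left) j i hij
        |>.le_bot (show (sigmaOverι W j).left ((g j).left y) ∈
          (Sigma.ι (fun i ↦ (W i).left) j).opensRange ⊓ (Sigma.ι (fun i ↦ (W i).left) i).opensRange
          from ⟨⟨_, rfl⟩, ⟨z, hz.trans hj⟩⟩) |>.elim
  have hpb : ∀ i, IsPullback (sigmaOverι V i).left (g i).left G.left (sigmaOverι W i).left := by
    intro i
    refine (IsOpenImmersion.isPullback (g i).left (sigmaOverι V i).left (sigmaOverι W i).left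
      G.left (by rw [← Over.comp_left, ← Over.comp_left, hG]) ?_).flip
    ext x
    refine ⟨fun h ↦ hpre i x h, ?_⟩
    rintro ⟨y, rfl⟩
    exact ⟨(g i).left y, by
      rw [← Scheme.Hom.comp_apply, ← Scheme.Hom.comp_apply, ← Over.comp_left, ← Over.comp_left, hG]⟩
  have hw0 : b ≫ f = (yon S).map G ≫ (yon S).map t :=
    (existsUnique_sigmaOver_desc V (fun i ↦ c i ≫ f)).unique
      (fun i ↦ by rw [← Category.assoc, hb]) fun i ↦ by
        rw [← Category.assoc, ← Functor.map_comp, hG, Functor.map_comp, Category.assoc,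
          ← Functor.map_comp, ht, (sq i).w]
  have hdec : ∀ {Z : Over S} (h : Z ⟶ sigmaOver W), ∃ (Zs : ι → Over S) (j : ∀ i, Zs i ⟶ Z)
      (l : ∀ i, Zs i ⟶ W i), Sieve.ofArrows Zs j ∈ AlgSp.J S Z ∧ (∀ i, IsOpenImmersion (j i).left) ∧
        ∀ i, j i ≫ h = l i ≫ sigmaOverι W i := by
    intro Z h
    let O : ι → Z.left.Opens := fun i ↦ h.left ⁻¹ᵁ (sigmaOverι W i).left.opensRange
    have hl : ∀ i, Set.range ((O i).ι ≫ h.left) ⊆ Set.range (sigmaOverι W i).left := by
      rintro i _ ⟨z, rfl⟩
      have hz : h.left ((O i).ι z) ∈ (sigmaOverι W i).left.opensRange := z.2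
      exact hz
    let l : ∀ i, Topo.opensOver (O i) ⟶ W i := fun i ↦
      Over.homMk (IsOpenImmersion.lift (sigmaOverι W i).left ((O i).ι ≫ h.left) (hl i)) (by
        show _ ≫ (W i).hom = (O i).ι ≫ Z.hom
        rw [← Over.w (sigmaOverι W i), IsOpenImmersion.lift_fac_assoc, Category.assoc, Over.w])
    refine ⟨fun i ↦ Topo.opensOver (O i), fun i ↦ Topo.opensOverι (O i), l,
      ofArrows_mem_J _ _ (fun i ↦ inferInstanceAs (Flat (O i).ι))
        (fun i ↦ inferInstanceAs (LocallyOfFinitePresentation (O i).ι)) (fun z ↦ ?_),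
      fun i ↦ inferInstanceAs (IsOpenImmersion (O i).ι), fun i ↦ Over.OverMorphism.ext ?_⟩
    · obtain ⟨i, y, hy⟩ := (sigmaOpenCover (fun i ↦ (W i).left)).exists_eq (h.left z)
      exact ⟨i, ⟨z, y, hy⟩, rfl⟩
    · rw [Over.comp_left, Over.comp_left]
      exact (IsOpenImmersion.lift_fac (sigmaOverι W i).left _ (hl i)).symm
  refine ⟨b, G, t, ht, hpb, isPullback_of_yon hw0 (fun Z a a' h1 h2 ↦ ?_) fun Z a h hw ↦ ?_⟩
  · obtain ⟨a, rfl⟩ := (yon S).map_surjective a
    obtain ⟨a', rfl⟩ := (yon S).map_surjective a'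
    have h2' : a ≫ G = a' ≫ G := (yon S).map_injective (by simpa using h2)
    obtain ⟨Zs, j, l, hcov, -, hj⟩ := hdec (a ≫ G)
    refine hom_ext_of_family Zs j hcov fun i ↦ ?_
    have e1 : (j i ≫ a).left ≫ G.left = (l i).left ≫ (sigmaOverι W i).left := by
      rw [← Over.comp_left, ← Over.comp_left, Category.assoc, hj]
    have e2 : (j i ≫ a').left ≫ G.left = (l i).left ≫ (sigmaOverι W i).left := by
      rw [← Over.comp_left, ← Over.comp_left, Category.assoc, ← h2', hj]
    let m : Zs i ⟶ V i := Over.homMk ((hpb i).lift _ _ e1) (by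
      rw [← Over.w (sigmaOverι V i), IsPullback.lift_fst_assoc, Over.w])
    let m' : Zs i ⟶ V i := Over.homMk ((hpb i).lift _ _ e2) (by
      rw [← Over.w (sigmaOverι V i), IsPullback.lift_fst_assoc, Over.w])
    have hm : m ≫ sigmaOverι V i = j i ≫ a := Over.OverMorphism.ext ((hpb i).lift_fst _ _ e1)
    have hm' : m' ≫ sigmaOverι V i = j i ≫ a' := Over.OverMorphism.ext ((hpb i).lift_fst _ _ e2)
    have hg : m ≫ g i = m' ≫ g i :=
      Over.OverMorphism.ext (((hpb i).lift_snd _ _ e1).trans ((hpb i).lift_snd _ _ e2).symm)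
    have hc : (yon S).map m ≫ c i = (yon S).map m' ≫ c i := by
      rw [← hb i, ← Category.assoc, ← Category.assoc, ← Functor.map_comp, ← Functor.map_comp,
        hm, hm', Functor.map_comp, Functor.map_comp, Category.assoc, Category.assoc, h1]
    have : m = m' := (yon S).map_injective ((sq i).hom_ext hc
      (by rw [← Functor.map_comp, ← Functor.map_comp, hg]))
    rw [← Functor.map_comp, ← Functor.map_comp, ← hm, ← hm', this]
  · obtain ⟨h, rfl⟩ := (yon S).map_surjective h
    obtain ⟨Zs, j, l, hcov, hjo, hj⟩ := hdec h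
    have hmi : ∀ i, ∃ m : Zs i ⟶ V i,
        (yon S).map m ≫ c i = (yon S).map (j i) ≫ a ∧ m ≫ g i = l i := by
      intro i
      have e : ((yon S).map (j i) ≫ a) ≫ f = (yon S).map (l i) ≫ (yon S).map (w i) := by
        rw [Category.assoc, hw, ← Category.assoc, ← Functor.map_comp, hj, Functor.map_comp,
          Category.assoc, ← Functor.map_comp, ht]
      obtain ⟨m, hm⟩ := (yon S).map_surjective ((sq i).lift _ _ e)
      exact ⟨m, by rw [hm, (sq i).lift_fst], (yon S).map_injective
        (by rw [Functor.map_comp, hm, (sq i).lift_snd])⟩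
    choose m hm hm' using hmi
    have hcomp : ∀ (i k : ι) (Q : Over S) (gi : Q ⟶ Zs i) (gk : Q ⟶ Zs k),
        gi ≫ j i = gk ≫ j k → (yon S).map gi ≫ (yon S).map (m i ≫ sigmaOverι V i) =
          (yon S).map gk ≫ (yon S).map (m k ≫ sigmaOverι V k) := by
      intro i k Q gi gk e
      rw [← Functor.map_comp, ← Functor.map_comp]
      congr 1
      have hl : (gi ≫ l i) ≫ sigmaOverι W i = (gk ≫ l k) ≫ sigmaOverι W k := by
        rw [Category.assoc, ← hj, ← Category.assoc, e, Category.assoc, hj, Category.assoc]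
      have hl' : (gi ≫ l i).left ≫ Sigma.ι (fun i ↦ (W i).left) i =
          (gk ≫ l k).left ≫ Sigma.ι (fun i ↦ (W i).left) k := congr($(hl).left)
      by_cases hik : i = k
      · subst hik
        have hgg : gi = gk := Over.OverMorphism.ext (by
          haveI := hjo i
          exact (cancel_mono (j i).left).1 congr($(e).left))
        rw [hgg]
      · haveI : IsEmpty ↥Q.left := ⟨fun q ↦
          ((disjoint_opensRange_sigmaι (fun i ↦ (W i).left) i k hik).le_bot
            (show ((gi ≫ l i).left ≫ Sigma.ι (fun i ↦ (W i).left) i) q ∈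
              (Sigma.ι (fun i ↦ (W i).left) i).opensRange ⊓
                (Sigma.ι (fun i ↦ (W i).left) k).opensRange from
              ⟨⟨_, rfl⟩, ⟨(gk ≫ l k).left q, by rw [hl']; rfl⟩⟩)).elim⟩
        exact Over.OverMorphism.ext ((isInitialOfIsEmpty (X := Q.left)).hom_ext _ _)
    obtain ⟨r, hr, -⟩ := exists_desc_of_family Zs j hcov
      (fun i ↦ (yon S).map (m i ≫ sigmaOverι V i)) hcomp
    refine ⟨r, hom_ext_of_family Zs j hcov fun i ↦ ?_, hom_ext_of_family Zs j hcov fun i ↦ ?_⟩
    · rw [← Category.assoc, hr, Functor.map_comp, Category.assoc, hb, hm]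
    · rw [← Category.assoc, hr, ← Functor.map_comp, Category.assoc, hG, ← Category.assoc, hm',
          ← hj, Functor.map_comp]

/-- Representability with `P` can be tested on affine schemes over the target. -/
theorem repWith_of_affine (P : MorphismProperty Scheme.{u}) [P.IsStableUnderBaseChange]
    [IsZariskiLocalAtTarget P] [P.IsLocalAtTarget Scheme.fppfPrecoverage]
    (heff : ∀ ⦃A B : Scheme.{u}⦄ (p : A ⟶ B), fppfCover p → ∀ D : Desc.SchDD p, P D.obj.hom →
      ∃ (U : Over B) (q : D.obj.left ⟶ U.left), IsDescended D U q)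
    {X Y : Sp S} {f : X ⟶ Y}
    (h : ∀ (Z : Over S), IsAffine Z.left → ∀ g : (yon S).obj Z ⟶ Y,
      ∃ (V : Over S) (v : V ⟶ Z) (fst : (yon S).obj V ⟶ X),
        IsPullback fst ((yon S).map v) f g ∧ P v.left) : RepWith P f := by
  refine repWith_of_exists fun T ξ ↦ ?_
  choose V v c sqi hv using fun O : T.left.affineOpens ↦
    h (Topo.opensOver O.1) O.2 ((yon S).map (Topo.opensOverι O.1) ≫ ξ)
  have sqP := IsPullback.of_hasPullback f ξ
  have sqi' : ∀ O : T.left.affineOpens, IsPullback
      (sqP.lift (c O) ((yon S).map (v O) ≫ (yon S).map (Topo.opensOverι O.1))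
        (by rw [Category.assoc]; exact (sqi O).w)) ((yon S).map (v O)) (pullback.snd f ξ)
      ((yon S).map (Topo.opensOverι O.1)) := fun O ↦
    IsPullback.of_right (h₁₁ := sqP.lift (c O) ((yon S).map (v O) ≫ (yon S).map (Topo.opensOverι O.1))
      (by rw [Category.assoc]; exact (sqi O).w)) (by rw [sqP.lift_fst]; exact sqi O)
      (sqP.lift_snd _ _ _) sqP
  obtain ⟨b, G, t, ht, hpb, sqb⟩ := exists_isPullback_sigma sqi'
  let W := fun O : T.left.affineOpens ↦ Topo.opensOver O.1
  haveI : Etale t.left := by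
    refine (IsZariskiLocalAtSource.iff_of_openCover (P := @Etale)
      (sigmaOpenCover fun O ↦ (W O).left)).2 fun O ↦ ?_
    show Etale ((sigmaOverι W O).left ≫ t.left)
    rw [← Over.comp_left, ht]
    exact inferInstanceAs (Etale O.1.ι)
  haveI : Surjective t.left := ⟨fun x ↦ by
    obtain ⟨O, hO, hx, -⟩ := exists_isAffineOpen_mem_and_subset (U := ⊤) (Set.mem_univ x)
    refine ⟨(sigmaOverι W ⟨O, hO⟩).left ⟨x, hx⟩, ?_⟩
    rw [← Scheme.Hom.comp_apply, ← Over.comp_left, ht]
    rfl⟩
  have hG : P G.left := IsZariskiLocalAtTarget.of_openCover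
    (sigmaOpenCover fun O ↦ (W O).left) fun O ↦ by
      show P (pullback.snd G.left (sigmaOverι W O).left)
      rw [← (IsPullback.of_hasPullback _ _).isoIsPullback_hom_snd _ _ (hpb O)]
      exact (MorphismProperty.cancel_left_of_respectsIso P _ _).2 (hv O)
  have hcov : fppfCover t.left := fppfCover_mk t.left
  obtain ⟨Z, w, fst, k, sqW, sqk⟩ := exists_pullback_of_cover hcov (sqb.paste_horiz sqP)
    (fun D hD ↦ heff t.left hcov D (by rw [hD]; exact hG))
  exact ⟨Z, w, fst, sqW, property_of_cover P sqk hcov hG⟩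

theorem isQuasiAffine_of_isAffineHom {A B : Scheme.{u}} (f : A ⟶ B) [IsAffineHom f] :
    Mor2.IsQuasiAffine f :=
  ⟨inferInstance, fun V hV ↦ by
    have : IsAffine (f ⁻¹ᵁ V : Scheme.{u}) := hV.preimage f
    infer_instance⟩

theorem effective_isAffineHom ⦃A B : Scheme.{u}⦄ (p : A ⟶ B) (hp : fppfCover p) (D : Desc.SchDD p)
    (h : IsAffineHom D.obj.hom) : ∃ (U : Over B) (q : D.obj.left ⟶ U.left), IsDescended D U q :=
  effective_of_quasiAffine hp D (@isQuasiAffine_of_isAffineHom _ _ D.obj.hom h)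

theorem effective_isClosedImmersion ⦃A B : Scheme.{u}⦄ (p : A ⟶ B) (hp : fppfCover p)
    (D : Desc.SchDD p) (h : IsClosedImmersion D.obj.hom) :
    ∃ (U : Over B) (q : D.obj.left ⟶ U.left), IsDescended D U q :=
  effective_isAffineHom p hp D inferInstance

theorem effective_isOpenImmersion ⦃A B : Scheme.{u}⦄ (p : A ⟶ B) (hp : fppfCover p)
    (D : Desc.SchDD p) (h : IsOpenImmersion D.obj.hom) :
    ∃ (U : Over B) (q : D.obj.left ⟶ U.left), IsDescended D U q :=
  haveI := h
  effective_of_isOpenImmersion hp D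

/-- One step of descent for immersions. -/
theorem exists_pullback_of_cover_immersion {X Y : Sp S} {f : X ⟶ Y} {T T' V' : Over S}
    {t : T' ⟶ T} (ht : fppfCover t.left) {ξ : (yon S).obj T ⟶ Y} {g : V' ⟶ T'}
    {c : (yon S).obj V' ⟶ X} (sq : IsPullback c ((yon S).map g) f ((yon S).map t ≫ ξ))
    [IsImmersion g.left] :
    ∃ (W : Over S) (w : W ⟶ T) (fst : (yon S).obj W ⟶ X),
      IsPullback fst ((yon S).map w) f ξ ∧ IsImmersion w.left := by
  have := ht.1.1
  have := ht.1.2
  have := ht.2
  let R : Set ↥T.left := Points.ofPt ξ ⁻¹' Set.range (Points.map f)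
  have hR : t.left ⁻¹' R = Set.range g.left := by
    have h := preimage_image_map sq Set.univ
    rw [Set.image_univ, Set.preimage_univ, Set.image_univ] at h
    rw [← h]
    ext z
    simp only [R, Set.mem_preimage, ofPt_yon_map_comp]
  have hcob : t.left ⁻¹' coborder R = coborder (Set.range g.left) := by
    rw [← coborder_preimage t.left.isOpenMap t.left.continuous, hR]
  have hO : IsOpen (coborder R) := by
    rw [← (IsOpenMap.isQuotientMap t.left.isOpenMap t.left.continuous
      t.left.surjective).isOpen_preimage, hcob]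
    exact (isLocallyClosed_tfae _ |>.out 0 1).1 (IsImmersion.isLocallyClosed_range (f := g.left))
  let O : T.left.Opens := ⟨coborder R, hO⟩
  let O' : T'.left.Opens := t.left ⁻¹ᵁ O
  have hgO : Set.range g.left ⊆ Set.range O'.ι := by
    rw [Scheme.Opens.range_ι]
    show Set.range g.left ⊆ t.left ⁻¹' coborder R
    rw [hcob]
    exact subset_coborder
  let TO : Over S := Topo.opensOver O
  let TO' : Over S := Topo.opensOver O'
  let j' : TO' ⟶ T' := Topo.opensOverι O'
  let t₀ : TO' ⟶ TO := Over.homMk (t.left ∣_ O) (by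
    show (t.left ∣_ O) ≫ O.ι ≫ T.hom = O'.ι ≫ T'.hom
    rw [morphismRestrict_ι_assoc, Over.w])
  let g₀ : V' ⟶ TO' := Over.homMk (IsOpenImmersion.lift O'.ι g.left hgO) (by
    show IsOpenImmersion.lift O'.ι g.left hgO ≫ O'.ι ≫ T'.hom = V'.hom
    rw [IsOpenImmersion.lift_fac_assoc, Over.w])
  have hg₀ : g₀ ≫ j' = g := Over.OverMorphism.ext (IsOpenImmersion.lift_fac _ _ _)
  haveI hg₀c : IsClosedImmersion g₀.left := by
    haveI : IsPreimmersion (g₀.left ≫ O'.ι) := by
      rw [show g₀.left ≫ O'.ι = g.left from IsOpenImmersion.lift_fac _ _ _]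
      infer_instance
    haveI : IsPreimmersion g₀.left := IsPreimmersion.of_comp g₀.left O'.ι
    refine IsClosedImmersion.of_isPreimmersion _ ?_
    have e : Set.range g₀.left = O'.ι ⁻¹' closure (Set.range g.left) := by
      ext z
      constructor
      · rintro ⟨v, rfl⟩
        refine subset_closure ⟨v, ?_⟩
        rw [← Scheme.Hom.comp_apply]
        exact congr($((IsOpenImmersion.lift_fac O'.ι g.left hgO).symm) v)
      · intro hz
        have hz' : O'.ι z ∈ coborder (Set.range g.left) := by rw [← hcob]; exact z.2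
        have : O'.ι z ∈ Set.range g.left := by
          rw [coborder] at hz'
          by_contra h
          exact hz' ⟨hz, h⟩
        obtain ⟨v, hv⟩ := this
        refine ⟨v, O'.ι.isOpenEmbedding.injective ?_⟩
        rw [← hv, ← Scheme.Hom.comp_apply]
        exact congr($(IsOpenImmersion.lift_fac O'.ι g.left hgO) v)
    rw [e]
    exact isClosed_closure.preimage O'.ι.continuous
  haveI : Mono j'.left := inferInstanceAs (Mono O'.ι)
  haveI : Mono j' := (Over.forget S).mono_of_mono_map (inferInstanceAs (Mono j'.left))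
  have sq0 : IsPullback (𝟙 ((yon S).obj V')) ((yon S).map g₀) ((yon S).map g) ((yon S).map j') :=
    isPullback_of_yon (by rw [Category.id_comp, ← Functor.map_comp, hg₀])
      (fun Z a a' h _ ↦ by simpa using h) fun Z a b w ↦ by
        obtain ⟨a, rfl⟩ := (yon S).map_surjective a
        obtain ⟨b, rfl⟩ := (yon S).map_surjective b
        refine ⟨(yon S).map a, by simp, ?_⟩
        rw [← Functor.map_comp]
        congr 1
        rw [← cancel_mono j', Category.assoc, hg₀]
        exact (yon S).map_injective (by simpa using w)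
  have sq1 := sq0.paste_horiz sq
  rw [Category.id_comp, ← Category.assoc, ← Functor.map_comp,
    show j' ≫ t = t₀ ≫ Topo.opensOverι O from
      Over.OverMorphism.ext (morphismRestrict_ι t.left O).symm,
    Functor.map_comp, Category.assoc] at sq1
  have ht₀ : fppfCover t₀.left :=
    MorphismProperty.of_isPullback (P := fppfCover) (isPullback_morphismRestrict t.left O).flip ht
  obtain ⟨W, w, fst, k, sqW, sqk⟩ := exists_pullback_of_cover ht₀ sq1 (fun D hD ↦
    effective_isClosedImmersion t₀.left ht₀ D (by rw [hD]; exact hg₀c))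
  haveI := Sep.isLocalAtTarget_fppf_isClosedImmersion.{u}
  have hw : IsClosedImmersion w.left := property_of_cover @IsClosedImmersion sqk ht₀ hg₀c
  haveI : Mono (Topo.opensOverι O).left := inferInstanceAs (Mono O.ι)
  haveI : Mono (Topo.opensOverι O) :=
    (Over.forget S).mono_of_mono_map (inferInstanceAs (Mono (Topo.opensOverι O).left))
  refine ⟨W, w ≫ Topo.opensOverι O, fst,
    isPullback_of_yon (by rw [sqW.w, Functor.map_comp, Category.assoc]) (fun Z a a' h1 h2 ↦ ?_)
      fun Z a h hw ↦ ?_, inferInstanceAs (IsImmersion (w.left ≫ O.ι))⟩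
  · refine sqW.hom_ext h1 ?_
    obtain ⟨a, rfl⟩ := (yon S).map_surjective a
    obtain ⟨a', rfl⟩ := (yon S).map_surjective a'
    rw [← Functor.map_comp, ← Functor.map_comp] at h2 ⊢
    have := (yon S).map_injective h2
    rw [← Category.assoc, ← Category.assoc, cancel_mono] at this
    rw [this]
  · obtain ⟨h, rfl⟩ := (yon S).map_surjective h
    have hr : Set.range h.left ⊆ Set.range O.ι := by
      rw [Scheme.Opens.range_ι]
      rintro _ ⟨z, rfl⟩
      refine subset_coborder ⟨Points.ofPt a z, ?_⟩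
      rw [Points.map_ofPt, hw, ofPt_yon_map_comp]
    let h₀ : Z ⟶ TO := Over.homMk (IsOpenImmersion.lift O.ι h.left hr) (by
      show IsOpenImmersion.lift O.ι h.left hr ≫ O.ι ≫ T.hom = Z.hom
      rw [IsOpenImmersion.lift_fac_assoc, Over.w])
    have hh : h₀ ≫ Topo.opensOverι O = h :=
      Over.OverMorphism.ext (IsOpenImmersion.lift_fac _ _ _)
    refine ⟨sqW.lift a ((yon S).map h₀) (by rw [hw, ← Category.assoc, ← Functor.map_comp, hh]),
      sqW.lift_fst _ _ _, ?_⟩
    have := congrArg (· ≫ (yon S).map (Topo.opensOverι O)) (sqW.lift_snd a ((yon S).map h₀)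
      (by rw [hw, ← Category.assoc, ← Functor.map_comp, hh]))
    simp only [Category.assoc] at this
    rw [Functor.map_comp (yon S) w]
    refine this.trans ?_
    rw [← Functor.map_comp, hh]

/-- Immersions descend along etale surjections. -/
theorem repWith_immersion_of_cover {X Y : Sp S} (hY : Representable (Limits.diag Y)) {f : X ⟶ Y}
    {V : Over S} {p : (yon S).obj V ⟶ Y} (hp : RepWith @Etale p) (hps : RepWith @Surjective p)
    {X' : Sp S} {fst : X' ⟶ X} {snd : X' ⟶ (yon S).obj V} (sq : IsPullback fst snd f p)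
    (h : RepWith @IsImmersion snd) : RepWith @IsImmersion f := by
  refine repWith_of_exists fun T ξ ↦ ?_
  obtain ⟨T', t, v, sqT⟩ := exists_isPullback_yon hY ξ p
  have ht : Etale t.left := repWith_property hp sqT.flip
  have hts : Surjective t.left := repWith_property hps sqT.flip
  obtain ⟨V', g, c, sqV, hg⟩ := repWith_exists h ((yon S).map v)
  have sq2 := sqV.paste_horiz sq
  rw [← sqT.w] at sq2
  haveI : IsImmersion g.left := hg
  exact exists_pullback_of_cover_immersion (fppfCover_mk t.left) sq2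

/-- Immersions can be tested on affine schemes over the target. -/
theorem repWith_immersion_of_affine {X Y : Sp S} {f : X ⟶ Y}
    (h : ∀ (Z : Over S), IsAffine Z.left → ∀ g : (yon S).obj Z ⟶ Y,
      ∃ (V : Over S) (v : V ⟶ Z) (fst : (yon S).obj V ⟶ X),
        IsPullback fst ((yon S).map v) f g ∧ IsImmersion v.left) : RepWith @IsImmersion f := by
  refine repWith_of_exists fun T ξ ↦ ?_
  choose V v c sqi hv using fun O : T.left.affineOpens ↦
    h (Topo.opensOver O.1) O.2 ((yon S).map (Topo.opensOverι O.1) ≫ ξ)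
  have sqP := IsPullback.of_hasPullback f ξ
  have sqi' : ∀ O : T.left.affineOpens, IsPullback
      (sqP.lift (c O) ((yon S).map (v O) ≫ (yon S).map (Topo.opensOverι O.1))
        (by rw [Category.assoc]; exact (sqi O).w)) ((yon S).map (v O)) (pullback.snd f ξ)
      ((yon S).map (Topo.opensOverι O.1)) := fun O ↦
    IsPullback.of_right (h₁₁ := sqP.lift (c O) ((yon S).map (v O) ≫ (yon S).map (Topo.opensOverι O.1))
      (by rw [Category.assoc]; exact (sqi O).w)) (by rw [sqP.lift_fst]; exact sqi O)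
      (sqP.lift_snd _ _ _) sqP
  obtain ⟨b, G, t, ht, hpb, sqb⟩ := exists_isPullback_sigma sqi'
  let W := fun O : T.left.affineOpens ↦ Topo.opensOver O.1
  haveI : Etale t.left := by
    refine (IsZariskiLocalAtSource.iff_of_openCover (P := @Etale)
      (sigmaOpenCover fun O ↦ (W O).left)).2 fun O ↦ ?_
    show Etale ((sigmaOverι W O).left ≫ t.left)
    rw [← Over.comp_left, ht]
    exact inferInstanceAs (Etale O.1.ι)
  haveI : Surjective t.left := ⟨fun x ↦ by
    obtain ⟨O, hO, hx, -⟩ := exists_isAffineOpen_mem_and_subset (U := ⊤) (Set.mem_univ x)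
    refine ⟨(sigmaOverι W ⟨O, hO⟩).left ⟨x, hx⟩, ?_⟩
    rw [← Scheme.Hom.comp_apply, ← Over.comp_left, ht]
    rfl⟩
  haveI : IsImmersion G.left := IsZariskiLocalAtTarget.of_openCover (P := @IsImmersion)
    (sigmaOpenCover fun O ↦ (W O).left) fun O ↦ by
      show IsImmersion (pullback.snd G.left (sigmaOverι W O).left)
      rw [← (IsPullback.of_hasPullback _ _).isoIsPullback_hom_snd _ _ (hpb O)]
      exact (MorphismProperty.cancel_left_of_respectsIso @IsImmersion _ _).2 (hv O)
  exact exists_pullback_of_cover_immersion (fppfCover_mk t.left) (sqb.paste_horiz sqP)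

end Groth.Agent.Lib.AlgSpMor.RepDescent
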