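import Mathlib.AlgebraicGeometry.Morphisms.Finite
import Mathlib.AlgebraicGeometry.Morphisms.Integral
import Mathlib.AlgebraicGeometry.Morphisms.LocalFlatDescent
import Groth.Agent.Lib.AlgSpMor.RepDescent
import Groth.Agent.Lib.Tori.AffineDescent
import Groth.Agent.Lib.AlgSpMor.Perm

/-! # Affine morphisms of algebraic spaces are representable -/

universe u

open CategoryTheory CategoryTheory.Limits AlgebraicGeometry
open Groth.Agent.Lib.AlgSpace

namespace Groth.Agent.Lib.AlgSpMor.AffineDescent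

open AlgSp (Sp yon Representable RepWith IsAlgSpace IsAffineMor)
open AlgSp

instance isAffineHom_descendsAlong :
    MorphismProperty.DescendsAlong @IsAffineHom.{u} (@Surjective ⊓ @Flat ⊓ @QuasiCompact) :=
  Groth.Agent.Lib.Tori.AffineDescent.descendsAlong_isAffineHom

instance isIntegralHom_descendsAlong :
    MorphismProperty.DescendsAlong @IsIntegralHom.{u} (@Surjective ⊓ @Flat ⊓ @QuasiCompact) :=
  IsIntegralHom.eq_universallyClosed_inf_isAffineHom.{u} ▸ inferInstance

instance isFinite_descendsAlong :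
    MorphismProperty.DescendsAlong @IsFinite.{u} (@Surjective ⊓ @Flat ⊓ @QuasiCompact) :=
  IsFinite.eq_inf.{u} ▸ inferInstance

theorem isLocalAtTarget_isIntegralHom :
    MorphismProperty.IsLocalAtTarget @IsIntegralHom.{u} Scheme.fppfPrecoverage :=
  isLocalAtTarget_fppf _

theorem isLocalAtTarget_isFinite :
    MorphismProperty.IsLocalAtTarget @IsFinite.{u} Scheme.fppfPrecoverage :=
  isLocalAtTarget_fppf _

theorem isLocalAtTarget_isAffineHom :
    MorphismProperty.IsLocalAtTarget @IsAffineHom.{u} Scheme.fppfPrecoverage :=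
  isLocalAtTarget_fppf _

variable {S : Scheme.{u}}

theorem repWith_of_isAffineMor {X Y : Sp S} {f : X ⟶ Y} (hf : IsAffineMor f) :
    RepWith @IsAffineHom f := by
  haveI := isLocalAtTarget_isAffineHom.{u}
  refine RepDescent.repWith_of_affine _ RepDescent.effective_isAffineHom fun Z hZ g ↦ ?_
  obtain ⟨W, i, fst, sq, hW⟩ := hf hZ g
  haveI := hZ
  haveI := hW
  exact ⟨W, i, fst, sq, isAffineHom_of_isAffine i.left⟩

theorem isAffineMor_iff {X Y : Sp S} {f : X ⟶ Y} : IsAffineMor f ↔ RepWith @IsAffineHom f :=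
  ⟨repWith_of_isAffineMor, Perm.isAffineMor_of_repWith fun _ _ _ h ↦ h⟩

theorem effective_isIntegralHom ⦃A B : Scheme.{u}⦄ (p : A ⟶ B) (hp : fppfCover p)
    (D : Desc.SchDD p) (h : IsIntegralHom D.obj.hom) :
    ∃ (U : Over B) (q : D.obj.left ⟶ U.left), Groth.Agent.Lib.FFDesc.IsDescended D U q :=
  RepDescent.effective_isAffineHom p hp D inferInstance

theorem effective_isFinite ⦃A B : Scheme.{u}⦄ (p : A ⟶ B) (hp : fppfCover p)
    (D : Desc.SchDD p) (h : IsFinite D.obj.hom) :
    ∃ (U : Over B) (q : D.obj.left ⟶ U.left), Groth.Agent.Lib.FFDesc.IsDescended D U q :=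
  RepDescent.effective_isAffineHom p hp D inferInstance

theorem isIntegralMor_iff {X Y : Sp S} {f : X ⟶ Y} :
    AlgSp.IsIntegralMor f ↔ RepWith @IsIntegralHom f := by
  haveI := isLocalAtTarget_isIntegralHom.{u}
  refine ⟨fun hf ↦ RepDescent.repWith_of_affine _ effective_isIntegralHom fun Z hZ g ↦ ?_,
    fun hf Z hZ g ↦ ?_⟩
  · obtain ⟨W, i, fst, sq, -, hi⟩ := hf hZ g
    exact ⟨W, i, fst, sq, hi⟩
  · obtain ⟨W, i, fst, sq, hi⟩ := repWith_exists hf g
    haveI : IsIntegralHom i.left := hi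
    haveI := hZ
    exact ⟨W, i, fst, sq, isAffine_of_isAffineHom i.left, hi⟩

theorem isFiniteMor_iff {X Y : Sp S} {f : X ⟶ Y} :
    AlgSp.IsFiniteMor f ↔ RepWith @IsFinite f := by
  haveI := isLocalAtTarget_isFinite.{u}
  refine ⟨fun hf ↦ RepDescent.repWith_of_affine _ effective_isFinite fun Z hZ g ↦ ?_,
    fun hf Z hZ g ↦ ?_⟩
  · obtain ⟨W, i, fst, sq, -, hi⟩ := hf hZ g
    exact ⟨W, i, fst, sq, hi⟩
  · obtain ⟨W, i, fst, sq, hi⟩ := repWith_exists hf g
    haveI : IsFinite i.left := hi
    haveI := hZ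
    exact ⟨W, i, fst, sq, isAffine_of_isAffineHom i.left, hi⟩

/-- Affineness needs to be checked on the affine opens of one etale cover only. -/
theorem repWith_isAffineHom_of_cover_opens {X Y : Sp S} (hY : Representable (Limits.diag Y))
    {f : X ⟶ Y} {U : Over S} {p : (yon S).obj U ⟶ Y} (hp : RepWith @Etale p)
    (hps : RepWith @Surjective p)
    (h : ∀ O : U.left.affineOpens, ∃ (V : Over S) (v : V ⟶ Topo.opensOver O.1)
      (c : (yon S).obj V ⟶ X),
        IsPullback c ((yon S).map v) f ((yon S).map (Topo.opensOverι O.1) ≫ p) ∧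
          IsAffineHom v.left) : RepWith @IsAffineHom f := by
  haveI := isLocalAtTarget_isAffineHom.{u}
  choose V v c sqi hv using h
  have sqP := IsPullback.of_hasPullback f p
  have sqi' : ∀ O : U.left.affineOpens, IsPullback
      (sqP.lift (c O) ((yon S).map (v O) ≫ (yon S).map (Topo.opensOverι O.1))
        (by rw [Category.assoc]; exact (sqi O).w)) ((yon S).map (v O)) (pullback.snd f p)
      ((yon S).map (Topo.opensOverι O.1)) := fun O ↦
    IsPullback.of_right (h₁₁ := sqP.lift (c O) ((yon S).map (v O) ≫ (yon S).map (Topo.opensOverι O.1))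
      (by rw [Category.assoc]; exact (sqi O).w)) (by rw [sqP.lift_fst]; exact sqi O)
      (sqP.lift_snd _ _ _) sqP
  obtain ⟨b, G, t, ht, hpb, sqb⟩ := RepDescent.exists_isPullback_sigma sqi'
  let W := fun O : U.left.affineOpens ↦ Topo.opensOver O.1
  haveI : Etale t.left := by
    refine (IsZariskiLocalAtSource.iff_of_openCover (P := @Etale)
      (sigmaOpenCover fun O ↦ (W O).left)).2 fun O ↦ ?_
    show Etale ((sigmaOverι W O).left ≫ t.left)
    rw [← Over.comp_left, ht]
    exact inferInstanceAs (Etale O.1.ι)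
  haveI : Surjective t.left := ⟨fun x ↦ by
    obtain ⟨O, hO, hx, -⟩ := exists_isAffineOpen_mem_and_subset (U := ⊤) (Set.mem_univ x)
    refine ⟨(sigmaOverι W ⟨O, hO⟩).left ⟨x, hx⟩, ?_⟩
    rw [← Scheme.Hom.comp_apply, ← Over.comp_left, ht]
    rfl⟩
  have hG : IsAffineHom G.left := IsZariskiLocalAtTarget.of_openCover (P := @IsAffineHom)
    (sigmaOpenCover fun O ↦ (W O).left) fun O ↦ by
      show IsAffineHom (pullback.snd G.left (sigmaOverι W O).left)
      rw [← (IsPullback.of_hasPullback _ _).isoIsPullback_hom_snd _ _ (hpb O)]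
      exact (MorphismProperty.cancel_left_of_respectsIso @IsAffineHom _ _).2 (hv O)
  have hsnd : RepWith @IsAffineHom (pullback.snd f p) :=
    RepDescent.repWith_of_cover _ RepDescent.effective_isAffineHom (IsAlgSpace.yon_obj U).diag
      ((AlgSp.repWith_yon_map_iff _ t).2 ‹Etale t.left›)
      ((AlgSp.repWith_yon_map_iff _ t).2 ‹Surjective t.left›) sqb
      ((AlgSp.repWith_yon_map_iff _ G).2 hG)
  exact RepDescent.repWith_of_cover _ RepDescent.effective_isAffineHom hY hp hps sqP hsnd

end Groth.Agent.Lib.AlgSpMor.AffineDescent
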