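import Groth.Agent.Lib.AlgSpMor.RepBySp
import Groth.Agent.Lib.AlgSpace.DiagProp
import Groth.Agent.Lib.AlgSpace.Props
import Mathlib.AlgebraicGeometry.Morphisms.QuasiSeparated
import Mathlib.AlgebraicGeometry.Morphisms.Separated
import Mathlib.AlgebraicGeometry.Morphisms.ClosedImmersion

/-!
# Properties of the diagonal tested on fibre products of affine schemes
-/

set_option autoImplicit false
set_option linter.style.haveILetI false

universe u

open CategoryTheory CategoryTheory.Limits AlgebraicGeometry Opposite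
open Groth.Agent.Lib.AlgSpace
open scoped TensorProduct

namespace Groth.Agent.Lib.AlgSpMor.DiagCharts

open AlgSp (Sp yon Representable RepWith IsAlgSpace)

variable {S : Scheme.{u}}

attribute [local simp] prod.lift_fst prod.lift_snd prod.lift_fst_assoc prod.lift_snd_assoc
  prod.map_fst prod.map_snd prod.map_fst_assoc prod.map_snd_assoc

theorem isPullback_prod_left (U V : Over S) :
    IsPullback (prod.fst : U ⨯ V ⟶ U).left (prod.snd : U ⨯ V ⟶ V).left U.hom V.hom :=
  IsPullback.of_iso_pullback ⟨by simp⟩ (Over.prodLeftIsoPullback U V)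
    (Over.prodLeftIsoPullback_hom_fst (Y := U) (Z := V)) (Over.prodLeftIsoPullback_hom_snd (Y := U) (Z := V))

/-- Pullbacks of a representable map to affine schemes detect Zariski local properties. -/
theorem repWith_of_affine {P : MorphismProperty Scheme.{u}} [P.IsStableUnderBaseChange]
    [IsZariskiLocalAtTarget P] {F G : Sp S} {f : F ⟶ G} (hr : Representable f)
    (h : ∀ (T : Over S), IsAffine T.left → ∀ (ξ : (yon S).obj T ⟶ G), P (hr.snd ξ).left) :
    RepWith P f := by
  refine repWith_of_exists fun U ξ ↦ ⟨_, hr.snd ξ, hr.fst ξ, hr.isPullback ξ, ?_⟩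
  refine IsZariskiLocalAtTarget.of_forall_exists_morphismRestrict fun u ↦ ?_
  obtain ⟨O, hO, hu, -⟩ := exists_isAffineOpen_mem_and_subset (U := ⊤) (Set.mem_univ u)
  refine ⟨O, hu, ?_⟩
  let j : Topo.opensOver O ⟶ U := Topo.opensOverι O
  have hv := h (Topo.opensOver O) hO ((yon S).map j ≫ ξ)
  obtain ⟨k, hk, hk'⟩ : ∃ k : (yon S).obj (hr.pullback ((yon S).map j ≫ ξ)) ⟶
      (yon S).obj (hr.pullback ξ), k ≫ hr.fst ξ = hr.fst ((yon S).map j ≫ ξ) ∧
      k ≫ (yon S).map (hr.snd ξ) = (yon S).map (hr.snd ((yon S).map j ≫ ξ)) ≫ (yon S).map j :=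
    ⟨(hr.isPullback ξ).lift (hr.fst _) ((yon S).map (hr.snd _) ≫ (yon S).map j)
      (by rw [hr.w, Category.assoc]), (hr.isPullback ξ).lift_fst _ _ _,
      (hr.isPullback ξ).lift_snd _ _ _⟩
  have sq2 := (hr.isPullback ((yon S).map j ≫ ξ)).flip
  rw [← hk] at sq2
  have sq3 := IsPullback.of_right sq2.flip hk' (hr.isPullback ξ)
  obtain ⟨k, rfl⟩ := (yon S).map_surjective k
  have sq4 : IsPullback (hr.snd ((yon S).map j ≫ ξ)).left k.left j.left (hr.snd ξ).left :=
    ((isPullback_of_yon_map sq3).map (Over.forget S)).flip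
  have := (isPullback_morphismRestrict (hr.snd ξ).left O).isoIsPullback_hom_fst _ _ sq4
  rw [← this]
  exact (MorphismProperty.cancel_left_of_respectsIso P _ _).2 hv

/-- A property of the diagonal tested on `T ×_X T ⟶ T ×_S T` for affine `T`. -/
theorem repWith_diag_of_affine {P : MorphismProperty Scheme.{u}} [P.IsStableUnderBaseChange]
    [IsZariskiLocalAtTarget P] {X : Sp S} (hX : Representable (Limits.diag X))
    (h : ∀ (T W : Over S) (a b : (yon S).obj T ⟶ X) (p q : W ⟶ T), IsAffine T.left →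
      IsPullback ((yon S).map p) ((yon S).map q) a b → P (prod.lift p q).left) :
    RepWith P (Limits.diag X) := by
  refine repWith_of_affine hX fun T hT ξ => ?_
  obtain ⟨W, p, q, sq⟩ := exists_isPullback_yon hX (ξ ≫ prod.fst) (ξ ≫ prod.snd)
  have hP : RepWith P ((yon S).map (prod.lift p q)) :=
    (AlgSp.repWith_yon_map_iff P _).2 (h T W _ _ p q hT sq)
  have sqd := isPullback_diag_yonProd sq
  have e : ξ = (yon S).map (prod.lift (𝟙 T) (𝟙 T)) ≫
      yonProdMap (ξ ≫ prod.fst) (ξ ≫ prod.snd) := by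
    apply prod.hom_ext
    · simp only [Category.assoc, yonProdMap, prod.map_fst]
      rw [yonProdIso_hom_fst_assoc, ← Category.assoc, ← Functor.map_comp, prod.lift_fst,
        CategoryTheory.Functor.map_id, Category.id_comp]
    · simp only [Category.assoc, yonProdMap, prod.map_snd]
      rw [yonProdIso_hom_snd_assoc, ← Category.assoc, ← Functor.map_comp, prod.lift_snd,
        CategoryTheory.Functor.map_id, Category.id_comp]
  obtain ⟨W', t, k, sqW, hv⟩ := repWith_exists hP ((yon S).map (prod.lift (𝟙 T) (𝟙 T)))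
  have sq' := sqW.paste_horiz sqd
  rw [← e] at sq'
  obtain ⟨i, hi⟩ : ∃ i : (yon S).obj (hX.pullback ξ) ≅ (yon S).obj W',
      i.hom ≫ (yon S).map t = (yon S).map (hX.snd ξ) :=
    ⟨(hX.isPullback ξ).isoIsPullback _ _ sq', IsPullback.isoIsPullback_hom_snd ..⟩
  obtain ⟨i₁, hi₁⟩ := (yon S).map_surjective i.hom
  have : IsIso ((yon S).map i₁) := hi₁ ▸ inferInstance
  have : IsIso i₁ := isIso_of_fully_faithful (yon S) i₁
  have ht : hX.snd ξ = i₁ ≫ t := (yon S).map_injective (by rw [Functor.map_comp, hi₁, hi])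
  have : IsIso i₁.left := inferInstanceAs (IsIso ((Over.forget S).map i₁))
  rw [ht, Over.comp_left]
  exact (MorphismProperty.cancel_left_of_respectsIso P _ _).2 hv

theorem isQuasiSeparatedSp_of_chart {X : Sp S} (hX : IsAlgSpace X) {R U : Over S}
    {p : (yon S).obj U ⟶ X} (hp : RepWith @Etale p) (hs : RepWith @Surjective p)
    [QuasiSeparatedSpace ↥U.left] {s t : R ⟶ U} (sq : IsPullback ((yon S).map t) ((yon S).map s) p p)
    [QuasiCompact t.left] : AlgSp.IsQuasiSeparatedSp X := by
  have := isLocalAtTarget_fppf_quasiCompact.{u}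
  refine repWith_diag_of_atlas hX.diag hp hs sq @QuasiCompact ?_
  have : QuasiSeparated U.hom := inferInstance
  have : QuasiSeparated (prod.fst : U ⨯ U ⟶ U).left :=
    MorphismProperty.of_isPullback (P := @QuasiSeparated) (isPullback_prod_left U U).flip ‹_›
  have : QuasiCompact ((prod.lift t s).left ≫ (prod.fst : U ⨯ U ⟶ U).left) := by
    rw [← Over.comp_left, prod.lift_fst]
    infer_instance
  exact QuasiCompact.of_comp _ (prod.fst : U ⨯ U ⟶ U).left

theorem quasiSeparatedSpace_prod (T : Over S) [IsAffine T.left] :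
    QuasiSeparatedSpace ↥(T ⨯ T).left :=
  haveI : QuasiSeparated (prod.fst : T ⨯ T ⟶ T).left :=
    MorphismProperty.of_isPullback (P := @QuasiSeparated) (isPullback_prod_left T T).flip
      inferInstance
  quasiSeparatedSpace_of_quasiSeparated (prod.fst : T ⨯ T ⟶ T).left

theorem isSeparated_prod (T : Over S) [IsAffine T.left] : (T ⨯ T).left.IsSeparated :=
  haveI : IsSeparated (prod.fst : T ⨯ T ⟶ T).left :=
    MorphismProperty.of_isPullback (P := @IsSeparated) (isPullback_prod_left T T).flip inferInstance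
  ⟨by
    rw [show terminal.from (T ⨯ T).left =
      (prod.fst : T ⨯ T ⟶ T).left ≫ terminal.from T.left from Subsingleton.elim _ _]
    infer_instance⟩

theorem isQuasiSeparatedSp_of_affine {X : Sp S} (hX : IsAlgSpace X)
    (h : ∀ (U V P : Over S) (a : (yon S).obj U ⟶ X) (b : (yon S).obj V ⟶ X) (fst : P ⟶ U)
      (snd : P ⟶ V), IsAffine U.left → IsAffine V.left →
      IsPullback ((yon S).map fst) ((yon S).map snd) a b → CompactSpace ↥P.left) :
    AlgSp.IsQuasiSeparatedSp X := by
  have : IsZariskiLocalAtTarget (@QuasiCompact : MorphismProperty Scheme.{u}) :=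
    @HasAffineProperty.instIsZariskiLocalAtTarget _ _
      instHasAffinePropertyQuasiCompactCompactSpaceCarrierCarrierCommRingCat
  refine repWith_diag_of_affine hX.diag fun T W a b p q hT sq => ?_
  have := h T T W a b p q hT hT sq
  have := quasiSeparatedSpace_prod T
  infer_instance

theorem compactSpace_of_isQuasiSeparatedSp [QuasiSeparatedSpace ↥S] {X : Sp S}
    (hX : AlgSp.IsQuasiSeparatedSp X) {U V P : Over S} {a : (yon S).obj U ⟶ X}
    {b : (yon S).obj V ⟶ X} {p : P ⟶ U} {q : P ⟶ V} [CompactSpace ↥U.left] [CompactSpace ↥V.left]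
    (sq : IsPullback ((yon S).map p) ((yon S).map q) a b) : CompactSpace ↥P.left := by
  have h1 : QuasiCompact (prod.lift p q).left := repWith_property hX (isPullback_diag_yonProd sq)
  have : QuasiCompact (prod.snd : U ⨯ V ⟶ V).left :=
    MorphismProperty.of_isPullback (P := @QuasiCompact) (isPullback_prod_left U V) inferInstance
  have : CompactSpace ↥(U ⨯ V).left :=
    QuasiCompact.compactSpace_of_compactSpace (prod.snd : U ⨯ V ⟶ V).left
  exact QuasiCompact.compactSpace_of_compactSpace (prod.lift p q).left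

/-- The morphism to the spectrum of the tensor product over `ℤ` of the global sections. -/
noncomputable def toTensor {A B Q : Scheme.{u}} (f : Q ⟶ A) (g : Q ⟶ B) :
    Q ⟶ Spec (CommRingCat.of (TensorProduct ℤ Γ(A, ⊤) Γ(B, ⊤))) :=
  Q.toSpecΓ ≫ Spec.map (CommRingCat.ofHom
    (Algebra.TensorProduct.productMap f.appTop.hom.toIntAlgHom g.appTop.hom.toIntAlgHom).toRingHom)

theorem productMap_comp {A B Q Q' : Scheme.{u}} (k : Q' ⟶ Q) (f : Q ⟶ A) (g : Q ⟶ B) :
    CommRingCat.ofHom (Algebra.TensorProduct.productMap (k ≫ f).appTop.hom.toIntAlgHom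
        (k ≫ g).appTop.hom.toIntAlgHom).toRingHom =
      CommRingCat.ofHom (Algebra.TensorProduct.productMap f.appTop.hom.toIntAlgHom
        g.appTop.hom.toIntAlgHom).toRingHom ≫ k.appTop := by
  refine CommRingCat.hom_ext (RingHom.ext fun x => ?_)
  induction x using TensorProduct.induction_on with
  | zero => simp
  | tmul a b =>
      simp only [Scheme.Hom.comp_appTop]
      simp
  | add a b ha hb =>
      simp only [map_add] at *
      rw [ha, hb]

theorem toTensor_comp {A B Q Q' : Scheme.{u}} (k : Q' ⟶ Q) (f : Q ⟶ A) (g : Q ⟶ B) :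
    toTensor (k ≫ f) (k ≫ g) = k ≫ toTensor f g := by
  rw [toTensor, toTensor, productMap_comp, Spec.map_comp, ← Scheme.toSpecΓ_naturality_assoc]

theorem isClosedImmersion_toTensor_iff {A B Q : Scheme.{u}} [IsAffine Q] (f : Q ⟶ A) (g : Q ⟶ B) :
    IsClosedImmersion (toTensor f g) ↔ Function.Surjective
      (Algebra.TensorProduct.productMap f.appTop.hom.toIntAlgHom g.appTop.hom.toIntAlgHom) := by
  rw [toTensor, MorphismProperty.cancel_left_of_respectsIso @IsClosedImmersion]
  refine ⟨fun h => ?_, fun h => IsClosedImmersion.spec_of_surjective _ h⟩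
  let φ := CommRingCat.ofHom (Algebra.TensorProduct.productMap f.appTop.hom.toIntAlgHom
    g.appTop.hom.toIntAlgHom).toRingHom
  have hs := (IsClosedImmersion.isAffine_surjective_of_isAffine (Spec.map φ)).2
  have e : φ = (Scheme.ΓSpecIso _).inv ≫ (Spec.map φ).appTop ≫ (Scheme.ΓSpecIso _).hom := by
    rw [Scheme.ΓSpecIso_naturality, Iso.inv_hom_id_assoc]
  change Function.Surjective φ
  rw [e]
  simp only [CommRingCat.hom_comp, RingHom.coe_comp]
  exact ((ConcreteCategory.bijective_of_isIso _).2.comp hs).comp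
    (ConcreteCategory.bijective_of_isIso _).2

theorem productMap_surjective_of_isPullback {A B Z K : Scheme.{u}} [IsAffine A] [IsAffine B]
    [IsAffine Z] {p : K ⟶ A} {q : K ⟶ B} {a : A ⟶ Z} {b : B ⟶ Z} (sq : IsPullback p q a b) :
    Function.Surjective
      (Algebra.TensorProduct.productMap p.appTop.hom.toIntAlgHom q.appTop.hom.toIntAlgHom) := by
  have h := isPushout_appTop_of_isPullback sq
  let φ := (Algebra.TensorProduct.productMap p.appTop.hom.toIntAlgHom
    q.appTop.hom.toIntAlgHom).toRingHom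
  let i : CommRingCat.of φ.range ⟶ Γ(K, ⊤) := CommRingCat.ofHom φ.range.subtype
  let p' : Γ(A, ⊤) ⟶ CommRingCat.of φ.range :=
    CommRingCat.ofHom (p.appTop.hom.codRestrict φ.range fun x => ⟨x ⊗ₜ 1, by simp [φ]⟩)
  let q' : Γ(B, ⊤) ⟶ CommRingCat.of φ.range :=
    CommRingCat.ofHom (q.appTop.hom.codRestrict φ.range fun x => ⟨1 ⊗ₜ x, by simp [φ]⟩)
  have w : a.appTop ≫ p' = b.appTop ≫ q' := by
    ext x
    exact ConcreteCategory.congr_hom h.w x
  have e : h.desc p' q' w ≫ i = 𝟙 _ := by
    apply h.hom_ext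
    · rw [h.inl_desc_assoc, Category.comp_id]
      rfl
    · rw [h.inr_desc_assoc, Category.comp_id]
      rfl
  intro y
  obtain ⟨t, ht⟩ := (h.desc p' q' w y).2
  exact ⟨t, ht.trans (ConcreteCategory.congr_hom e y)⟩

theorem isSeparatedSp_of_affine {X : Sp S} (hX : IsAlgSpace X)
    (h : ∀ (U V P : Over S) (a : (yon S).obj U ⟶ X) (b : (yon S).obj V ⟶ X) (fst : P ⟶ U)
      (snd : P ⟶ V), IsAffine U.left → IsAffine V.left →
      IsPullback ((yon S).map fst) ((yon S).map snd) a b → IsAffine P.left ∧ Function.Surjective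
          (Algebra.TensorProduct.productMap fst.left.appTop.hom.toIntAlgHom snd.left.appTop.hom.toIntAlgHom)) :
    AlgSp.IsSeparatedSp X := by
  refine repWith_diag_of_affine hX.diag fun T W a b p q hT sq => ?_
  obtain ⟨hW, hsurj⟩ := h T T W a b p q hT hT sq
  have := isSeparated_prod T
  let Δ := (prod.lift p q).left
  let π := toTensor (prod.fst : T ⨯ T ⟶ T).left (prod.snd : T ⨯ T ⟶ T).left
  have : IsClosedImmersion (Δ ≫ π) := by
    rw [← toTensor_comp]
    change IsClosedImmersion (toTensor ((prod.lift p q).left ≫ _) ((prod.lift p q).left ≫ _))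
    rw [← Over.comp_left, ← Over.comp_left, prod.lift_fst, prod.lift_snd]
    exact (isClosedImmersion_toTensor_iff _ _).2 hsurj
  exact IsClosedImmersion.of_comp Δ π

theorem affine_of_isSeparatedSp [S.IsSeparated] {X : Sp S} (hX : AlgSp.IsSeparatedSp X)
    {U V P : Over S} {a : (yon S).obj U ⟶ X} {b : (yon S).obj V ⟶ X} {p : P ⟶ U} {q : P ⟶ V}
    [IsAffine U.left] [IsAffine V.left]
    (sq : IsPullback ((yon S).map p) ((yon S).map q) a b) :
    IsAffine P.left ∧ Function.Surjective
      (Algebra.TensorProduct.productMap p.left.appTop.hom.toIntAlgHom q.left.appTop.hom.toIntAlgHom) := by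
  let tS := terminal.from S
  let m : (U ⨯ V).left ⟶ pullback (U.hom ≫ tS) (V.hom ≫ tS) :=
    (Over.prodLeftIsoPullback U V).hom ≫ pullback.mapDesc U.hom V.hom tS
  have hm1 : m ≫ pullback.fst _ _ = (prod.fst : U ⨯ V ⟶ U).left := by simp [m, pullback.mapDesc, pullback.map, pullback.lift_fst, pullback.lift_snd]
  have hm2 : m ≫ pullback.snd _ _ = (prod.snd : U ⨯ V ⟶ V).left := by simp [m, pullback.mapDesc, pullback.map, pullback.lift_fst, pullback.lift_snd]
  have : IsClosedImmersion (prod.lift p q).left := repWith_property hX (isPullback_diag_yonProd sq)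
  let k := (prod.lift p q).left ≫ m
  have : IsClosedImmersion k := inferInstanceAs (IsClosedImmersion (_ ≫ _))
  obtain ⟨hP, hk⟩ := IsClosedImmersion.isAffine_surjective_of_isAffine k
  refine ⟨hP, ?_⟩
  have h1 := productMap_surjective_of_isPullback
    (IsPullback.of_hasPullback (U.hom ≫ tS) (V.hom ≫ tS))
  have e1 : k ≫ pullback.fst _ _ = p.left := by
    rw [Category.assoc, hm1, ← Over.comp_left, prod.lift_fst]
  have e2 : k ≫ pullback.snd _ _ = q.left := by
    rw [Category.assoc, hm2, ← Over.comp_left, prod.lift_snd]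
  rw [← e1, ← e2]
  intro y
  obtain ⟨z, rfl⟩ := hk y
  obtain ⟨t, rfl⟩ := h1 z
  exact ⟨t, ConcreteCategory.congr_hom (productMap_comp k _ _) t⟩

end Groth.Agent.Lib.AlgSpMor.DiagCharts
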