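import Groth.Agent.Lib.AlgSpMor.AffineDescent
import Groth.Agent.H54.IndQAff
import Groth.Agent.S1127

/-!
# Quasi-affine morphisms of algebraic spaces are representable
-/

universe u

open CategoryTheory CategoryTheory.Limits AlgebraicGeometry
open Groth.Agent.Lib.AlgSpace Groth.Agent.Lib.FFDesc

namespace Groth.Agent.Lib.AlgSpMor.QuasiAffineDescent

open AlgSp (Sp yon Representable RepWith IsAlgSpace)
open AlgSp

/-- Quasi-affine morphisms of schemes. -/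
abbrev qaHom : MorphismProperty Scheme.{u} := fun _ _ f ↦ Mor2.IsQuasiAffine f

theorem qaHom_iff {X Y : Scheme.{u}} (f : X ⟶ Y) :
    qaHom f ↔ QuasiCompact f ∧ MoreMor.IsIndQuasiAffineHom f := by
  refine ⟨fun h ↦ ⟨h.1, H54.IndQAff.of_isQuasiAffineHom h⟩, fun ⟨hq, hi⟩ ↦ ⟨hq, fun V hV ↦ ?_⟩⟩
  exact H54.IndQAff.isIndQuasiAffineHom_le hi hV le_rfl (f.isCompact_preimage hV.isCompact)

instance : (qaHom.{u}).IsStableUnderBaseChange := by
  refine ⟨fun {X Y Y' S f g f' g'} sq h ↦ ?_⟩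
  rw [qaHom_iff] at h ⊢
  exact ⟨MorphismProperty.of_isPullback sq h.1, H54.IndQAff.baseChange sq h.2⟩

instance : IsZariskiLocalAtTarget (qaHom.{u}) := by
  refine IsZariskiLocalAtTarget.mk' (fun f U h ↦
    MorphismProperty.of_isPullback (isPullback_morphismRestrict f U).flip h) fun f ι U hU h ↦ ?_
  simp only [qaHom_iff] at h
  have : IsZariskiLocalAtTarget (@QuasiCompact : MorphismProperty Scheme.{u}) :=
    @HasAffineProperty.instIsZariskiLocalAtTarget _ _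
      instHasAffinePropertyQuasiCompactCompactSpaceCarrierCarrierCommRingCat
  rw [qaHom_iff]
  refine ⟨IsZariskiLocalAtTarget.of_iSup_eq_top (P := @QuasiCompact.{u}) U hU fun i ↦ (h i).1,
    H54.IndQAff.isIndQuasiAffineHom_of_cover fun y ↦ ?_⟩
  obtain ⟨i, hyi⟩ := TopologicalSpace.Opens.mem_iSup.1
    (hU.symm ▸ TopologicalSpace.Opens.mem_top y : y ∈ iSup U)
  obtain ⟨_, ⟨W, hW, rfl⟩, hyW, hWU⟩ :=
    (Scheme.isBasis_affineOpens _).exists_subset_of_mem_open hyi (U i).isOpen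
  refine ⟨W, hyW, fun O hO hOc ↦ ?_⟩
  have hW' : IsAffineOpen ((U i).ι ⁻¹ᵁ W) :=
    hW.preimage_of_isOpenImmersion (U i).ι (by rw [Scheme.Opens.opensRange_ι]; exact hWU)
  have hOr : (O : Set _) ⊆ Set.range (f ⁻¹ᵁ U i).ι := by
    rw [Scheme.Opens.range_ι]
    exact fun x hx ↦ hWU (hO hx)
  have hc : IsCompact ((f ⁻¹ᵁ U i).ι ⁻¹ᵁ O : Set (f ⁻¹ᵁ U i : Scheme.{u})) := by
    rw [(f ⁻¹ᵁ U i).ι.isOpenEmbedding.isInducing.isCompact_iff]
    change IsCompact ((f ⁻¹ᵁ U i).ι '' ((f ⁻¹ᵁ U i).ι ⁻¹' O))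
    rwa [Set.image_preimage_eq_of_subset hOr]
  have hq := H54.IndQAff.isIndQuasiAffineHom_le (h i).2 hW' (U := (f ⁻¹ᵁ U i).ι ⁻¹ᵁ O)
    (fun x hx ↦ by
      change (U i).ι ((f ∣_ U i) x) ∈ W
      rw [← Scheme.Hom.comp_apply, morphismRestrict_ι, Scheme.Hom.comp_apply]
      exact hO hx) hc
  have he : (f ⁻¹ᵁ U i).ι ''ᵁ ((f ⁻¹ᵁ U i).ι ⁻¹ᵁ O) = O := by
    ext1
    exact Set.image_preimage_eq_of_subset hOr
  have : CompactSpace (O : Scheme.{u}) := isCompact_iff_compactSpace.1 hOc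
  have := hq
  exact Scheme.IsQuasiAffine.of_isImmersion
    ((Scheme.isoOfEq _ he.symm).hom ≫ ((f ⁻¹ᵁ U i).ι.isoImage _).inv)

instance : MorphismProperty.DescendsAlong (qaHom.{u}) (@Surjective ⊓ @Flat ⊓ @QuasiCompact) :=
  S1127.result

theorem isLocalAtTarget_qaHom :
    MorphismProperty.IsLocalAtTarget (qaHom.{u}) Scheme.fppfPrecoverage :=
  isLocalAtTarget_fppf _

theorem effective_qaHom ⦃A B : Scheme.{u}⦄ (p : A ⟶ B) (hp : fppfCover p) (D : Desc.SchDD p)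
    (h : qaHom D.obj.hom) : ∃ (U : Over B) (q : D.obj.left ⟶ U.left), IsDescended D U q :=
  RepDescent.effective_of_quasiAffine hp D h

/-- A morphism from a quasi-affine scheme to an affine scheme is quasi-affine. -/
theorem qaHom_of_isQuasiAffine {X Y : Scheme.{u}} (f : X ⟶ Y) [IsAffine Y] (h : X.IsQuasiAffine) :
    qaHom f := by
  have hq : QuasiCompact f := (quasiCompact_iff_compactSpace f).2 inferInstance
  refine ⟨hq, fun V hV ↦ ?_⟩
  have : CompactSpace (f ⁻¹ᵁ V : Scheme.{u}) :=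
    isCompact_iff_compactSpace.1 (f.isCompact_preimage hV.isCompact)
  exact Scheme.IsQuasiAffine.of_isImmersion (f ⁻¹ᵁ V).ι

theorem isQuasiAffine_of_qaHom {X Y : Scheme.{u}} {f : X ⟶ Y} [IsAffine Y] (h : qaHom f) :
    X.IsQuasiAffine := by
  have hq := h.1
  have : CompactSpace X := (quasiCompact_iff_compactSpace f).1 hq
  have : Scheme.IsQuasiAffine (⊤ : X.Opens).toScheme := h.2 ⊤ (isAffineOpen_top Y)
  exact Scheme.IsQuasiAffine.of_isImmersion X.topIso.inv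

variable {S : Scheme.{u}}

theorem isQuasiAffineMor_iff {X Y : Sp S} {f : X ⟶ Y} :
    AlgSp.IsQuasiAffineMor f ↔ RepWith qaHom f := by
  have := isLocalAtTarget_qaHom.{u}
  refine ⟨fun hf ↦ RepDescent.repWith_of_affine _ effective_qaHom fun Z hZ g ↦ ?_,
    fun hf Z hZ g ↦ ?_⟩
  · obtain ⟨W, i, fst, sq, hW⟩ := hf hZ g
    have := hZ
    exact ⟨W, i, fst, sq, qaHom_of_isQuasiAffine i.left hW⟩
  · obtain ⟨W, i, fst, sq, hi⟩ := repWith_exists hf g
    have := hZ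
    exact ⟨W, i, fst, sq, isQuasiAffine_of_qaHom hi⟩

theorem isQuasiAffineMor_of_cover {X Y : Sp S} (hY : Representable (Limits.diag Y)) {f : X ⟶ Y}
    {V : Over S} {p : (yon S).obj V ⟶ Y} (hp : RepWith @Etale p) (hps : RepWith @Surjective p)
    {P : Sp S} {fst : P ⟶ X} {snd : P ⟶ (yon S).obj V} (sq : IsPullback fst snd f p)
    (h : AlgSp.IsQuasiAffineMor snd) : RepWith qaHom f := by
  have := isLocalAtTarget_qaHom.{u}
  exact RepDescent.repWith_of_cover _ effective_qaHom hY hp hps sq (isQuasiAffineMor_iff.1 h)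

end Groth.Agent.Lib.AlgSpMor.QuasiAffineDescent
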