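import Groth.Agent.Lib.AlgSpMor.LqfRep
import Groth.Agent.Lib.AlgSpMor.QC
import Groth.Agent.Lib.AlgSpace.DescendRep
import Groth.Agent.Lib.AlgSpFormal.Charts
import Groth.Agent.Lib.AlgStack.RepPsh
import Groth.Agent.Lib.TorsorSch.NormalBase
import Mathlib.AlgebraicGeometry.Morphisms.LocalFlatDescent

/-!
# Maps representable by algebraic spaces

Representability by schemes of separated locally quasi-finite maps after a cover, diagonals of
sheaves with fppf covers by spaces, and etale covers by spaces.
-/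

set_option autoImplicit false
set_option linter.style.haveILetI false
universe u

open CategoryTheory CategoryTheory.Limits AlgebraicGeometry
open Groth.Agent.Lib.AlgSpace

namespace Groth.Agent.Lib.AlgSpMor.RepBySp

open AlgSp (Sp yon Representable RepWith IsAlgSpace IsSeparatedMor LocP IsSurjectiveMor)
open AlgSp

variable {S : Scheme.{u}}

attribute [local simp] prod.lift_fst prod.lift_snd pullback.lift_fst pullback.lift_snd

theorem descendsAlong_fppf (P : MorphismProperty Scheme.{u})
    (h1 : P.DescendsAlong (@Surjective ⊓ @Flat ⊓ @QuasiCompact)) (h2 : IsZariskiLocalAtTarget P) :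
    P.DescendsAlong (@Surjective ⊓ @Flat ⊓ @LocallyOfFinitePresentation) :=
  @AlgebraicGeometry.instDescendsAlongSchemeMinMorphismPropertySurjectiveFlatLocallyOfFinitePresentationOfQuasiCompactOfIsZariskiLocalAtTarget
    P h1 h2

theorem containsIdentities_etale :
    MorphismProperty.ContainsIdentities (@Etale : MorphismProperty Scheme.{u}) :=
  ⟨fun X ↦ inferInstanceAs (Etale (𝟙 X))⟩

/-- Local quasi-finiteness descends along surjections. -/
theorem locallyQuasiFinite_of_isPullback {V W T' T : Scheme.{u}} {k : V ⟶ W} {g : V ⟶ T'}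
    {w : W ⟶ T} {t : T' ⟶ T} (sq : IsPullback k g w t) [Surjective t] [LocallyOfFiniteType w]
    [LocallyQuasiFinite g] : LocallyQuasiFinite w := by
  rw [locallyQuasiFinite_iff_isDiscrete_preimage_singleton]
  intro y
  obtain ⟨y', rfl⟩ := t.surjective y
  let m : g.fiber y' ⟶ w.fiber (t y') :=
    pullback.map _ _ _ _ k (Spec.map (t.residueFieldMap y')) t sq.w.symm (by simp)
  have sqF := isPullback_fiberToSpecResidueField_of_isPullback sq y'
  haveI : UniversallyOpen m := MorphismProperty.of_isPullback (P := @UniversallyOpen) sqF.flip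
    (inferInstance : UniversallyOpen (Spec.map (t.residueFieldMap y')))
  haveI : Surjective m := MorphismProperty.of_isPullback (P := @Surjective) sqF.flip
    (inferInstance : Surjective (Spec.map (t.residueFieldMap y')))
  haveI : IsLocallyArtinian (g.fiber y') := inferInstance
  haveI : DiscreteTopology (w.fiber (t y')) := by
    refine discreteTopology_iff_isOpen_singleton.2 fun x ↦ ?_
    obtain ⟨x', rfl⟩ := m.surjective x
    rw [← Set.image_singleton]
    exact m.isOpenMap _ (isOpen_discrete _)
  simpa [Scheme.Hom.range_fiberι] using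
    (isDiscrete_univ_iff.mpr inferInstance).image (w.fiberι (t y')).isEmbedding.toIsInducing

/-- Representability by separated, locally quasi-finite maps descends along locally surjective maps. -/
theorem repWith_sepLqf_of_isLocallySurjective {F G H Q : Sp S} {a : F ⟶ G} (b : H ⟶ G)
    [Sheaf.IsLocallySurjective b] {b' : Q ⟶ F} {a' : Q ⟶ H} (sq : IsPullback b' a' a b)
    (h : RepWith sepLqf a') : RepWith sepLqf a := by
  have hrep := representable_of_isLocallySurjective b sq effective_sepLqf h
  refine ⟨hrep, fun T W ξ fst w sqW ↦ ?_⟩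
  obtain ⟨T', p, η, hp, e⟩ := exists_lift_of_isLocallySurjective b ξ
  have sq1 := (h.rep.isPullback η).paste_horiz sq
  rw [e] at sq1
  obtain ⟨k, hk⟩ := (yon S).map_surjective (sqW.lift (h.rep.fst η ≫ b')
    ((yon S).map (h.rep.snd η) ≫ (yon S).map p) (by simpa only [Category.assoc] using sq1.w))
  have sq2 : IsPullback ((yon S).map k) ((yon S).map (h.rep.snd η)) ((yon S).map w)
      ((yon S).map p) :=
    IsPullback.of_right (by rw [hk, sqW.lift_fst]; exact sq1)
      (by rw [hk, sqW.lift_snd]) sqW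
  have sqS := (isPullback_of_yon_map sq2).map (Over.forget S)
  obtain ⟨⟨hsep, hlqf⟩, hlft⟩ := h.property_snd η
  haveI := hp.1.1
  haveI := hp.1.2
  haveI := hp.2
  haveI := descendsAlong_fppf @LocallyOfFiniteType.{u} inferInstance
    (HasRingHomProperty.instIsZariskiLocalAtTarget _ (Q := RingHom.FiniteType))
  haveI := descendsAlong_fppf @IsSeparated.{u} inferInstance inferInstance
  haveI : LocallyOfFiniteType w.left := MorphismProperty.of_isPullback_of_descendsAlong
    (P := @LocallyOfFiniteType.{u}) (Q := @Surjective ⊓ @Flat ⊓ @LocallyOfFinitePresentation)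
    sqS.flip ⟨hp.1, hp.2⟩ hlft
  haveI : IsSeparated w.left := MorphismProperty.of_isPullback_of_descendsAlong
    (P := @IsSeparated.{u}) (Q := @Surjective ⊓ @Flat ⊓ @LocallyOfFinitePresentation)
    sqS.flip ⟨hp.1, hp.2⟩ hsep
  haveI := hlqf
  haveI : Surjective ((Over.forget S).map p) := hp.1.1
  haveI : LocallyOfFiniteType ((Over.forget S).map w) := ‹LocallyOfFiniteType w.left›
  exact ⟨⟨‹_›, locallyQuasiFinite_of_isPullback sqS⟩, ‹_›⟩

theorem repBySp_baseChange {F G F' G' : Sp S} {f : F ⟶ G} {g : G' ⟶ G} {fst : F' ⟶ F}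
    {snd : F' ⟶ G'} (sq : IsPullback fst snd f g) (hf : RepBySp f.hom) : RepBySp snd.hom :=
  (repBySp_hom_iff snd).2 fun _ ξ _ _ _ sq' ↦
    (repBySp_hom_iff f).1 hf (ξ ≫ g) _ _ (sq'.paste_horiz sq)

/-- An atlas of a base change to a scheme. -/
theorem exists_chart_of_repBySpWith {Q : MorphismProperty (Sp S)} {F G : Sp S} {f : F ⟶ G}
    (hf : RepBySpWith Q f.hom) {T : Over S} (ξ : (yon S).obj T ⟶ G) :
    IsAlgSpace (pullback f ξ) ∧ Q (pullback.snd f ξ) :=
  (repBySpWith_hom_iff Q f).1 hf ξ _ _ (IsPullback.of_hasPullback f ξ)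

/-- An fppf map representable by algebraic spaces is locally surjective. -/
theorem isLocallySurjective_of_fppf {F G : Sp S} {a : F ⟶ G}
    (ha : RepBySpWith (IsSurjectiveMor ⊓ LocP @Flat ⊓ LocP @LocallyOfFinitePresentation) a.hom) :
    Sheaf.IsLocallySurjective a := by
  haveI := containsIdentities_etale.{u}
  refine isLocallySurjective_of_lift a fun T b ↦ ?_
  obtain ⟨hP, ⟨hsu, hfl⟩, hfp⟩ := exists_chart_of_repBySpWith ha b
  obtain ⟨W, c, hc, hcs⟩ := hP.atlas
  obtain ⟨p, hp⟩ := (yon S).map_surjective (c ≫ pullback.snd a b)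
  haveI : Flat p.left := hfl c (𝟙 _) p hc (repWith_id _ _) (by rw [Category.comp_id, hp])
  haveI : LocallyOfFinitePresentation p.left :=
    hfp c (𝟙 _) p hc (repWith_id _ _) (by rw [Category.comp_id, hp])
  haveI : Surjective p.left := ⟨fun t ↦ by
    obtain ⟨x, hx⟩ := hsu (Points.ofScheme T t)
    obtain ⟨y, hy⟩ := surjective_map hcs x
    have h := congrArg (fun k ↦ Points.map k y) hp
    simp only [Points.map_comp, hy, hx] at h
    rw [Points.map_yon_map_eq] at h
    exact ⟨(Points.schemeHomeo W).symm y, (Points.schemeHomeo T).injective h⟩⟩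
  refine ⟨W, p, c ≫ pullback.fst a b, fppfCover_mk p.left, ?_⟩
  rw [Category.assoc, pullback.condition, ← Category.assoc, hp]

/-- An etale surjective map of algebraic spaces is flat, surjective and lfp. -/
theorem fppf_of_etale {F G : Sp S} {a : F ⟶ G}
    (ha : RepBySpWith (IsSurjectiveMor ⊓ IsEtaleMor) a.hom) :
    RepBySpWith (IsSurjectiveMor ⊓ LocP @Flat ⊓ LocP @LocallyOfFinitePresentation) a.hom := by
  refine (repBySpWith_hom_iff _ a).2 fun T ξ P fst snd sq ↦ ?_
  obtain ⟨hP, hs, he⟩ := (repBySpWith_hom_iff _ a).1 ha ξ fst snd sq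
  have h := (AlgSpFormal.Charts.isEtaleMor_iff_locP hP (IsAlgSpace.yon_obj T) snd).1 he
  refine ⟨hP, ⟨hs, fun U V c d m hc hd w ↦ ?_⟩, fun U V c d m hc hd w ↦ ?_⟩
  · have : Etale m.left := h c d m hc hd w
    exact (inferInstance : Flat m.left)
  · have : Etale m.left := h c d m hc hd w
    exact (inferInstance : LocallyOfFinitePresentation m.left)

/-- Monomorphisms of spaces locally of finite type are locally quasi-finite. -/
theorem locP_lqf_of_mono {X Y : Sp S} (hX : IsAlgSpace X) (hY : IsAlgSpace Y) {f : X ⟶ Y} [Mono f]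
    (h : LocP @LocallyOfFiniteType f) : LocP (@LocallyQuasiFinite ⊓ @LocallyOfFiniteType) f := by
  obtain ⟨V, b, hb, hbs⟩ := hY.atlas
  have sqP := IsPullback.of_hasPullback f b
  have hP : IsAlgSpace (pullback f b) :=
    isAlgSpace_of_isPullback sqP hY.diag hX (IsAlgSpace.yon_obj V)
  obtain ⟨U, c, hc, hcs⟩ := hP.atlas
  obtain ⟨m, hm⟩ := (yon S).map_surjective (c ≫ pullback.snd f b)
  haveI : MorphismProperty.IsStableUnderComposition (@Etale : MorphismProperty Scheme.{u}) :=
    ⟨fun f g (_ : Etale f) (_ : Etale g) ↦ inferInstanceAs (Etale (f ≫ g))⟩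
  haveI : MorphismProperty.IsStableUnderComposition (@Surjective : MorphismProperty Scheme.{u}) :=
    ⟨fun f g (_ : Surjective f) (_ : Surjective g) ↦ inferInstanceAs (Surjective (f ≫ g))⟩
  have ha : RepWith @Etale (c ≫ pullback.fst f b) := repWith_comp hc (repWith_baseChange sqP.flip hb)
  have has : RepWith @Surjective (c ≫ pullback.fst f b) :=
    repWith_comp hcs (repWith_baseChange sqP.flip hbs)
  have hw : (c ≫ pullback.fst f b) ≫ f = (yon S).map m ≫ b := by
    rw [Category.assoc, sqP.w, ← Category.assoc, hm]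
  haveI : LocallyOfFiniteType m.left := h _ b m ha hb hw
  haveI : Mono (pullback.snd f b) := inferInstance
  have sqW : IsPullback ((yon S).map (pullback.fst m m)) ((yon S).map (pullback.snd m m)) c c := by
    have h' := isPullback_yon (IsPullback.of_hasPullback m m)
    rw [hm] at h'
    refine isPullback_of_yon ?_ (fun T x y h1 h2 ↦ h'.hom_ext h1 h2)
      fun T x y e ↦ ⟨h'.lift x y (by rw [← Category.assoc, ← Category.assoc, e]),
        h'.lift_fst _ _ _, h'.lift_snd _ _ _⟩
    rw [← cancel_mono (pullback.snd f b), Category.assoc, Category.assoc, h'.w]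
  haveI he : Etale (pullback.snd m m).left := repWith_property hc sqW
  let δ := pullback.diagonal m
  have hδ : δ.left ≫ (pullback.snd m m).left = 𝟙 _ := by
    rw [← Over.comp_left, pullback.diagonal_snd, Over.id_left]
  haveI : Etale (δ.left ≫ (pullback.snd m m).left) := by rw [hδ]; infer_instance
  haveI : Etale δ.left := Etale.of_comp δ.left (pullback.snd m m).left
  haveI : Mono (δ.left ≫ (pullback.snd m m).left) := by rw [hδ]; infer_instance
  haveI : Mono δ.left := mono_of_mono _ (pullback.snd m m).left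
  haveI : IsOpenImmersion δ.left := IsOpenImmersion.of_flat_of_mono δ.left
  haveI : IsOpenImmersion (pullback.diagonal m.left) := by
    show IsOpenImmersion (pullback.diagonal ((Over.forget S).map m))
    rw [AlgSp.diagonal_forget_map]
    haveI h' : IsOpenImmersion ((Over.forget S).map (pullback.diagonal m)) := ‹IsOpenImmersion δ.left›
    exact (@IsOpenImmersion.comp _ _ _ _ _ h' (@IsOpenImmersion.of_isIso _ _ _ (Iso.isIso_hom _)))
  haveI : FormallyUnramified m.left := inferInstance
  exact LocP.locP_of_chart LocP.lqfLft hX.diag hY.diag ha has hb hw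
    ⟨locallyQuasiFinite_of_formallyUnramified m.left, ‹_›⟩

/-- Monomorphisms of spaces locally of finite type are representable and separated. -/
theorem repWith_sepLqf_of_mono {X Y : Sp S} (hX : IsAlgSpace X) (hY : IsAlgSpace Y) {f : X ⟶ Y}
    [Mono f] (h : LocP @LocallyOfFiniteType f) : RepWith sepLqf f := by
  haveI : MorphismProperty.ContainsIdentities (@IsClosedImmersion : MorphismProperty Scheme.{u}) :=
    ⟨fun X ↦ inferInstanceAs (IsClosedImmersion (𝟙 X))⟩
  have hq := locP_lqf_of_mono hX hY h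
  have hr := LqfRep.representable hX hY hq (repWith_of_isIso _ _)
  refine ⟨hr, fun T V ξ fst v sq ↦ ?_⟩
  have h2 : (@LocallyQuasiFinite ⊓ @LocallyOfFiniteType : MorphismProperty Scheme.{u}) v.left :=
    repWith_property (LocP.repWith_of_locP LocP.lqfLft hY hr hq) sq
  haveI : Mono ((yon S).map v) := sq.mono_snd_of_mono inferInstance
  haveI : Mono v := (yon S).mono_of_mono_map inferInstance
  haveI : Mono v.left := inferInstance
  exact ⟨⟨inferInstance, h2.1⟩, h2.2⟩

/-- The diagonal of a sheaf with an fppf cover by an algebraic space is representable. -/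
theorem representable_diag {X F : Sp S} (hX : IsAlgSpace X) {p : X ⟶ F}
    (hp : RepBySpWith (IsSurjectiveMor ⊓ LocP @Flat ⊓ LocP @LocallyOfFinitePresentation) p.hom) :
    Representable (Limits.diag F) := by
  haveI := isLocallySurjective_of_fppf hp
  haveI := containsIdentities_etale.{u}
  have sq := IsPullback.of_hasPullback p p
  have hQ : IsAlgSpace (pullback p p) :=
    AlgStack.RepPsh.isAlgSpace_of_repBySp (repBySp_baseChange sq hp.repBySp) hX
  let l := prod.lift (pullback.fst p p) (pullback.snd p p)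
  haveI : Mono l := ⟨fun a b e ↦ pullback.hom_ext
    (by simpa [l] using congr($e ≫ prod.fst)) (by simpa [l] using congr($e ≫ prod.snd))⟩
  have hlp : LocP @LocallyOfFiniteType (pullback.snd p p) := by
    intro U V a b h ha hb w
    obtain ⟨Z, r, sqZ⟩ : ∃ (Z : Sp S) (r : Z ⟶ (yon S).obj V),
        ∃ fst, IsPullback fst r (pullback.snd p p) b :=
      ⟨_, _, _, IsPullback.of_hasPullback _ b⟩
    obtain ⟨fst, sqZ⟩ := sqZ
    obtain ⟨hZ, ⟨-, -⟩, hfp⟩ :=
      (repBySpWith_hom_iff _ p).1 hp (b ≫ p) _ _ (sqZ.paste_horiz sq)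
    have ha' : RepWith @Etale (sqZ.lift a ((yon S).map h) w) :=
      Proper.repWith_etale_of_comp hZ.diag (repWith_baseChange sqZ.flip hb)
        (by rw [sqZ.lift_fst]; exact ha)
    have : LocallyOfFinitePresentation h.left := hfp _ (𝟙 _) h ha' (repWith_id _ _)
      (by rw [Category.comp_id, sqZ.lift_snd])
    exact (inferInstance : LocallyOfFiniteType h.left)
  have hl : LocP @LocallyOfFiniteType l := by
    refine LocP.locP_of_comp (P := @LocallyOfFiniteType) (R := ⊤)
      SourceDescent.Scheme.locallyOfFiniteType (fun {A B C} f g hfg _ ↦ ?_) hQ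
      (isAlgSpace_prod hX hX) hX (g := prod.snd) (by simpa [l] using hlp) (fun _ _ _ _ _ _ _ _ ↦ trivial)
    have : LocallyOfFiniteType (f ≫ g) := hfg
    exact locallyOfFiniteType_of_comp f g
  haveI : Sheaf.IsLocallySurjective (prod.map p p) := by
    refine isLocallySurjective_of_lift _ fun T b ↦ ?_
    obtain ⟨T₁, t₁, a₁, ht₁, h₁⟩ := exists_lift_of_isLocallySurjective p (b ≫ prod.fst)
    obtain ⟨T₂, t₂, a₂, ht₂, h₂⟩ :=
      exists_lift_of_isLocallySurjective p ((yon S).map t₁ ≫ b ≫ prod.snd)
    refine ⟨T₂, t₂ ≫ t₁, prod.lift ((yon S).map t₂ ≫ a₁) a₂,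
      ?_, prod.hom_ext ?_ ?_⟩
    · haveI := ht₁.1.1; haveI := ht₁.1.2; haveI := ht₁.2
      haveI := ht₂.1.1; haveI := ht₂.1.2; haveI := ht₂.2
      exact fppfCover_mk (t₂.left ≫ t₁.left)
    · simp [Category.assoc, h₁]
    · simp [Category.assoc, h₂]
  exact representable_of_isLocallySurjective (prod.map p p) (isPullback_prodLift sq)
    effective_sepLqf (repWith_sepLqf_of_mono hQ (isAlgSpace_prod hX hX) hl)

/-- A sheaf with an etale cover by an algebraic space is an algebraic space. -/
theorem isAlgSpace_of_etale_cover {X F : Sp S} (hX : IsAlgSpace X) {p : X ⟶ F}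
    (hp : RepBySpWith (IsSurjectiveMor ⊓ IsEtaleMor) p.hom) : IsAlgSpace F := by
  have hd := representable_diag hX (fppf_of_etale hp)
  obtain ⟨U, c, hc, hcs⟩ := hX.atlas
  have hr : Representable (c ≫ p) := Functor.relativelyRepresentable.of_diag hd _
  have key : ∀ (T : Over S) (ξ : (yon S).obj T ⟶ F) (V : Over S) (fst : (yon S).obj V ⟶ (yon S).obj U)
      (v : V ⟶ T), IsPullback fst ((yon S).map v) (c ≫ p) ξ → Etale v.left := by
    intro T ξ V fst v sqV
    obtain ⟨hP, -, he⟩ := exists_chart_of_repBySpWith hp ξ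
    have sqP := IsPullback.of_hasPullback p ξ
    let φ := sqP.lift (fst ≫ c) ((yon S).map v) ((Category.assoc _ _ _).trans sqV.w)
    have sqφ : IsPullback fst φ c (pullback.fst p ξ) := by
      refine IsPullback.of_bot ?_ (sqP.lift_fst _ _ _).symm sqP
      rw [sqP.lift_snd]
      exact sqV
    have hv := he φ (repWith_baseChange sqφ hc)
    rw [sqP.lift_snd] at hv
    exact (repWith_yon_map_iff _ v).1 hv
  refine ⟨hd, U, c ≫ p, ⟨hr, fun T V ξ fst v sq ↦ key T ξ V fst v sq⟩,
    repWith_surjective_of_points hr fun y ↦ ?_⟩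
  obtain ⟨T, ξ, t, rfl⟩ := exists_ofPt_eq y
  obtain ⟨-, hs, -⟩ := exists_chart_of_repBySpWith hp ξ
  obtain ⟨x, hx⟩ := hs (Points.ofScheme T t)
  obtain ⟨u, hu⟩ := surjective_map hcs (Points.map (pullback.fst p ξ) x)
  refine ⟨u, ?_⟩
  rw [Points.map_comp, hu, ← Points.map_comp, pullback.condition, Points.map_comp, hx,
    ← Points.ofPt_eq_map_ofScheme]

end Groth.Agent.Lib.AlgSpMor.RepBySp
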