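import Groth.Agent.Lib.AlgStack.RepPsh

/-!
# Maps of presheaves representable by algebraic spaces: formal properties
-/

set_option autoImplicit false
set_option linter.style.haveILetI false

universe u

open CategoryTheory CategoryTheory.Limits AlgebraicGeometry Opposite

namespace Groth.Agent.Lib.AlgSpMor.RepPresheaf

open Groth.Agent.Lib.AlgSpace
open AlgSp (Sp PSp yon pyon Representable RepWith IsAlgSpace RepBySp IsAlgSpaceP)

variable {S : Scheme.{u}}

attribute [local simp] prod.lift_fst prod.lift_snd prod.lift_fst_assoc prod.lift_snd_assoc prod.map_fst prod.map_snd prod.map_fst_assoc prod.map_snd_assoc pullback.lift_fst pullback.lift_snd pullback.lift_fst_assoc pullback.lift_snd_assoc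

theorem isAlgSpaceP_pyon (U : Over S) : IsAlgSpaceP ((pyon S).obj U) :=
  ⟨((yon S).obj U).property, IsAlgSpace.yon_obj U⟩

theorem repBySp_baseChange {F G F' G' : PSp S} {a : F ⟶ G} {g : G' ⟶ G} {fst : F' ⟶ F}
    {a' : F' ⟶ G'} (sq : IsPullback fst a' a g) (ha : RepBySp a) : RepBySp a' :=
  fun _ ξ _ p q sq' => ha (ξ ≫ g) (p ≫ fst) q (sq'.paste_horiz sq)

theorem isStableUnderBaseChange : MorphismProperty.IsStableUnderBaseChange (RepBySp (S := S)) :=
  ⟨fun sq h => repBySp_baseChange sq h⟩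

theorem repBySp_of_representable {F G : PSp S} {a : F ⟶ G}
    (ha : (pyon S).relativelyRepresentable a) : RepBySp a := by
  intro U ξ F' fst snd sq
  obtain ⟨V, snd', fst', sq'⟩ := ha ξ
  exact (isAlgSpaceP_pyon V).of_iso (sq'.isoIsPullback _ _ sq)

theorem isAlgSpaceP_of_repBySp {F G : PSp S} {a : F ⟶ G} (ha : RepBySp a) (hG : IsAlgSpaceP G) :
    IsAlgSpaceP F := by
  obtain ⟨h, hA⟩ := hG
  exact Lib.AlgStack.RepPsh.isAlgSpaceP_of_repBySp (F := ⟨G, h⟩) ha hA

theorem isAlgSpaceP_pullback {F G X F' : PSp S} {a : F ⟶ G} (ha : RepBySp a) (hX : IsAlgSpaceP X)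
    {ξ : X ⟶ G} {fst : F' ⟶ X} {snd : F' ⟶ F} (sq : IsPullback fst snd ξ a) : IsAlgSpaceP F' :=
  isAlgSpaceP_of_repBySp (repBySp_baseChange sq.flip ha) hX

theorem repBySp_id (F : PSp S) : RepBySp (𝟙 F) :=
  repBySp_of_representable ((pyon S).relativelyRepresentable.id_mem F)

theorem repBySp_comp {F G H : PSp S} {a : F ⟶ G} {b : G ⟶ H} (ha : RepBySp a) (hb : RepBySp b) :
    RepBySp (a ≫ b) := by
  intro U ξ F' fst snd sq
  have sqb := IsPullback.of_hasPullback b ξ
  have hP := hb ξ _ _ sqb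
  have sqa := IsPullback.of_hasPullback a (pullback.fst b ξ)
  exact (isAlgSpaceP_pullback ha hP sqa.flip).of_iso ((sqa.paste_vert sqb).isoIsPullback _ _ sq)

theorem isMultiplicative : MorphismProperty.IsMultiplicative (RepBySp (S := S)) where
  id_mem := repBySp_id
  comp_mem _ _ := repBySp_comp

theorem repBySp_prod_map {F₁ G₁ F₂ G₂ : PSp S} {a₁ : F₁ ⟶ G₁} {a₂ : F₂ ⟶ G₂} (h₁ : RepBySp a₁)
    (h₂ : RepBySp a₂) : RepBySp (prod.map a₁ a₂) := by
  have := isStableUnderBaseChange (S := S)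
  have := isMultiplicative (S := S)
  have sq₁ : IsPullback (prod.fst : F₁ ⨯ F₂ ⟶ F₁) (prod.map a₁ (𝟙 F₂)) a₁ prod.fst := by
    refine ⟨⟨by simp⟩, ⟨PullbackCone.IsLimit.mk _ (fun s => prod.lift s.fst (s.snd ≫ prod.snd))
      (fun s => by simp) (fun s => ?_) (fun s m hm hn => ?_)⟩⟩
    · apply prod.hom_ext
      · simp [s.condition]
      · simp
    · apply prod.hom_ext
      · simp [hm]
      · simp [← hn]
  have sq₂ : IsPullback (prod.snd : G₁ ⨯ F₂ ⟶ F₂) (prod.map (𝟙 G₁) a₂) a₂ prod.snd := by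
    refine ⟨⟨by simp⟩, ⟨PullbackCone.IsLimit.mk _ (fun s => prod.lift (s.snd ≫ prod.fst) s.fst)
      (fun s => by simp) (fun s => ?_) (fun s m hm hn => ?_)⟩⟩
    · apply prod.hom_ext
      · simp
      · simp [s.condition]
    · apply prod.hom_ext
      · simp [← hn]
      · simp [hm]
  have : prod.map a₁ a₂ = prod.map a₁ (𝟙 F₂) ≫ prod.map (𝟙 G₁) a₂ := by simp
  rw [this]
  exact repBySp_comp (repBySp_baseChange sq₁ h₁) (repBySp_baseChange sq₂ h₂)

/-- The diagonal of a map of presheaves is representable by schemes as soon as the base changes of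
the map to schemes are algebraic spaces. -/
theorem representable_diagonal {F G : PSp S} {a : F ⟶ G} (ha : RepBySp a) :
    (pyon S).relativelyRepresentable (pullback.diagonal a) := by
  intro U ξ
  let x := ξ ≫ pullback.fst a a
  let y := ξ ≫ pullback.snd a a
  let c := x ≫ a
  have hy : y ≫ a = c := by simp [x, y, c, pullback.condition]
  have sqP := IsPullback.of_hasPullback a c
  obtain ⟨hP, hA⟩ := ha c _ _ sqP
  let s0 : (pyon S).obj U ⟶ pullback a c := pullback.lift x (𝟙 ((pyon S).obj U)) (by simp [c])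
  let t0 : (pyon S).obj U ⟶ pullback a c := pullback.lift y (𝟙 ((pyon S).obj U)) (by simp [hy])
  have hs1 : s0 ≫ pullback.fst a c = x := by simp [s0]
  have hs2 : s0 ≫ pullback.snd a c = 𝟙 _ := by simp [s0]
  have ht1 : t0 ≫ pullback.fst a c = y := by simp [t0]
  have ht2 : t0 ≫ pullback.snd a c = 𝟙 _ := by simp [t0]
  let s : (yon S).obj U ⟶ (⟨pullback a c, hP⟩ : Sp S) := ObjectProperty.homMk s0
  let t : (yon S).obj U ⟶ (⟨pullback a c, hP⟩ : Sp S) := ObjectProperty.homMk t0
  obtain ⟨W, i, j, sqW⟩ := exists_isPullback_yon hA.diag s t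
  have sqW' := sqW.map (sheafToPresheaf (AlgSp.J S) (Type (u + 1)))
  have e : (pyon S).map i = (pyon S).map j := by
    have := congrArg (fun m => m ≫ pullback.snd a c) sqW'.w
    change ((pyon S).map i ≫ s0) ≫ pullback.snd a c = ((pyon S).map j ≫ t0) ≫ pullback.snd a c at this
    simpa [hs2, ht2] using this
  have exy : (pyon S).map i ≫ x = (pyon S).map i ≫ y := by
    have := congrArg (fun m => m ≫ pullback.fst a c) sqW'.w
    change ((pyon S).map i ≫ s0) ≫ pullback.fst a c = ((pyon S).map j ≫ t0) ≫ pullback.fst a c at this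
    rw [← e] at this
    simpa [hs1, ht1] using this
  refine ⟨W, i, (pyon S).map i ≫ x, ⟨⟨?_⟩, ⟨PullbackCone.IsLimit.mk _
    (fun c' => sqW'.lift c'.snd c'.snd ?_) (fun c' => ?_) (fun c' => ?_) (fun c' m hm hn => ?_)⟩⟩⟩
  · apply pullback.hom_ext
    · simp [x]
    · simpa [y] using exy
  · have h := c'.condition
    have h1 : c'.fst = c'.snd ≫ x := by
      simpa [x] using congrArg (fun m => m ≫ pullback.fst a a) h
    have h2 : c'.fst = c'.snd ≫ y := by
      simpa [y] using congrArg (fun m => m ≫ pullback.snd a a) h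
    change c'.snd ≫ s0 = c'.snd ≫ t0
    apply pullback.hom_ext
    · simp [hs1, ht1, ← h1, ← h2]
    · simp [hs2, ht2]
  · have h1 : c'.fst = c'.snd ≫ x := by
      simpa [x] using congrArg (fun m => m ≫ pullback.fst a a) c'.condition
    exact (Category.assoc _ _ _).symm.trans ((congrArg (· ≫ x) (sqW'.lift_fst _ _ _)).trans h1.symm)
  · exact sqW'.lift_fst _ _ _
  · apply sqW'.hom_ext
    · exact hn.trans (sqW'.lift_fst _ _ _).symm
    · refine Eq.trans ?_ (sqW'.lift_snd _ _ _).symm
      change m ≫ (pyon S).map j = _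
      rw [← e]
      exact hn

theorem repBySp_of_comp {F G H : PSp S} {a : F ⟶ G} {b : G ⟶ H}
    (hΔ : RepBySp (pullback.diagonal b)) (hab : RepBySp (a ≫ b)) : RepBySp a := by
  have : a = pullback.lift (𝟙 F) a (by simp) ≫ pullback.snd (a ≫ b) b := by simp
  rw [this]
  exact repBySp_comp (repBySp_baseChange (pullback_lift_diagonal_isPullback a b) hΔ)
    (repBySp_baseChange (IsPullback.of_hasPullback (a ≫ b) b) hab)

end Groth.Agent.Lib.AlgSpMor.RepPresheaf
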