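import Groth.Agent.Lib.AlgSpMor.RepBySp
import Groth.Agent.Lib.AlgSpace.Quot
import Groth.Agent.Lib.AlgSpDecent.Core
import Mathlib.AlgebraicGeometry.Sites.Etale

/-!
# Etale sheaves with etale charts are algebraic spaces
-/

set_option autoImplicit false
set_option linter.style.haveILetI false
universe u

open CategoryTheory CategoryTheory.Limits AlgebraicGeometry Opposite
open Groth.Agent.Lib.AlgSpace

namespace Groth.Agent.Lib.AlgSpMor.EtaleSheaf

open AlgSp (Sp PSp pyon yon Representable RepWith IsAlgSpace IsAlgSpaceP)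
open AlgSp

variable {S : Scheme.{u}}

theorem singleton_mem {T' T : Over S} (p : T' ⟶ T) [Etale p.left] [Surjective p.left] :
    Sieve.ofArrows (fun _ : PUnit.{1} ↦ T') (fun _ ↦ p) ∈ QuotSh.J Scheme.etalePrecoverage S T := by
  rw [GrothendieckTopology.mem_over_iff, Sieve.overEquiv_ofArrows]
  refine Precoverage.generate_mem_toGrothendieck ?_
  exact (Scheme.ofArrows_mem_precoverage_iff (P := @Etale)).2
    ⟨fun x ↦ ⟨⟨⟩, p.left.surjective x⟩, fun _ ↦ ‹Etale p.left›⟩

/-- Descent of maps into an etale sheaf along one etale surjection. -/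
theorem existsUnique_desc {F : PSp S}
    (hF : Presheaf.IsSheaf (QuotSh.J Scheme.etalePrecoverage S) F) {T' T : Over S} (p : T' ⟶ T)
    [Etale p.left] [Surjective p.left] (a : (pyon S).obj T' ⟶ F)
    (ha : ∀ (W : Over S) (g h : W ⟶ T'), g ≫ p = h ≫ p →
      (pyon S).map g ≫ a = (pyon S).map h ≫ a) :
    ∃! b : (pyon S).obj T ⟶ F, (pyon S).map p ≫ b = a := by
  have h : Presieve.IsSheafFor F (Presieve.ofArrows (fun _ : PUnit.{1} ↦ T') (fun _ ↦ p)) :=
    ((isSheaf_iff_isSheaf_of_type _ _).1 hF).isSheafFor _ (singleton_mem p)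
  obtain ⟨b, hb, hu⟩ := (Presieve.isSheafFor_arrows_iff _ _).1 h (fun _ ↦ uliftYonedaEquiv.{u + 1} a)
    (fun _ _ W g h e ↦ by
      rw [uliftYonedaEquiv_naturality, uliftYonedaEquiv_naturality]
      exact congrArg _ (ha W g h e))
  refine ⟨uliftYonedaEquiv.{u + 1}.symm b, ?_, fun b' hb' ↦ ?_⟩
  · refine uliftYonedaEquiv.{u + 1}.injective ?_
    show uliftYonedaEquiv.{u + 1} ((pyon S).map p.op.unop ≫ uliftYonedaEquiv.{u + 1}.symm b) = _
    rw [← uliftYonedaEquiv_naturality, Equiv.apply_symm_apply]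
    exact hb ⟨⟩
  · rw [Equiv.eq_symm_apply]
    refine hu _ fun _ ↦ ?_
    rw [uliftYonedaEquiv_naturality]
    exact congrArg _ hb'

theorem hom_ext_of_cover {F : PSp S}
    (hF : Presheaf.IsSheaf (QuotSh.J Scheme.etalePrecoverage S) F) {T' T : Over S} (p : T' ⟶ T)
    [Etale p.left] [Surjective p.left] {a b : (pyon S).obj T ⟶ F}
    (h : (pyon S).map p ≫ a = (pyon S).map p ≫ b) : a = b :=
  (existsUnique_desc hF p ((pyon S).map p ≫ a) fun W g h' e ↦ by
    rw [← Category.assoc, ← Category.assoc, ← Functor.map_comp, ← Functor.map_comp, e]).unique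
    rfl h.symm

/-- An etale sheaf with an etale chart is an algebraic space. -/
theorem isAlgSpaceP_of_chart {F : PSp S}
    (hF : Presheaf.IsSheaf (QuotSh.J Scheme.etalePrecoverage S) F) {V R : Over S}
    (q : (pyon S).obj V ⟶ F) (t s : R ⟶ V)
    (sq : IsPullback ((pyon S).map t) ((pyon S).map s) q q) [Etale s.left]
    (hlift : ∀ (T : Over S) (ξ : (pyon S).obj T ⟶ F), ∃ (W : Over S) (w : W ⟶ T) (v : W ⟶ V),
      Etale w.left ∧ Surjective w.left ∧ (pyon S).map v ≫ q = (pyon S).map w ≫ ξ) :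
    IsAlgSpaceP F := by
  have hR : ∀ {T : Over S} {a b : T ⟶ V}, (∃ r : T ⟶ R, r ≫ t = a ∧ r ≫ s = b) ↔
      (pyon S).map a ≫ q = (pyon S).map b ≫ q := by
    intro T a b
    refine ⟨fun ⟨r, h1, h2⟩ ↦ ?_, fun e ↦ ?_⟩
    · rw [← h1, ← h2, Functor.map_comp, Functor.map_comp, Category.assoc, Category.assoc, sq.w]
    · obtain ⟨r, hr⟩ := (pyon S).map_surjective (sq.lift _ _ e)
      exact ⟨r, (pyon S).map_injective (by rw [Functor.map_comp, hr, sq.lift_fst]),
        (pyon S).map_injective (by rw [Functor.map_comp, hr, sq.lift_snd])⟩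
  have hinj : ∀ (T : Over S) (r r' : T ⟶ R), r ≫ t = r' ≫ t → r ≫ s = r' ≫ s → r = r' :=
    fun T r r' h1 h2 ↦ (pyon S).map_injective (sq.hom_ext
      (by rw [← Functor.map_comp, ← Functor.map_comp, h1])
      (by rw [← Functor.map_comp, ← Functor.map_comp, h2]))
  obtain ⟨σ, hσt, hσs⟩ := hR.2 (show (pyon S).map s ≫ q = (pyon S).map t ≫ q from sq.w.symm)
  have hσσ : σ ≫ σ = 𝟙 R := hinj _ _ _
    (by rw [Category.assoc, hσt, hσs, Category.id_comp])
    (by rw [Category.assoc, hσs, hσt, Category.id_comp])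
  haveI : IsIso σ := ⟨σ, hσσ, hσσ⟩
  haveI : IsIso σ.left := inferInstanceAs (IsIso ((Over.forget S).map σ))
  haveI : Etale t.left := by
    rw [← hσs, Over.comp_left]
    infer_instance
  have hE : IsEtaleEqvRel s t :=
    { injective := hinj
      equivalence := fun T ↦
        ⟨fun a ↦ hR.2 rfl, fun h ↦ hR.2 (hR.1 h).symm, fun h h' ↦ hR.2 ((hR.1 h).trans (hR.1 h'))⟩
      etale_left := ‹_›
      etale_right := ‹_› }
  obtain ⟨G, π, sqG, hG, hπe, hπs⟩ : ∃ (G : Sp S) (π : (yon S).obj V ⟶ G),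
      IsPullback ((yon S).map t) ((yon S).map s) π π ∧ IsAlgSpace G ∧ RepWith @Etale π ∧
        RepWith @Surjective π :=
    ⟨_, quotMap s t, isPullback_quot hE.toIsEqvRel, isAlgSpace_quot hE,
      (isPresentation_quot hE).etale, (isPresentation_quot hE).surjective⟩
  have key : ∀ {T : Over S} (a b : T ⟶ V), (yon S).map a ≫ π = (yon S).map b ≫ π ↔
      (pyon S).map a ≫ q = (pyon S).map b ≫ q := by
    intro T a b
    rw [← hR]
    refine ⟨fun e ↦ ?_, fun ⟨r, h1, h2⟩ ↦ ?_⟩
    · obtain ⟨r, hr⟩ := (yon S).map_surjective (sqG.lift _ _ e)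
      exact ⟨r, (yon S).map_injective (by rw [Functor.map_comp, hr, sqG.lift_fst]),
        (yon S).map_injective (by rw [Functor.map_comp, hr, sqG.lift_snd])⟩
    · rw [← h1, ← h2, Functor.map_comp, Functor.map_comp, Category.assoc, Category.assoc, sqG.w]
  -- the comparison map
  have hcomp : ∀ (T : Over S) (ξ : (pyon S).obj T ⟶ F), ∃ b : (yon S).obj T ⟶ G,
      ∀ (W : Over S) (w : W ⟶ T) (v : W ⟶ V), (pyon S).map v ≫ q = (pyon S).map w ≫ ξ →
        (yon S).map w ≫ b = (yon S).map v ≫ π := by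
    intro T ξ
    obtain ⟨W₀, w₀, v₀, _, _, h₀⟩ := hlift T ξ
    have hc : fppfCover w₀.left := fppfCover_mk w₀.left
    haveI := isLocallySurjective_yon_map w₀ hc
    obtain ⟨b, hb, -⟩ := exists_desc_of_family (fun _ : PUnit.{1} ↦ W₀) (fun _ ↦ w₀)
      (singleton_mem_J w₀ hc) (fun _ ↦ (yon S).map v₀ ≫ π) fun _ _ Z g h e ↦ by
        rw [← Category.assoc, ← Category.assoc, ← Functor.map_comp, ← Functor.map_comp, key,
          Functor.map_comp, Functor.map_comp, Category.assoc, Category.assoc, h₀,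
          ← Category.assoc, ← Category.assoc, ← Functor.map_comp, ← Functor.map_comp, e]
    refine ⟨b, fun W w v h ↦ ?_⟩
    let p : Limits.pullback w w₀ ⟶ W := pullback.fst w w₀
    have sqp := ((IsPullback.of_hasPullback w w₀).map (Over.forget S)).flip
    have hp : fppfCover p.left :=
      ⟨⟨MorphismProperty.of_isPullback (P := @Surjective) sqp hc.1.1,
        MorphismProperty.of_isPullback (P := @Flat) sqp hc.1.2⟩,
        MorphismProperty.of_isPullback (P := @LocallyOfFinitePresentation) sqp hc.2⟩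
    haveI := epi_yon_map p hp
    rw [← cancel_epi ((yon S).map p), ← Category.assoc, ← Functor.map_comp, pullback.condition,
      Functor.map_comp, Category.assoc, hb ⟨⟩, ← Category.assoc, ← Category.assoc,
      ← Functor.map_comp, ← Functor.map_comp, key, Functor.map_comp, Functor.map_comp,
      Category.assoc, Category.assoc, h, h₀, ← Category.assoc, ← Category.assoc,
      ← Functor.map_comp, ← Functor.map_comp, pullback.condition]
  choose ψ hψ using hcomp
  have huniq : ∀ {T : Over S} (ξ : (pyon S).obj T ⟶ F) (b : (yon S).obj T ⟶ G),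
      (∀ (W : Over S) (w : W ⟶ T) (v : W ⟶ V), (pyon S).map v ≫ q = (pyon S).map w ≫ ξ →
        (yon S).map w ≫ b = (yon S).map v ≫ π) → b = ψ T ξ := by
    intro T ξ b hb
    obtain ⟨W, w, v, _, _, h⟩ := hlift T ξ
    haveI := epi_yon_map w (fppfCover_mk w.left)
    rw [← cancel_epi ((yon S).map w), hb W w v h, hψ T ξ W w v h]
  have hnat : ∀ {T T' : Over S} (g : T' ⟶ T) (ξ : (pyon S).obj T ⟶ F),
      ψ T' ((pyon S).map g ≫ ξ) = (yon S).map g ≫ ψ T ξ := fun g ξ ↦ by
    refine (huniq _ _ fun W w v h ↦ ?_).symm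
    rw [← Category.assoc, ← Functor.map_comp]
    exact hψ _ ξ W (w ≫ g) v (by rw [h, Functor.map_comp, Category.assoc])
  let Ψ : F ⟶ G.obj :=
    { app := fun T ↦ ↾fun x ↦ secEquiv T.unop (ψ T.unop (uliftYonedaEquiv.{u + 1}.symm x))
      naturality := fun T T' g ↦ by
        ext x
        change secEquiv T'.unop (ψ T'.unop (uliftYonedaEquiv.{u + 1}.symm (F.map g x))) =
          G.obj.map g (secEquiv T.unop (ψ T.unop (uliftYonedaEquiv.{u + 1}.symm x)))
        rw [uliftYonedaEquiv_symm_map]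
        erw [hnat g.unop, secEquiv_map]
        rfl }
  haveI : IsIso Ψ := by
    refine (NatTrans.isIso_iff_isIso_app Ψ).2 fun T ↦ (isIso_iff_bijective _).2 ⟨fun x y e ↦ ?_,
      fun z ↦ ?_⟩
    · have e' : ψ T.unop (uliftYonedaEquiv.{u + 1}.symm x) = ψ T.unop (uliftYonedaEquiv.{u + 1}.symm y) :=
        (secEquiv T.unop).injective e
      apply uliftYonedaEquiv.{u + 1}.symm.injective
      obtain ⟨W, w, v, _, _, h⟩ := hlift T.unop (uliftYonedaEquiv.{u + 1}.symm x)
      obtain ⟨W', w', v', _, _, h'⟩ := hlift W ((pyon S).map w ≫ uliftYonedaEquiv.{u + 1}.symm y)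
      have h1 := hψ _ _ W' (w' ≫ w) (w' ≫ v)
        (by rw [Functor.map_comp, Functor.map_comp, Category.assoc, Category.assoc, h])
      have h2 := hψ _ _ W' (w' ≫ w) v' (by rw [h', Functor.map_comp, Category.assoc])
      rw [e'] at h1
      refine hom_ext_of_cover hF w (hom_ext_of_cover hF w' ?_)
      rw [← h', ← h, ← Category.assoc, ← Functor.map_comp]
      exact (key _ _).1 (h1.symm.trans h2)
    · obtain ⟨b, rfl⟩ := (secEquiv T.unop).surjective z
      obtain ⟨W, w, v', sqW, _⟩ := repWith_exists hπe b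
      obtain ⟨v, rfl⟩ := (yon S).map_surjective v'
      haveI : Etale w.left := repWith_property hπe sqW
      haveI : Surjective w.left := repWith_property hπs sqW
      obtain ⟨ξ, hξ, -⟩ := existsUnique_desc hF w ((pyon S).map v ≫ q) fun Z g h e ↦ by
        rw [← Category.assoc, ← Category.assoc, ← Functor.map_comp, ← Functor.map_comp, ← key,
          Functor.map_comp, Functor.map_comp, Category.assoc, Category.assoc, sqW.w,
          ← Category.assoc, ← Category.assoc, ← Functor.map_comp, ← Functor.map_comp, e]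
      refine ⟨uliftYonedaEquiv.{u + 1} ξ, congrArg (secEquiv T.unop) ?_⟩
      rw [Equiv.symm_apply_apply]
      haveI := epi_yon_map w (fppfCover_mk w.left)
      rw [← cancel_epi ((yon S).map w), hψ _ ξ W w v hξ.symm, sqW.w]
  exact IsAlgSpaceP.of_iso ((isAlgSpaceP_obj_iff G).2 hG) (asIso Ψ).symm

end Groth.Agent.Lib.AlgSpMor.EtaleSheaf
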