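import Groth.Agent.Lib.AlgSpMor.LocP
import Groth.Agent.Lib.AlgSpMor.Proper
import Groth.Agent.Lib.AlgSpace.Points
import Mathlib.AlgebraicGeometry.Morphisms.Finite
import Mathlib.AlgebraicGeometry.Noetherian
import Mathlib.AlgebraicGeometry.Morphisms.QuasiFinite
import Mathlib.AlgebraicGeometry.Fiber

/-!
# Locally quasi-finite morphisms of algebraic spaces and discrete fibres
-/

set_option autoImplicit false
universe u

open CategoryTheory CategoryTheory.Limits AlgebraicGeometry TopologicalSpace
open Groth.Agent.Lib.AlgSpace Groth.Agent.Lib.AlgSpMor.LocP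

namespace Groth.Agent.Lib.AlgSpMor.DiscreteFibres

open AlgSp (Sp yon Representable RepWith IsAlgSpace LocP)
open AlgSp

/-- A scheme locally of finite type over a field all whose points are closed is discrete. -/
theorem discreteTopology_of_isClosed_singleton {k : Type u} [Field k] {A : Scheme.{u}}
    (m : A ⟶ Spec (CommRingCat.of k)) [LocallyOfFiniteType m]
    (h : ∀ x : A, IsClosed ({x} : Set A)) : DiscreteTopology A := by
  have : IsLocallyNoetherian A := LocallyOfFiniteType.isLocallyNoetherian m
  rw [discreteTopology_iff_isOpen_singleton]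
  intro x
  obtain ⟨V, hV, hxV, -⟩ :=
    exists_isAffineOpen_mem_and_subset (x := x) (U := (⊤ : A.Opens)) trivial
  have : IsAffine (V : Scheme.{u}) := hV
  have : IsLocallyNoetherian (V : Scheme.{u}) := LocallyOfFiniteType.isLocallyNoetherian (V.ι ≫ m)
  have : IsNoetherian (V : Scheme.{u}) := {}
  have : T1Space (V : Scheme.{u}) := ⟨fun z ↦ by
    have : ({z} : Set (V : Scheme.{u})) = V.ι ⁻¹' {z.1} :=
      Set.ext fun w ↦ ⟨fun e ↦ congrArg Subtype.val e, fun e ↦ Subtype.ext e⟩
    rw [this]
    exact (h _).preimage V.ι.continuous⟩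
  have hfin : Finite (V : Scheme.{u}) := by
    refine Set.finite_univ_iff.1 ((Set.Finite.biUnion
      (NoetherianSpace.finite_irreducibleComponents (α := (V : Scheme.{u})))
      (t := fun T ↦ T) fun T hT ↦ ?_).subset fun z _ ↦ Set.mem_iUnion₂.2
        ⟨_, irreducibleComponent_mem_irreducibleComponents z, mem_irreducibleComponent⟩)
    obtain ⟨g, hg⟩ := QuasiSober.sober hT.1 (isClosed_of_mem_irreducibleComponents T hT)
    rw [← hg.def, closure_singleton]
    exact Set.finite_singleton g
  have hop : IsOpen ({(⟨x, hxV⟩ : V)} : Set (V : Scheme.{u})) := isOpen_discrete _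
  have := V.ι.isOpenEmbedding.isOpenMap _ hop
  exact (Set.image_singleton (f := V.ι) (a := (⟨x, hxV⟩ : V))) ▸ this

variable {S : Scheme.{u}}

/-- An etale chart, locally of finite type over a field, of a space with discrete points is
discrete. -/
theorem discreteTopology_chart {P : Sp S} (hP : Representable (Limits.diag P))
    [DiscreteTopology (Points P)] {A : Over S} {c : (yon S).obj A ⟶ P} (hc : RepWith @Etale c)
    {k : Type u} [Field k] (m : A.left ⟶ Spec (CommRingCat.of k)) [LocallyOfFiniteType m] :
    DiscreteTopology A.left := by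
  refine discreteTopology_of_isClosed_singleton m fun u ↦ ?_
  have : JacobsonSpace A.left := LocallyOfFiniteType.jacobsonSpace m
  let F : Set A.left := Points.ofPt c ⁻¹' {Points.ofPt c u}
  have hF : IsOpen F := (isOpen_discrete _).preimage (Points.continuous_ofPt c)
  obtain ⟨u₀, hu₀, hu₀c⟩ := nonempty_inter_closedPoints (Z := F) ⟨u, rfl⟩ hF.isLocallyClosed
  obtain ⟨W, p, q, sq⟩ := exists_isPullback_yon hP c c
  have : Etale p.left := repWith_property hc sq.flip
  have : Etale q.left := repWith_property hc sq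
  have : LocallyQuasiFinite q.left := locallyQuasiFinite_of_etale q.left
  obtain ⟨r, hr, hr'⟩ := (ofPt_eq_ofPt_iff_of_isPullback sq u u₀).1 (Eq.symm hu₀)
  subst hr'
  have hrc : IsClosed ({r} : Set W.left) := by
    have hd := (q.left.isDiscrete_preimage_singleton (q.left r)).1
    have h1 : IsClosed ({⟨r, rfl⟩} : Set ↥(q.left ⁻¹' {q.left r})) := isClosed_discrete _
    have h2 := (hu₀c.preimage q.left.continuous).isClosedEmbedding_subtypeVal.isClosedMap _ h1
    rwa [Set.image_singleton] at h2
  have := p.left.closePoints_subset_preimage_closedPoints hrc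
  rw [Set.mem_preimage, hr] at this
  exact this

theorem discreteTopology_points {P : Sp S} {A : Over S} {c : (yon S).obj A ⟶ P}
    (hc : RepWith @Etale c) (hcs : RepWith @Surjective c) [DiscreteTopology A.left] :
    DiscreteTopology (Points P) :=
  discreteTopology_iff_forall_isOpen.2 fun _ ↦ (isOpen_iff_chart hc hcs).2 (isOpen_discrete _)

variable {X Y : Sp S}

theorem discreteTopology_fibre_of_lqf (hX : IsAlgSpace X) (hY : IsAlgSpace Y) {f : X ⟶ Y}
    (hf : LocP ((@LocallyQuasiFinite : MorphismProperty Scheme.{u}) ⊓ @LocallyOfFiniteType) f)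
    {k : Type u} [Field k] {str : Spec (CommRingCat.of k) ⟶ S}
    {y : (yon S).obj (Over.mk str) ⟶ Y} {P : Sp S} {fst : P ⟶ X}
    {snd : P ⟶ (yon S).obj (Over.mk str)} (sq : IsPullback fst snd f y) :
    DiscreteTopology (Points P) := by
  have hP := isAlgSpace_of_isPullback sq hY.diag hX (IsAlgSpace.yon_obj _)
  have hsnd := locP_of_isPullback lqfLft hX hY (IsAlgSpace.yon_obj _) sq hf
  obtain ⟨A, c, hc, hcs⟩ := hP.atlas
  obtain ⟨m, hm⟩ := (yon S).map_surjective (c ≫ snd)
  have hml := hsnd c ((yon S).map (𝟙 _)) m hc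
    ((AlgSp.repWith_yon_map_iff _ _).2 (inferInstanceAs (Etale (𝟙 (Spec (CommRingCat.of k))))))
    (by rw [CategoryTheory.Functor.map_id, Category.comp_id, hm])
  have := hml.1
  have : DiscreteTopology A.left := by
    have h1 := (m.left.isDiscrete_preimage_singleton (IsLocalRing.closedPoint k)).1
    have e : m.left ⁻¹' {IsLocalRing.closedPoint k} = Set.univ :=
      Set.eq_univ_of_forall fun x ↦ Subsingleton.elim (α := ↥(Spec (CommRingCat.of k))) _ _
    replace h1 : DiscreteTopology ↥(Set.univ : Set A.left) := e ▸ h1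
    exact (Homeomorph.Set.univ A.left).symm.isEmbedding.discreteTopology
  exact discreteTopology_points hc hcs

theorem lqf_of_discreteTopology_fibres (hX : IsAlgSpace X) (hY : IsAlgSpace Y) {f : X ⟶ Y}
    (hf : LocP @LocallyOfFiniteType f)
    (h : ∀ (k : Type u) [Field k] (str : Spec (CommRingCat.of k) ⟶ S)
        (y : (yon S).obj (Over.mk str) ⟶ Y) (P : Sp S) (fst : P ⟶ X)
        (snd : P ⟶ (yon S).obj (Over.mk str)),
        IsPullback fst snd f y → DiscreteTopology (Points P)) :
    LocP ((@LocallyQuasiFinite : MorphismProperty Scheme.{u}) ⊓ @LocallyOfFiniteType) f := by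
  obtain ⟨U, V, a, b, g, ha, has, hb, -, w⟩ := exists_chart hX hY f
  have : LocallyOfFiniteType g.left := hf a b g ha hb w
  refine locP_of_chart lqfLft hX.diag hY.diag ha has hb w
    ⟨locallyQuasiFinite_iff_isDiscrete_preimage_singleton.2 fun v ↦ ?_, this⟩
  let ν : Over.mk (V.left.fromSpecResidueField v ≫ V.hom) ⟶ V :=
    Over.homMk (V.left.fromSpecResidueField v) rfl
  have sqQ := IsPullback.of_hasPullback f b
  have hQ := isAlgSpace_of_isPullback sqQ hY.diag hX (IsAlgSpace.yon_obj V)
  let j : (yon S).obj U ⟶ pullback f b := pullback.lift a ((yon S).map g) w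
  have hj : RepWith @Etale j := Proper.repWith_etale_of_comp hQ.diag
    (repWith_baseChange sqQ.flip hb) (by rwa [pullback.lift_fst])
  have hjs : j ≫ pullback.snd f b = (yon S).map g := pullback.lift_snd _ _ _
  obtain ⟨R, r₁, r₂, sqR⟩ := exists_isPullback_yon (IsAlgSpace.yon_obj V).diag ((yon S).map g)
    ((yon S).map ν)
  have sqP := IsPullback.of_hasPullback (pullback.snd f b) ((yon S).map ν)
  have : DiscreteTopology (Points (pullback (pullback.snd f b) ((yon S).map ν))) :=
    h _ _ _ _ _ _ (sqP.paste_horiz sqQ)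
  let c : (yon S).obj R ⟶ pullback (pullback.snd f b) ((yon S).map ν) :=
    sqP.lift ((yon S).map r₁ ≫ j) ((yon S).map r₂) (by rw [Category.assoc, hjs, sqR.w])
  have sqc : IsPullback ((yon S).map r₁) c j (pullback.fst (pullback.snd f b) ((yon S).map ν)) :=
    IsPullback.of_bot (h₂₁ := pullback.fst (pullback.snd f b) ((yon S).map ν))
      (by rw [sqP.lift_snd, hjs]; exact sqR) (sqP.lift_fst _ _ _).symm sqP
  have hP := isAlgSpace_of_isPullback sqP (IsAlgSpace.yon_obj V).diag hQ (IsAlgSpace.yon_obj _)
  have sq' := (isPullback_of_yon_map sqR).map (Over.forget S)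
  have : LocallyOfFiniteType r₂.left :=
    MorphismProperty.of_isPullback sq' (inferInstanceAs (LocallyOfFiniteType g.left))
  have : DiscreteTopology R.left :=
    discreteTopology_chart hP.diag (repWith_baseChange sqc hj) (k := V.left.residueField v) r₂.left
  have e : R.left ≅ g.left.fiber v := sq'.isoPullback
  have : DiscreteTopology ↥(g.left.fiber v) :=
    (Scheme.homeoOfIso e).symm.isEmbedding.discreteTopology
  exact ⟨(g.left.fiberHomeo v).symm.isEmbedding.discreteTopology⟩

end Groth.Agent.Lib.AlgSpMor.DiscreteFibres
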