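import Mathlib.AlgebraicGeometry.Morphisms.FlatMono
import Groth.Agent.Lib.AlgSpMor.RepDescent
import Groth.Agent.Lib.AlgSpMor.Proper

/-! # Diagonals of unramified morphisms; etale monomorphisms of algebraic spaces -/

universe u

open CategoryTheory CategoryTheory.Limits AlgebraicGeometry
open Groth.Agent.Lib.AlgSpace

namespace Groth.Agent.Lib.AlgSpMor.EtaleMono

attribute [local simp] pullback.lift_fst pullback.lift_snd pullback.lift_fst_assoc
  pullback.lift_snd_assoc

open AlgSp (Sp yon Representable RepWith IsAlgSpace)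
open AlgSp

section Schemes

variable {X Y Z : Scheme.{u}}

/-- A map to an unramified scheme over `Z` is etale if it is so over `Z`. -/
theorem etale_of_comp (h : X ⟶ Y) (g : Y ⟶ Z) [FormallyUnramified g] [LocallyOfFiniteType g]
    (hhg : Etale (h ≫ g)) : Etale h := by
  have h1 : Etale (pullback.lift (f := h ≫ g) (g := g) (𝟙 X) h (by simp)) :=
    haveI : Etale (pullback.diagonal g) := inferInstance
    MorphismProperty.of_isPullback (P := @Etale) (pullback_lift_diagonal_isPullback h g) ‹_›
  have h2 : Etale (pullback.snd (h ≫ g) g) := MorphismProperty.pullback_snd _ _ hhg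
  have e : pullback.lift (f := h ≫ g) (g := g) (𝟙 X) h (by simp) ≫ pullback.snd (h ≫ g) g = h := by
    simp
  rw [← e]
  exact @Etale.etale_comp _ _ _ _ _ h1 h2

end Schemes

variable {S : Scheme.{u}}

/-- The product of an etale atlas with itself over `Y`. -/
theorem etale_map_pullback {X Y : Sp S} {f : X ⟶ Y} {U : Over S} {a : (yon S).obj U ⟶ X}
    (ha : RepWith @Etale a) (has : RepWith @Surjective a) :
    RepWith @Etale (pullback.map (a ≫ f) (a ≫ f) f f a a (𝟙 Y) (by simp) (by simp)) ∧
      RepWith @Surjective (pullback.map (a ≫ f) (a ≫ f) f f a a (𝟙 Y) (by simp) (by simp)) := by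
  let m₁ : pullback (a ≫ f) (a ≫ f) ⟶ pullback f (a ≫ f) :=
    pullback.lift (pullback.fst _ _ ≫ a) (pullback.snd _ _)
      (by rw [Category.assoc]; exact pullback.condition)
  let m₂ : pullback f (a ≫ f) ⟶ pullback f f :=
    pullback.lift (pullback.fst _ _) (pullback.snd _ _ ≫ a)
      (by rw [Category.assoc]; exact pullback.condition)
  have sq₁ : IsPullback (pullback.fst (a ≫ f) (a ≫ f)) m₁ a (pullback.fst f (a ≫ f)) :=
    IsPullback.of_bot (by simpa [m₁] using IsPullback.of_hasPullback _ _)
      (pullback.lift_fst _ _ _).symm (IsPullback.of_hasPullback _ _)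
  have sq₂ : IsPullback (pullback.snd f (a ≫ f)) m₂ a (pullback.snd f f) :=
    IsPullback.of_bot (by simpa [m₂] using (IsPullback.of_hasPullback f (a ≫ f)).flip)
      (pullback.lift_snd _ _ _).symm (IsPullback.of_hasPullback f f).flip
  have e : pullback.map (a ≫ f) (a ≫ f) f f a a (𝟙 Y) (by simp) (by simp) = m₁ ≫ m₂ := by
    apply pullback.hom_ext <;> simp [m₁, m₂, pullback.map]
  rw [e]
  haveI : MorphismProperty.IsStableUnderComposition (@Etale : MorphismProperty Scheme.{u}) :=
    ⟨fun f g (_ : Etale f) (_ : Etale g) ↦ inferInstanceAs (Etale (f ≫ g))⟩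
  exact ⟨repWith_comp (repWith_baseChange sq₁ ha) (repWith_baseChange sq₂ ha),
    repWith_comp (repWith_baseChange sq₁ has) (repWith_baseChange sq₂ has)⟩

theorem repWith_openImmersion_diagonal_of_etale {X Y : Sp S} {g : X ⟶ Y}
    (hX : Representable (Limits.diag X)) (hg : RepWith @Etale g) :
    RepWith @IsOpenImmersion (pullback.diagonal g) :=
  Sep.repWith_diagonal_of_affine hX fun T _ ξ Q fst snd sq ↦ by
    obtain ⟨V, v, a, sqV, hv⟩ := repWith_exists hg ξ
    haveI : Etale v.left := hv
    exact Sep.repWith_diagonal_of_eq (sq.isoIsPullback _ _ sqV) (Iso.refl _) (by simp)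
      ((AlgSp.repWith_diagonal_yon_map_iff @IsOpenImmersion v).2 inferInstance)

/-- If the diagonal is an open immersion, charts are unramified. -/
theorem formallyUnramified_of_openImmersion_diagonal {X Y : Sp S} {f : X ⟶ Y} {U V : Over S}
    {a : (yon S).obj U ⟶ X} {b : (yon S).obj V ⟶ Y} {k : U ⟶ V} (ha : RepWith @Etale a)
    (w : a ≫ f = (yon S).map k ≫ b) (h : RepWith @IsOpenImmersion (pullback.diagonal f)) :
    FormallyUnramified k.left := by
  have h1 := Proper.repWith_diagonal_comp @IsOpenImmersion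
    (repWith_openImmersion_diagonal_of_etale (IsAlgSpace.yon_obj U).diag ha) h
  replace h1 : RepWith @IsOpenImmersion (pullback.diagonal ((yon S).map k ≫ b)) :=
    Sep.repWith_diagonal_of_eq (Iso.refl _) (Iso.refl _) (by simp [w]) h1
  let m : pullback ((yon S).map k) ((yon S).map k) ⟶
      pullback ((yon S).map k ≫ b) ((yon S).map k ≫ b) :=
    pullback.map _ _ _ _ (𝟙 _) (𝟙 _) b (by simp) (by simp)
  have hm : Mono m := by
    refine ⟨fun c c' e ↦ pullback.hom_ext ?_ ?_⟩
    · simpa [m, pullback.map] using congr($e ≫ pullback.fst _ _)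
    · simpa [m, pullback.map] using congr($e ≫ pullback.snd _ _)
  have sq : IsPullback (𝟙 _) (pullback.diagonal ((yon S).map k))
      (pullback.diagonal ((yon S).map k ≫ b)) m := by
    have e : pullback.diagonal ((yon S).map k) ≫ m = pullback.diagonal ((yon S).map k ≫ b) := by
      apply pullback.hom_ext <;> simp [m, pullback.map]
    refine isPullback_of_yon (by rw [Category.id_comp, e]) (fun T c c' h _ ↦ by simpa using h)
      fun T c d hcd ↦ ⟨c, by simp, ?_⟩
    rw [← cancel_mono m, Category.assoc, e, hcd]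
  have h2 : IsOpenImmersion (pullback.diagonal k.left) :=
    (AlgSp.repWith_diagonal_yon_map_iff @IsOpenImmersion k).1 (repWith_baseChange sq h1)
  infer_instance

/-- The diagonal of an unramified morphism is an open immersion. -/
theorem repWith_openImmersion_diagonal {X Y : Sp S} (hX : IsAlgSpace X) (hY : IsAlgSpace Y)
    {f : X ⟶ Y}
    (hf : LocP ((@LocallyOfFiniteType : MorphismProperty Scheme.{u}) ⊓ @FormallyUnramified) f) :
    RepWith @IsOpenImmersion (pullback.diagonal f) := by
  haveI := isLocalAtTarget_fppf_isOpenImmersion.{u}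
  obtain ⟨U, a, ha, has⟩ := hX.atlas
  obtain ⟨hmap, hmaps⟩ := etale_map_pullback (f := f) ha has
  obtain ⟨d1, -, d3, -, -⟩ := Sep.diagonal_props f hX
  haveI := isLocallySurjective_of_etale hmap hmaps
  obtain ⟨R, p, q, sqR⟩ := exists_isPullback_yon hX.diag a a
  have hW := isAlgSpace_of_isPullback (IsPullback.of_hasPullback (a ≫ f) (a ≫ f)) hY.diag
    (IsAlgSpace.yon_obj U) (IsAlgSpace.yon_obj U)
  let m := pullback.map (a ≫ f) (a ≫ f) f f a a (𝟙 Y) (by simp) (by simp)
  let d : (yon S).obj R ⟶ pullback (a ≫ f) (a ≫ f) :=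
    pullback.lift ((yon S).map p) ((yon S).map q) (by rw [← Category.assoc, sqR.w, Category.assoc])
  have sq : IsPullback ((yon S).map p ≫ a) d (pullback.diagonal f) m := by
    refine isPullback_of_yon ?_ (fun T c c' _ h ↦ ?_) fun T c e h ↦ ?_
    · apply pullback.hom_ext <;> simp [m, d, pullback.map, sqR.w]
    · refine sqR.hom_ext ?_ ?_
      · simpa [d] using congr($h ≫ pullback.fst _ _)
      · simpa [d] using congr($h ≫ pullback.snd _ _)
    · have h1 := congr($h ≫ pullback.fst f f)
      have h2 := congr($h ≫ pullback.snd f f)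
      simp only [Category.assoc, pullback.diagonal_fst, pullback.diagonal_snd, Category.comp_id, m,
        pullback.map, pullback.lift_fst, pullback.lift_snd] at h1 h2
      refine ⟨sqR.lift (e ≫ pullback.fst _ _) (e ≫ pullback.snd _ _)
        (by rw [Category.assoc, Category.assoc, ← h1, ← h2]), ?_, pullback.hom_ext ?_ ?_⟩
      · rw [← Category.assoc, sqR.lift_fst, Category.assoc]; exact h1.symm
      · simp [d]
      · simp [d]
  refine repWith_of_isLocallySurjective d1 m sq _ ?_
  have hd3 : RepWith (MorphismProperty.monomorphisms Scheme.{u}) d := repWith_baseChange sq d3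
  refine repWith_of_exists fun T ξ ↦ ⟨_, hd3.rep.snd ξ, hd3.rep.fst ξ, hd3.rep.isPullback ξ, ?_⟩
  haveI : Mono (hd3.rep.snd ξ).left := hd3.property_snd ξ
  suffices Etale (hd3.rep.snd ξ).left from IsOpenImmersion.of_flat_of_mono _
  haveI : MorphismProperty.IsStableUnderComposition (@Etale : MorphismProperty Scheme.{u}) :=
    ⟨fun f g (_ : Etale f) (_ : Etale g) ↦ inferInstanceAs (Etale (f ≫ g))⟩
  have hun : LocP ((@LocallyOfFiniteType : MorphismProperty Scheme.{u}) ⊓ @FormallyUnramified)
      (pullback.fst (a ≫ f) (a ≫ f)) := by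
    refine LocP.locP_of_isPullback LocP.unramified (IsAlgSpace.yon_obj U) hY (IsAlgSpace.yon_obj U)
      (IsPullback.of_hasPullback (a ≫ f) (a ≫ f)).flip ?_
    exact LocP.locP_comp LocP.unramified (IsAlgSpace.yon_obj U) hX hY
      (LocP.locP_of_repWith LocP.unramified
        (repWith_mono ha fun _ _ g (_ : Etale g) ↦ ⟨inferInstance, inferInstance⟩)) hf
  obtain ⟨W, w, hw, hws⟩ := hW.atlas
  obtain ⟨W', r, s, sqW⟩ := exists_isPullback_yon hW.diag w ξ
  have hse : Etale s.left := repWith_property hw sqW
  have hss : Surjective s.left := repWith_property hws sqW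
  haveI := Groth.Agent.Lib.AlgSpace.isLocalAtTarget_fppf_etale.{u}
  refine of_fppfCover @Etale (fppfCover_mk s.left) ?_
  obtain ⟨Q, x, y, sqQ⟩ := exists_isPullback_yon hW.diag d w
  obtain ⟨wk, hwk⟩ := (yon S).map_surjective (w ≫ pullback.fst (a ≫ f) (a ≫ f))
  have hu := hun w (𝟙 _) wk hw (AlgSp.repWith_id _ _) (by rw [Category.comp_id, hwk])
  haveI : LocallyOfFiniteType wk.left := hu.1
  haveI : FormallyUnramified wk.left := hu.2
  have hx : Etale x.left := repWith_property hw sqQ.flip
  have hp : Etale p.left := repWith_property ha sqR.flip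
  have hyk : y ≫ wk = x ≫ p := (yon S).map_injective (by
    rw [Functor.map_comp, hwk, ← Category.assoc, ← sqQ.w, Category.assoc, Functor.map_comp]
    simp [d])
  have hy : Etale y.left := etale_of_comp y.left wk.left (by
    rw [← Over.comp_left, hyk]; exact inferInstanceAs (Etale (x.left ≫ p.left)))
  have sqy : IsPullback ((yon S).map x) ((yon S).map y) d w := sqQ
  obtain ⟨N, n₁, n₂, sqN⟩ := exists_isPullback_yon (IsAlgSpace.yon_obj W).diag ((yon S).map y)
    ((yon S).map r)
  have hn : Etale n₂.left :=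
    MorphismProperty.of_isPullback (P := @Etale)
      ((isPullback_of_yon_map sqN).map (Over.forget S)) hy
  have big := sqN.paste_horiz sqy
  rw [sqW.w] at big
  have sqP := (hd3.rep.isPullback ξ)
  obtain ⟨l, hl⟩ := (yon S).map_surjective (sqP.lift _ ((yon S).map n₂ ≫ (yon S).map s)
    (big.w.trans (Category.assoc _ _ _).symm))
  have sql : IsPullback ((yon S).map l) ((yon S).map n₂) ((yon S).map (hd3.rep.snd ξ))
      ((yon S).map s) :=
    IsPullback.of_right (by rw [hl, sqP.lift_fst]; exact big) (by rw [hl, sqP.lift_snd]) sqP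
  rw [← (IsPullback.of_hasPullback (hd3.rep.snd ξ).left s.left).isoIsPullback_hom_snd _ _
    ((isPullback_of_yon_map sql).map (Over.forget S))]
  exact (MorphismProperty.cancel_left_of_respectsIso @Etale _ _).2 hn

/-- An etale monomorphism of algebraic spaces is an open immersion. -/
theorem repWith_openImmersion_of_mono {X Y : Sp S} (hY : Representable (Limits.diag Y))
    {f : X ⟶ Y} [Mono f] {U : Over S} {a : (yon S).obj U ⟶ X} (ha : RepWith @Etale a)
    (has : RepWith @Surjective a) (haf : RepWith @Etale (a ≫ f)) :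
    RepWith @IsOpenImmersion f := by
  refine repWith_of_exists fun T ξ ↦ ?_
  have sqP := IsPullback.of_hasPullback f ξ
  haveI : Mono (pullback.snd f ξ) := inferInstance
  obtain ⟨V', v, c, sqV, hv⟩ := repWith_exists haf ξ
  haveI : Etale v.left := hv
  let l : (yon S).obj V' ⟶ pullback f ξ := pullback.lift (c ≫ a) ((yon S).map v)
    (by rw [Category.assoc]; exact sqV.w)
  have sql : IsPullback c l a (pullback.fst f ξ) :=
    IsPullback.of_bot (by simpa [l] using sqV) (by simp [l]) sqP
  haveI := isLocallySurjective_of_etale (repWith_baseChange sql ha) (repWith_baseChange sql has)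
  let O : T.left.Opens := ⟨Set.range v.left, v.left.isOpenMap.isOpen_range⟩
  let v₀ : V' ⟶ Topo.opensOver O :=
    Over.homMk (IsOpenImmersion.lift O.ι v.left (by rw [Scheme.Opens.range_ι]; exact subset_rfl)) (by
      show _ ≫ O.ι ≫ T.hom = V'.hom
      rw [IsOpenImmersion.lift_fac_assoc, Over.w])
  have hv₀ : v₀ ≫ Topo.opensOverι O = v := Over.OverMorphism.ext (IsOpenImmersion.lift_fac _ _ _)
  have hv₀' : v₀.left ≫ O.ι = v.left := IsOpenImmersion.lift_fac _ _ _
  haveI : Etale v₀.left := etale_of_comp v₀.left O.ι (by rw [hv₀']; exact hv)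
  haveI : Surjective v₀.left := ⟨fun o ↦ by
    obtain ⟨z, hz⟩ : o.1 ∈ Set.range v.left := o.2
    refine ⟨z, O.ι.isOpenEmbedding.injective ?_⟩
    rw [← Scheme.Hom.comp_apply, hv₀']
    exact hz⟩
  haveI := isLocallySurjective_yon_map v₀ (fppfCover_mk v₀.left)
  haveI : Mono (Topo.opensOverι O).left := inferInstanceAs (Mono O.ι)
  haveI : Mono (Topo.opensOverι O) :=
    (Over.forget S).mono_of_mono_map (inferInstanceAs (Mono (Topo.opensOverι O).left))
  obtain ⟨α, hα⟩ := exists_desc l (IsPullback.of_hasPullback l l) ((yon S).map v₀) (by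
    rw [← cancel_mono ((yon S).map (Topo.opensOverι O)), Category.assoc, Category.assoc,
      ← Functor.map_comp, hv₀, show (yon S).map v = l ≫ pullback.snd f ξ by simp [l],
      ← Category.assoc, ← Category.assoc, pullback.condition])
  obtain ⟨β, hβ⟩ := exists_desc ((yon S).map v₀)
    (IsPullback.of_hasPullback ((yon S).map v₀) ((yon S).map v₀)) l (by
    rw [← cancel_mono (pullback.snd f ξ), Category.assoc, Category.assoc,
      show l ≫ pullback.snd f ξ = (yon S).map v by simp [l], ← hv₀, Functor.map_comp,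
      ← Category.assoc, ← Category.assoc, pullback.condition])
  let e : (yon S).obj (Topo.opensOver O) ≅ pullback f ξ :=
    ⟨β, α, by rw [← cancel_epi ((yon S).map v₀), reassoc_of% hβ, hα, Category.comp_id],
      by rw [← cancel_epi l, reassoc_of% hα, hβ, Category.comp_id]⟩
  have he : β ≫ pullback.snd f ξ = (yon S).map (Topo.opensOverι O) := by
    rw [← cancel_epi ((yon S).map v₀), reassoc_of% hβ, ← Functor.map_comp, hv₀]
    simp [l]
  refine ⟨Topo.opensOver O, Topo.opensOverι O, β ≫ pullback.fst f ξ,
    IsPullback.of_iso sqP e.symm (Iso.refl _) (Iso.refl _) (Iso.refl _) ?_ ?_ (by simp) (by simp),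
    inferInstanceAs (IsOpenImmersion O.ι)⟩
  · simp only [Iso.refl_hom, Category.comp_id, Iso.symm_hom]
    exact (e.inv_hom_id_assoc _).symm
  · simp only [Iso.refl_hom, Category.comp_id, Iso.symm_hom]
    rw [← he]
    exact (e.inv_hom_id_assoc _).symm

end Groth.Agent.Lib.AlgSpMor.EtaleMono
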