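import Mathlib.AlgebraicGeometry.Morphisms.UniversallyClosed
import Groth.Agent.Lib.AlgSpMor.QC
import Groth.Agent.Lib.AlgSpMor.Proper

/-! # Universally closed morphisms of algebraic spaces are quasi-compact -/

universe u

open CategoryTheory CategoryTheory.Limits AlgebraicGeometry Topology
open Groth.Agent.Lib.AlgSpace

namespace Groth.Agent.Lib.AlgSpMor.UnivClosedQC

open AlgSp (Sp yon Representable RepWith IsAlgSpace IsUnivClosedMor IsQuasiCompactMor)
open AlgSp

variable {S : Scheme.{u}}

open MvPolynomial in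
/-- An algebraic space universally closed over a field is quasi-compact. -/
theorem compactSpace_of_field {P : Sp S} (hP : IsAlgSpace P) {K : Type u} [Field K]
    {str : Spec (CommRingCat.of K) ⟶ S} {f : P ⟶ (yon S).obj (Over.mk str)}
    (hf : IsUnivClosedMor f) : CompactSpace (Points P) := by
  classical
  obtain ⟨U, a, ha, has⟩ := hP.atlas
  let I : Type u := ↥U.left.affineOpens
  let V (i : I) : Set (Points P) := Points.ofPt a '' ((i.1 : U.left.Opens) : Set ↥U.left)
  have hVo : ∀ i, IsOpen (V i) := fun i ↦ isOpenMap_ofPt ha _ i.1.2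
  have hVc : ∀ i, IsCompact (V i) := fun i ↦
    (IsAffineOpen.isCompact i.2).image (Points.continuous_ofPt a)
  have hVcov : ∀ x, ∃ i, x ∈ V i := by
    intro x
    obtain ⟨v, rfl⟩ := surjective_ofPt has x
    obtain ⟨O, hO, hv, -⟩ := exists_isAffineOpen_mem_and_subset (U := ⊤) (Set.mem_univ v)
    exact ⟨⟨O, hO⟩, v, hv, rfl⟩
  let T : Scheme.{u} := Spec (CommRingCat.of <| MvPolynomial I K)
  let q : T ⟶ Spec (CommRingCat.of K) := Spec.map (CommRingCat.ofHom MvPolynomial.C)
  let TO : Over S := Over.mk (q ≫ str)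
  let qO : TO ⟶ Over.mk str := Over.homMk q rfl
  have sq := IsPullback.of_hasPullback f ((yon S).map qO)
  let fT : Points (pullback f ((yon S).map qO)) → T := fun z ↦
    (Points.schemeHomeo TO).symm (Points.map (pullback.snd f ((yon S).map qO)) z)
  have hfTc : Continuous fT :=
    (Points.schemeHomeo TO).symm.continuous.comp (Points.continuous_map _)
  have hfT : IsClosedMap fT := (Points.schemeHomeo TO).symm.isClosedMap.comp
    (hf (IsAlgSpace.yon_obj TO) ((yon S).map qO) _ _ sq)
  let p : Points (pullback f ((yon S).map qO)) → Points P :=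
    Points.map (pullback.fst f ((yon S).map qO))
  let Ti (i : I) : T.Opens := PrimeSpectrum.basicOpen (MvPolynomial.X i)
  let Z : Set (Points (pullback f ((yon S).map qO))) :=
    (⋃ i, fT ⁻¹' (Ti i : Set T) ∩ p ⁻¹' V i)ᶜ
  have hZ : IsClosed Z := (isOpen_iUnion fun i ↦
    ((Ti i).2.preimage hfTc).inter ((hVo i).preimage (Points.continuous_map _))).isClosed_compl
  let Zc : T.Opens := ⟨(fT '' Z)ᶜ, (hfT _ hZ).isOpen_compl⟩
  let ψ : MvPolynomial I K →ₐ[K] K := MvPolynomial.aeval (fun _ ↦ 1)
  let t : T := Spec.map (CommRingCat.ofHom ψ.toRingHom) default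
  have ht (i : I) : t ∈ Ti i := show ψ (.X i) ≠ 0 by simp [ψ]
  have htZc : t ∈ Zc := by
    intro ⟨z, hz, hzt⟩
    obtain ⟨i, hi⟩ := hVcov (p z)
    exact hz (Set.mem_iUnion.2 ⟨i, by rw [Set.mem_preimage, hzt]; exact ht i, hi⟩)
  obtain ⟨U', ⟨g, rfl⟩, htU', hU'le⟩ :=
    TopologicalSpace.Opens.isBasis_iff_nbhd.mp PrimeSpectrum.isBasis_basic_opens htZc
  let σ : Finset I := MvPolynomial.vars g
  let φ : MvPolynomial I K →+* MvPolynomial I K :=
    (MvPolynomial.aeval fun i : I ↦ if i ∈ σ then MvPolynomial.X i else 0).toRingHom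
  let t' : T := Spec.map (CommRingCat.ofHom φ) t
  have ht'g : t' ∈ PrimeSpectrum.basicOpen g :=
    show φ g ∉ t.asIdeal from (show φ g = g from aeval_ite_mem_eq_self g subset_rfl).symm ▸ htU'
  have h : t' ∉ fT '' Z := hU'le ht'g
  suffices ⋃ i ∈ σ, V i = Set.univ from ⟨this ▸ Finset.isCompact_biUnion _ fun i _ ↦ hVc i⟩
  rw [Set.iUnion₂_eq_univ_iff]
  contrapose! h
  obtain ⟨x, hx⟩ := h
  haveI : Subsingleton (Points ((yon S).obj (Over.mk str))) :=
    haveI : Subsingleton ↥(Over.mk str).left :=
      inferInstanceAs (Subsingleton ↥(Spec (CommRingCat.of K)))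
    (Points.schemeHomeo (Over.mk str)).toEquiv.symm.subsingleton
  obtain ⟨z, rfl, hzr⟩ := exists_of_isPullback sq x (Points.ofScheme TO t') (Subsingleton.elim _ _)
  have hzt : fT z = t' := by
    simp only [fT, hzr]
    exact (Points.schemeHomeo TO).symm_apply_apply t'
  refine ⟨z, ?_, hzt⟩
  simp only [Z, Set.mem_compl_iff, Set.mem_iUnion, not_exists]
  rintro i ⟨hi₁, hi₂⟩
  rw [Set.mem_preimage, hzt] at hi₁
  have hi₁' : t ∈ PrimeSpectrum.basicOpen (φ (MvPolynomial.X i)) := hi₁
  rw [show φ (.X i) = 0 by simpa [φ] using (hx i · hi₂), PrimeSpectrum.basicOpen_zero] at hi₁'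
  cases hi₁'

/-- A universally closed morphism of algebraic spaces is quasi-compact. -/
theorem isQuasiCompactMor {X Y : Sp S} (hX : IsAlgSpace X) (hY : IsAlgSpace Y) {f : X ⟶ Y}
    (hf : IsUnivClosedMor f) : IsQuasiCompactMor f := by
  refine QC.isQuasiCompactMor_of_affine hX hY.diag fun Z hZ g P fst snd sq ↦ ?_
  haveI := hZ
  have hsnd : IsUnivClosedMor snd := Proper.univSp_baseChange sq hf
  have hP := isAlgSpace_of_isPullback sq hY.diag hX (IsAlgSpace.yon_obj Z)
  haveI : CompactSpace (Points ((yon S).obj Z)) := QC.compactSpace_yon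
  have hprop : IsProperMap (Points.map snd) := by
    rw [isProperMap_iff_isClosedMap_and_compact_fibers]
    refine ⟨Points.continuous_map _,
      Proper.isClosedMap_of_isUnivClosedMor (IsAlgSpace.yon_obj Z) hsnd, fun y ↦ ?_⟩
    obtain ⟨z, rfl⟩ := (Points.schemeHomeo Z).surjective y
    let i : Over.mk (Z.left.fromSpecResidueField z ≫ Z.hom) ⟶ Z :=
      Over.homMk (Z.left.fromSpecResidueField z) rfl
    have sq' := IsPullback.of_hasPullback snd ((yon S).map i)
    haveI := compactSpace_of_field
      (isAlgSpace_of_isPullback sq' (IsAlgSpace.yon_obj Z).diag hP (IsAlgSpace.yon_obj _))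
      (Proper.univSp_baseChange sq' hsnd)
    have e : Points.map snd ⁻¹' {Points.schemeHomeo Z z} =
        Set.range (Points.map (pullback.fst snd ((yon S).map i))) := by
      ext x
      constructor
      · intro hx
        obtain ⟨w, hw, -⟩ := exists_of_isPullback sq' x
          (Points.ofScheme _ (default : ↥(Spec (Z.left.residueField z)))) (by
            rw [Set.mem_preimage, Set.mem_singleton_iff] at hx
            rw [hx, ← Points.ofPt_eq_map_ofScheme, ← Category.comp_id ((yon S).map i),
              ofPt_yon_map_comp]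
            show Points.schemeHomeo Z z = Points.ofPt (𝟙 _)
              (Z.left.fromSpecResidueField z default)
            rw [Scheme.fromSpecResidueField_apply]
            exact rfl)
        exact ⟨w, hw⟩
      · rintro ⟨w, rfl⟩
        rw [Set.mem_preimage, Set.mem_singleton_iff, ← Points.map_comp, pullback.condition,
          Points.map_comp, Points.map_yon_map_eq, Function.comp_apply]
        exact congrArg _ (Scheme.fromSpecResidueField_apply _ _)
    rw [e]
    exact isCompact_range (Points.continuous_map _)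
  exact ⟨hprop.isCompact_preimage isCompact_univ⟩

end Groth.Agent.Lib.AlgSpMor.UnivClosedQC
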