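import Groth.Agent.Lib.AlgSpMor.Sep

/-! # Universally injective morphisms of algebraic spaces -/

universe u

open CategoryTheory CategoryTheory.Limits AlgebraicGeometry
open Groth.Agent.Lib.AlgSpace

namespace Groth.Agent.Lib.AlgSpMor.UnivInj

attribute [local simp] pullback.lift_fst pullback.lift_snd

open AlgSp (Sp yon Representable RepWith IsAlgSpace IsUnivInjectiveMor)
open AlgSp

variable {S : Scheme.{u}}

theorem surjective_diagonal_of_field_injective {X Y : Sp S} {f : X ⟶ Y}
    (h : ∀ (K : Type u) [Field K] (str : Spec (CommRingCat.of K) ⟶ S),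
      Function.Injective (fun a : (yon S).obj (Over.mk str) ⟶ X ↦ a ≫ f)) :
    Function.Surjective (Points.map (pullback.diagonal f)) := by
  intro r
  induction r using Points.ind with
  | h p =>
    obtain ⟨K, str, v⟩ := p
    let ρ := fieldPtHom (⟨K, str, v⟩ : FieldPt (pullback f f))
    have e : ρ ≫ pullback.fst f f = ρ ≫ pullback.snd f f :=
      h K str (show (ρ ≫ pullback.fst f f) ≫ f = (ρ ≫ pullback.snd f f) ≫ f by
        rw [Category.assoc, Category.assoc, pullback.condition])
    refine ⟨Points.ofPt (ρ ≫ pullback.fst f f) (IsLocalRing.closedPoint K), ?_⟩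
    have e' : ρ = (ρ ≫ pullback.fst f f) ≫ pullback.diagonal f := by
      apply pullback.hom_ext <;> simp [e]
    rw [Points.map_ofPt, ← e']
    exact ofPt_fieldPtHom _ _

theorem injective_of_surjective_diagonal {P Z : Sp S} {p : P ⟶ Z}
    (h : Function.Surjective (Points.map (pullback.diagonal p))) :
    Function.Injective (Points.map p) := by
  intro x y e
  obtain ⟨r, rfl, rfl⟩ := exists_of_isPullback (IsPullback.of_hasPullback p p) x y e
  obtain ⟨q, rfl⟩ := h r
  rw [← Points.map_comp, ← Points.map_comp, pullback.diagonal_fst, pullback.diagonal_snd]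

theorem isUnivInjectiveMor_of_surjective_diagonal {X Y : Sp S} {f : X ⟶ Y}
    (h : Function.Surjective (Points.map (pullback.diagonal f))) : IsUnivInjectiveMor f := by
  intro Z P _ g fst snd sq
  refine injective_of_surjective_diagonal fun r ↦ ?_
  have sq' := Sep.isPullback_diagonal_map sq
  obtain ⟨x, hx⟩ := h (Points.map _ r)
  obtain ⟨z, -, hz⟩ := exists_of_isPullback sq' x r hx
  exact ⟨z, hz⟩

theorem surjective_diagonal_of_isUnivInjectiveMor {X Y : Sp S} {f : X ⟶ Y}
    (h : IsUnivInjectiveMor f) : Function.Surjective (Points.map (pullback.diagonal f)) := by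
  intro r
  obtain ⟨T, ρ, t, rfl⟩ := exists_ofPt_eq r
  have sq := IsPullback.of_hasPullback f (ρ ≫ pullback.fst f f ≫ f)
  let a' := sq.lift (ρ ≫ pullback.fst f f) (𝟙 _) (by simp)
  let b' := sq.lift (ρ ≫ pullback.snd f f) (𝟙 _) (by simp [pullback.condition])
  have hinj := h (IsAlgSpace.yon_obj T) _ _ _ sq
  have e : Points.ofPt a' t = Points.ofPt b' t := hinj (by
    rw [Points.map_ofPt, Points.map_ofPt, sq.lift_snd, sq.lift_snd])
  obtain ⟨W, p, q, w, hp, hq, e'⟩ := (ofPt_eq_ofPt_iff _ _ _ _).1 e
  have hpq : p = q := (yon S).map_injective (by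
    have := congrArg (· ≫ pullback.snd f (ρ ≫ pullback.fst f f ≫ f)) e'
    simpa [a', b', sq.lift_snd] using this)
  subst hpq
  have e1 : (yon S).map p ≫ ρ ≫ pullback.fst f f = (yon S).map p ≫ ρ ≫ pullback.snd f f := by
    have := congrArg (· ≫ pullback.fst f (ρ ≫ pullback.fst f f ≫ f)) e'
    simpa [a', b', sq.lift_fst] using this
  refine ⟨Points.ofPt ((yon S).map p ≫ ρ ≫ pullback.fst f f) w, ?_⟩
  rw [Points.map_ofPt, ← hp, ← ofPt_yon_map_comp]
  congr 1
  apply pullback.hom_ext
  · simp
  · simpa using e1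

theorem field_injective_of_surjective_diagonal {X Y : Sp S} {f : X ⟶ Y} (hX : IsAlgSpace X)
    (h : Function.Surjective (Points.map (pullback.diagonal f))) (K : Type u) [Field K]
    (str : Spec (CommRingCat.of K) ⟶ S) :
    Function.Injective (fun a : (yon S).obj (Over.mk str) ⟶ X ↦ a ≫ f) := by
  intro a b (w : a ≫ f = b ≫ f)
  obtain ⟨d1, -, d3, -, -⟩ := Sep.diagonal_props f hX
  let ρ := pullback.lift a b w
  obtain ⟨V, v, c, sq, hv⟩ := repWith_exists d3 ρ
  haveI : Mono v.left := hv
  haveI : Surjective v.left := ⟨fun t ↦ by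
    obtain ⟨x, hx⟩ := h (Points.ofPt ρ t)
    obtain ⟨z, -, hz⟩ := exists_of_isPullback sq x (Points.ofScheme _ t)
      (by rw [hx]; exact Points.ofPt_eq_map_ofScheme ρ t)
    rw [Points.map_yon_map_eq] at hz
    exact ⟨(Points.schemeHomeo V).symm z, (Points.schemeHomeo (Over.mk str)).injective hz⟩⟩
  have key : ∀ {A : Scheme.{u}} (m : A ⟶ Spec (CommRingCat.of K)) [Mono m] [Surjective m],
      IsIso m := by
    intro A m _ _
    haveI : Subsingleton ↥A := m.injective.subsingleton
    haveI : CompactSpace ↥A := Finite.compactSpace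
    haveI : QuasiCompact m := (quasiCompact_iff_compactSpace _).mpr inferInstance
    haveI : Flat m := inferInstance
    haveI : IsIso (pullback.fst m m) := inferInstance
    exact MorphismProperty.of_pullback_fst_of_descendsAlong
      (P := MorphismProperty.isomorphisms Scheme.{u}) (Q := @Surjective ⊓ @Flat ⊓ @QuasiCompact)
      ⟨⟨inferInstance, inferInstance⟩, inferInstance⟩
      (show IsIso (pullback.fst m m) from inferInstance)
  haveI : IsIso v.left := key v.left
  haveI : IsIso ((Over.forget S).map v) := ‹IsIso v.left›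
  haveI : IsIso v := isIso_of_reflects_iso v (Over.forget S)
  have e : ((yon S).map (inv v) ≫ c) ≫ pullback.diagonal f = ρ := by
    rw [Category.assoc, sq.w, ← Category.assoc, ← Functor.map_comp, IsIso.inv_hom_id,
      CategoryTheory.Functor.map_id, Category.id_comp]
  have e1 := congr($e ≫ pullback.fst f f)
  have e2 := congr($e ≫ pullback.snd f f)
  simp only [Category.assoc, pullback.diagonal_fst, pullback.diagonal_snd, Category.comp_id, ρ,
    pullback.lift_fst, pullback.lift_snd] at e1 e2
  exact e1.symm.trans e2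

end Groth.Agent.Lib.AlgSpMor.UnivInj
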