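import Groth.Agent.Lib.AlgSpMor.RepBySp
import Groth.Agent.Lib.AlgSpMor.UnivInj
import Groth.Agent.Lib.AlgSpMor.EtaleMono
import Groth.Agent.Lib.AlgSpMor.Proper
import Groth.Agent.Lib.AlgSpMor.UnivClosedQC
import Groth.Agent.Lib.AlgSpMor.AffineDescent
import Groth.Agent.Lib.AlgSpMor.DiscreteFibres
import Mathlib.AlgebraicGeometry.ZariskisMainTheorem

/-!
# Monomorphisms locally of finite type; characterisations of closed immersions and finite morphisms
-/

set_option autoImplicit false
set_option linter.style.haveILetI false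

universe u

open CategoryTheory CategoryTheory.Limits AlgebraicGeometry Opposite
open Groth.Agent.Lib.AlgSpace

namespace Groth.Agent.Lib.AlgSpMor.MonoLft

open AlgSp (Sp yon Representable RepWith IsAlgSpace LocP)

variable {S : Scheme.{u}} {X Y : Sp S} {f : X ⟶ Y}

attribute [local simp] pullback.lift_fst pullback.lift_snd

theorem formallyUnramified_of_mono {A B : Scheme.{u}} (g : A ⟶ B) [Mono g] :
    FormallyUnramified g :=
  inferInstance

theorem unramified_of_mono (hX : IsAlgSpace X) (hY : IsAlgSpace Y) [Mono f]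
    (h : LocP @LocallyOfFiniteType f) :
    LocP (@LocallyOfFiniteType ⊓ @FormallyUnramified) f := by
  have hr := RepBySp.repWith_sepLqf_of_mono hX hY h
  refine LocP.locP_of_repWith LocP.unramified ⟨hr.1, fun T V ξ fst v sq => ?_⟩
  haveI : Mono ((yon S).map v) := sq.mono_snd_of_mono inferInstance
  haveI : Mono v := (yon S).mono_of_mono_map inferInstance
  haveI : Mono v.left := inferInstance
  exact ⟨(repWith_property hr sq).2, formallyUnramified_of_mono v.left⟩

theorem isUnivInjectiveMor_of_mono [Mono f] : AlgSp.IsUnivInjectiveMor f :=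
  UnivInj.isUnivInjectiveMor_of_surjective_diagonal fun r =>
    ⟨AlgSp.Points.map (pullback.fst f f) r, by
      rw [← AlgSp.Points.map_comp]
      have : pullback.fst f f ≫ pullback.diagonal f = 𝟙 _ := by
        apply pullback.hom_ext
        · simp
        · rw [← cancel_mono f]
          simp [pullback.condition]
      rw [this, AlgSp.Points.map_id]⟩

theorem mono_of_unramified_univInj (hX : IsAlgSpace X) (hY : IsAlgSpace Y)
    (hu : LocP (@LocallyOfFiniteType ⊓ @FormallyUnramified) f) (hi : AlgSp.IsUnivInjectiveMor f) :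
    Mono f := by
  have hd := EtaleMono.repWith_openImmersion_diagonal hX hY hu
  have hs := UnivInj.surjective_diagonal_of_isUnivInjectiveMor hi
  refine mono_of_yon f fun T a b (w : a ≫ f = b ≫ f) => ?_
  let ρ := pullback.lift a b w
  obtain ⟨V, v, c, sq, hv⟩ := repWith_exists hd ρ
  haveI : IsOpenImmersion v.left := hv
  haveI : Surjective v.left := ⟨fun t ↦ by
    obtain ⟨x, hx⟩ := hs (AlgSp.Points.ofPt ρ t)
    obtain ⟨z, -, hz⟩ := exists_of_isPullback sq x (AlgSp.Points.ofScheme _ t)
      (by rw [hx]; exact AlgSp.Points.ofPt_eq_map_ofScheme ρ t)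
    rw [AlgSp.Points.map_yon_map_eq] at hz
    exact ⟨(AlgSp.Points.schemeHomeo V).symm z, (AlgSp.Points.schemeHomeo T).injective hz⟩⟩
  haveI : IsIso v.left :=
    (isIso_iff_isOpenImmersion_and_surjective _).mpr ⟨inferInstance, inferInstance⟩
  haveI : IsIso ((Over.forget S).map v) := ‹IsIso v.left›
  haveI : IsIso v := isIso_of_reflects_iso v (Over.forget S)
  have hρ : ρ = (inv ((yon S).map v) ≫ c) ≫ pullback.diagonal f := by
    rw [Category.assoc, sq.w, IsIso.inv_hom_id_assoc]
  have h1 : ρ ≫ pullback.fst f f = a := pullback.lift_fst _ _ _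
  have h2 : ρ ≫ pullback.snd f f = b := pullback.lift_snd _ _ _
  rw [← h1, ← h2, hρ]
  simp

theorem unramified_iff (hX : IsAlgSpace X) (hY : IsAlgSpace Y) :
    LocP (@LocallyOfFiniteType ⊓ @FormallyUnramified) f ↔
      LocP @LocallyOfFiniteType f ∧ AlgSp.IsFormallyUnramifiedMor f := by
  rw [AlgSpFormal.Charts.formallyUnramified_iff hX hY]
  exact ⟨fun h => ⟨fun U V a b g ha hb w => (h a b g ha hb w).1,
    fun U V a b g ha hb w => (h a b g ha hb w).2⟩,
    fun h U V a b g ha hb w => ⟨h.1 a b g ha hb w, h.2 a b g ha hb w⟩⟩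

theorem isClosedImmersion_of_mono (hX : IsAlgSpace X) (hY : IsAlgSpace Y) [Mono f]
    (huc : AlgSp.IsUnivClosedMor f) (h : LocP @LocallyOfFiniteType f) :
    RepWith @IsClosedImmersion f := by
  have hr := RepBySp.repWith_sepLqf_of_mono hX hY h
  have hc := Proper.repWith_universallyClosed_of hr.1 huc
  refine ⟨hr.1, fun T V ξ fst v sq => ?_⟩
  haveI : UniversallyClosed v.left := repWith_property hc sq
  haveI : LocallyOfFiniteType v.left := (repWith_property hr sq).2
  haveI : Mono ((yon S).map v) := sq.mono_snd_of_mono inferInstance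
  haveI : Mono v := (yon S).mono_of_mono_map inferInstance
  haveI : Mono v.left := inferInstance
  haveI : IsProper v.left := {}
  show IsClosedImmersion v.left
  exact (IsClosedImmersion.iff_isProper_and_mono _).2 ⟨inferInstance, inferInstance⟩

theorem props_of_closedImmersion (h : RepWith @IsClosedImmersion f) :
    AlgSp.IsUnivClosedMor f ∧ LocP @LocallyOfFiniteType f ∧ Mono f :=
  ⟨(Proper.isProperMor_of_closedImmersion h).2.2, (Proper.isProperMor_of_closedImmersion h).2.1.1,
    mono_of_repWith (fun _ _ g (_ : IsClosedImmersion g) ↦ (inferInstance : Mono g)) h⟩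

theorem finite_of_univClosed_lqf (hX : IsAlgSpace X) (hY : IsAlgSpace Y)
    (huc : AlgSp.IsUnivClosedMor f) (hsep : AlgSp.IsSeparatedMor f)
    (hq : LocP (@LocallyQuasiFinite ⊓ @LocallyOfFiniteType) f) : AlgSp.IsFiniteMor f := by
  rw [AffineDescent.isFiniteMor_iff]
  have hr := LqfRep.representable hX hY hq hsep
  have hq' := LocP.repWith_of_locP LocP.lqfLft hY hr hq
  have hc := Proper.repWith_universallyClosed_of hr huc
  refine ⟨hr, fun T V ξ fst v sq => ?_⟩
  haveI : LocallyQuasiFinite v.left := (repWith_property hq' sq).1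
  haveI : LocallyOfFiniteType v.left := (repWith_property hq' sq).2
  haveI : UniversallyClosed v.left := repWith_property hc sq
  haveI : IsSeparated v.left :=
    ⟨(AlgSp.repWith_diagonal_yon_map_iff @IsClosedImmersion v).1
      (Sep.repWith_diagonal_baseChange sq hsep)⟩
  haveI : IsProper v.left := {}
  show IsFinite v.left
  exact IsFinite.of_isProper_of_locallyQuasiFinite _

theorem props_of_finite (hY : IsAlgSpace Y) (h : AlgSp.IsFiniteMor f) :
    AlgSp.IsProperMor f ∧ LocP (@LocallyQuasiFinite ⊓ @LocallyOfFiniteType) f := by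
  rw [AffineDescent.isFiniteMor_iff] at h
  have hp : RepWith @IsProper f :=
    repWith_mono h fun _ _ g (_ : IsFinite g) ↦ (inferInstance : IsProper g)
  refine ⟨⟨?_, ⟨?_, ?_⟩, ?_⟩, ?_⟩
  · exact Sep.repWith_diagonal_of_affine (representable_diag_of_representable h.1 hY.diag)
      fun T _ ξ Q fst snd sq ↦ by
        obtain ⟨V, v, a, sqV, hv⟩ := repWith_exists hp ξ
        haveI : IsProper v.left := hv
        exact Sep.repWith_diagonal_of_eq (sq.isoIsPullback _ _ sqV) (Iso.refl _) (by simp)
          ((AlgSp.repWith_diagonal_yon_map_iff @IsClosedImmersion v).2 inferInstance)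
  · exact LocP.locP_of_repWith SourceDescent.Scheme.locallyOfFiniteType
      (repWith_mono h fun _ _ g (_ : IsFinite g) ↦ (inferInstance : LocallyOfFiniteType g))
  · exact QC.isQuasiCompactMor_of_repWith
      (repWith_mono h fun _ _ g (_ : IsFinite g) ↦ (inferInstance : QuasiCompact g))
  · exact Proper.isUnivClosedMor_of_repWith
      (repWith_mono h fun _ _ g (_ : IsFinite g) ↦ (inferInstance : UniversallyClosed g))
  · exact LocP.locP_of_repWith LocP.lqfLft
      (repWith_mono h fun _ _ g (_ : IsFinite g) ↦ ⟨inferInstance, inferInstance⟩)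

end Groth.Agent.Lib.AlgSpMor.MonoLft
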