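import Groth.Agent.Lib.AlgSpMor.Topo

/-! # Universal openness can be tested on an atlas of the source -/

universe u

open CategoryTheory CategoryTheory.Limits AlgebraicGeometry Topology
open Groth.Agent.Lib.AlgSpace

namespace Groth.Agent.Lib.AlgSpMor.UnivOpen

open AlgSp (Sp yon RepWith IsAlgSpace IsUnivOpenMor)
open AlgSp

variable {S : Scheme.{u}}

/-- A morphism is universally open as soon as its composite with some map surjective on points is
representable and universally open. -/
theorem isUnivOpenMor_of_precomp {F G H : Sp S} {f : F ⟶ G} (φ : H ⟶ F)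
    (hφ : Function.Surjective (Points.map φ)) (h : RepWith @UniversallyOpen (φ ≫ f)) :
    IsUnivOpenMor f := by
  intro Z P _ g fst snd sq W hW
  have sq2 := IsPullback.of_hasPullback φ fst
  have ho : IsOpenMap (Points.map (pullback.snd φ fst ≫ snd)) :=
    isOpenMap_map (repWith_baseChange (sq2.paste_vert sq) h)
  have hs : Function.Surjective (Points.map (pullback.snd φ fst)) := fun x ↦ by
    obtain ⟨w, hw⟩ := hφ (Points.map fst x)
    obtain ⟨z, -, hz⟩ := exists_of_isPullback sq2 w x hw
    exact ⟨z, hz⟩
  have : Points.map snd '' W =
      Points.map (pullback.snd φ fst ≫ snd) '' (Points.map (pullback.snd φ fst) ⁻¹' W) := by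
    rw [show Points.map (pullback.snd φ fst ≫ snd) = Points.map snd ∘ Points.map (pullback.snd φ fst)
      from funext fun x ↦ Points.map_comp _ _ x, Set.image_comp, Set.image_preimage_eq W hs]
  rw [this]
  exact ho _ (hW.preimage (Points.continuous_map _))

end Groth.Agent.Lib.AlgSpMor.UnivOpen
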