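import Groth.Agent.Lib.AlgSpMor.LocP
import Groth.Agent.Lib.AlgSpMor.UnivOpen
import Groth.Agent.Lib.AlgSpMor.Proper
import Groth.Prelude.Def_AlgSpGpd
import Mathlib.AlgebraicGeometry.Morphisms.Flat
import Mathlib.AlgebraicGeometry.Morphisms.UniversallyOpen
import Mathlib.CategoryTheory.Monoidal.Cartesian.Grp
import Mathlib.CategoryTheory.Monoidal.Cartesian.Over

/-!
# Morphisms to the spectrum of a field, multiplication of group and groupoid spaces
-/

set_option autoImplicit false
universe u

open CategoryTheory CategoryTheory.Limits AlgebraicGeometry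
open Groth.Agent.Lib.AlgSpace Groth.Agent.Lib.AlgSpMor.LocP
open MonoidalCategory CartesianMonoidalCategory MonObj

namespace Groth.Agent.Lib.AlgSpMor.OverField

open AlgSp (Sp yon Representable RepWith IsAlgSpace LocP IsUnivOpenMor)
open AlgSp

variable {S : Scheme.{u}}

attribute [local simp] pullback.lift_fst pullback.lift_snd

theorem flat_and_univOpen_of_field {F : Sp S} (hF : IsAlgSpace F) {k : Type u} [Field k]
    {σ : Spec (CommRingCat.of k) ⟶ S} (f : F ⟶ (yon S).obj (Over.mk σ)) :
    LocP @Flat f ∧ IsUnivOpenMor f := by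
  obtain ⟨U, a, ha, has⟩ := hF.atlas
  obtain ⟨m, hm⟩ := (yon S).map_surjective (a ≫ f)
  have hsub : Subsingleton ↥(Spec (CommRingCat.of k)) := inferInstanceAs (Subsingleton (PrimeSpectrum k))
  let m' : U.left ⟶ Spec (CommRingCat.of k) := m.left
  have : IsIntegral (Spec (CommRingCat.of k)) := inferInstance
  have hfl : Flat m' := inferInstance
  have hop : UniversallyOpen m' := inferInstance
  refine ⟨?_, UnivOpen.isUnivOpenMor_of_precomp a (surjective_map has)
    (hm ▸ (AlgSp.repWith_yon_map_iff _ m).2 hop)⟩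
  exact locP_of_chart SourceDescent.Scheme.flat hF.diag (IsAlgSpace.yon_obj _).diag ha has
    ((AlgSp.repWith_yon_map_iff _ (𝟙 _)).2 (inferInstanceAs (Etale (𝟙 (Spec (CommRingCat.of k))))))
    (h := m) (by rw [CategoryTheory.Functor.map_id, Category.comp_id, hm]) hfl

/-- A base change of a morphism to the spectrum of a field is flat and universally open. -/
theorem flat_and_univOpen_of_isPullback {F P U Y : Sp S} (hF : IsAlgSpace F) (hY : IsAlgSpace Y)
    {k : Type u} [Field k] {σ : Spec (CommRingCat.of k) ⟶ S}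
    (e : U ≅ (yon S).obj (Over.mk σ)) {f : F ⟶ U} {g : Y ⟶ U} {fst : P ⟶ F} {snd : P ⟶ Y}
    (sq : IsPullback fst snd f g) : LocP @Flat snd ∧ IsUnivOpenMor snd := by
  have sq' : IsPullback fst snd (f ≫ e.hom) (g ≫ e.hom) :=
    IsPullback.of_iso sq (Iso.refl _) (Iso.refl _) (Iso.refl _) e (by simp) (by simp) (by simp) (by simp)
  obtain ⟨h1, h2⟩ := flat_and_univOpen_of_field hF (f ≫ e.hom)
  exact ⟨locP_of_isPullback SourceDescent.Scheme.flat hF (IsAlgSpace.yon_obj _) hY sq' h1,
    Proper.univSp_baseChange sq' h2⟩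

/-- The shear map of a groupoid space. -/
theorem isPullback_c {B : Sp S} (G : GroupoidSp B) :
    IsPullback (pullback.snd G.s G.t) G.c G.s G.s := by
  have hcs : G.c ≫ G.s = pullback.snd G.s G.t ≫ G.s := by
    have h := G.comp_s (pullback.fst G.s G.t) (pullback.snd G.s G.t) pullback.condition
    have e : pullback.lift (pullback.fst G.s G.t) (pullback.snd G.s G.t) pullback.condition =
        𝟙 (pullback G.s G.t) := by
      apply pullback.hom_ext <;> simp
    rwa [e, Category.id_comp] at h
  have hβ : ∀ {T : Sp S} (β : T ⟶ G.R) (α : T ⟶ G.R) (h : α ≫ G.s = β ≫ G.t),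
      pullback.lift (pullback.lift α β h ≫ G.c) (β ≫ G.i)
        (by rw [G.comp_s, Category.assoc, G.i_t]) ≫ G.c = α := by
    intro T β α h
    have h₂ : β ≫ G.s = (β ≫ G.i) ≫ G.t := by rw [Category.assoc, G.i_t]
    rw [G.assoc α β (β ≫ G.i) h h₂]
    have e1 : pullback.lift β (β ≫ G.i) h₂ ≫ G.c = α ≫ G.s ≫ G.e := by
      rw [G.comp_i, reassoc_of% h]
    simp only [e1]
    exact G.comp_e α
  refine isPullback_of_yon hcs.symm (fun T z z' h1 h2 ↦ pullback.hom_ext ?_ h1) fun T β γ w ↦ ?_
  · have ha := hβ (z ≫ pullback.snd _ _) (z ≫ pullback.fst _ _) (by rw [Category.assoc, Category.assoc, pullback.condition])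
    have hb := hβ (z' ≫ pullback.snd _ _) (z' ≫ pullback.fst _ _) (by rw [Category.assoc, Category.assoc, pullback.condition])
    have ez : pullback.lift (z ≫ pullback.fst G.s G.t) (z ≫ pullback.snd G.s G.t)
        (by rw [Category.assoc, Category.assoc, pullback.condition]) = z := by apply pullback.hom_ext <;> simp
    have ez' : pullback.lift (z' ≫ pullback.fst G.s G.t) (z' ≫ pullback.snd G.s G.t)
        (by rw [Category.assoc, Category.assoc, pullback.condition]) = z' := by apply pullback.hom_ext <;> simp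
    simp only [ez, ez'] at ha hb
    rw [← ha, ← hb]
    simp only [h1, h2]
  · have w' : γ ≫ G.s = (β ≫ G.i) ≫ G.t := by rw [Category.assoc, G.i_t]; exact w.symm
    refine ⟨pullback.lift (pullback.lift γ (β ≫ G.i) w' ≫ G.c) β
      (by rw [G.comp_s, Category.assoc, G.i_s]), by simp, ?_⟩
    have h₂ : (β ≫ G.i) ≫ G.s = β ≫ G.t := by rw [Category.assoc, G.i_s]
    rw [G.assoc γ (β ≫ G.i) β w' h₂]
    simp only [show pullback.lift (β ≫ G.i) β h₂ ≫ G.c = γ ≫ G.s ≫ G.e from by
      rw [G.i_comp, ← reassoc_of% w]]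
    exact G.comp_e γ

/-- The shear map of a group space. -/
theorem isPullback_mul {B : Sp S} (G : Over B) [GrpObj G] :
    IsPullback (CartesianMonoidalCategory.snd G G).left (μ[G]).left G.hom G.hom := by
  refine isPullback_of_yon (by rw [Over.w, Over.w]) (fun T z z' h1 h2 ↦ ?_) fun T b c w ↦ ?_
  · have hw : z' ≫ (G ⊗ G).hom = z ≫ (G ⊗ G).hom := by
      rw [← Over.w μ[G], ← Category.assoc, ← h2, Category.assoc]
    let T' : Over B := Over.mk (z ≫ (G ⊗ G).hom)
    let Z : T' ⟶ G ⊗ G := Over.homMk z rfl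
    let Z' : T' ⟶ G ⊗ G := Over.homMk z' hw
    have e1 : Z ≫ CartesianMonoidalCategory.snd G G = Z' ≫ CartesianMonoidalCategory.snd G G :=
      Over.OverMorphism.ext (by simp only [Over.comp_left]; exact h1)
    have e2 : Z ≫ μ[G] = Z' ≫ μ[G] := Over.OverMorphism.ext (by simp only [Over.comp_left]; exact h2)
    have key : ∀ W : T' ⟶ G ⊗ G, W ≫ μ[G] =
        (W ≫ CartesianMonoidalCategory.fst G G) * (W ≫ CartesianMonoidalCategory.snd G G) := fun W ↦ by
      rw [← MonObj.comp_mul, MonObj.mul_eq_mul]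
    have e3 : Z = Z' := by
      apply CartesianMonoidalCategory.hom_ext _ _ ?_ e1
      have := (key Z).symm.trans (e2.trans (key Z'))
      rw [e1] at this
      exact mul_right_cancel this
    exact congr($(e3).left)
  · let T' : Over B := Over.mk (c ≫ G.hom)
    let x : T' ⟶ G := Over.homMk b w
    let y : T' ⟶ G := Over.homMk c rfl
    refine ⟨(CartesianMonoidalCategory.lift (y * x⁻¹) x).left, ?_, ?_⟩
    · rw [← Over.comp_left, CartesianMonoidalCategory.lift_snd]
      rfl
    · rw [← Over.comp_left, MonObj.mul_eq_mul, MonObj.comp_mul, CartesianMonoidalCategory.lift_fst,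
        CartesianMonoidalCategory.lift_snd, inv_mul_cancel_right]
      rfl

end Groth.Agent.Lib.AlgSpMor.OverField
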