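import Groth.Agent.Lib.AlgSpMor.LocP
import Groth.Agent.Lib.AlgSpace.Points
import Groth.Agent.Lib.AlgSpace.Props
import Groth.Agent.Lib.AlgSpDecent.SpecOrder
import Groth.Agent.Lib.EtaPt.FlatComponents
import Mathlib.AlgebraicGeometry.Properties
import Mathlib.AlgebraicGeometry.Morphisms.UniversallyOpen
import Mathlib.AlgebraicGeometry.Morphisms.QuasiFinite

/-!
# Points of codimension zero and locally finitely many irreducible components
-/

set_option autoImplicit false
universe u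

open CategoryTheory CategoryTheory.Limits AlgebraicGeometry TopologicalSpace Topology
open Groth.Agent.Lib.AlgSpace Groth.Agent.Lib.AlgSpMor.LocP
open Groth.Agent.Lib.AlgSpDecent (SpecOrder.cohtPt_eq_zero SpecOrder.exists_component_iff)
open Groth.Agent.Lib.EtaPt (FlatComponents.finite_of_homeomorph FlatComponents.finite_of_open_cover)

namespace Groth.Agent.Lib.AlgSpMor.Codim

open AlgSp (Sp yon Representable RepWith IsAlgSpace LocP HasAt EtaleLocally)
open AlgSp

/-- A point without proper generizations. -/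
def IsGen {X : Type*} [TopologicalSpace X] (x : X) : Prop := ∀ y, y ⤳ x → y = x

theorem dim0_iff {X : Scheme.{u}} (x : X) : ringKrullDim (X.presheaf.stalk x) = 0 ↔ IsGen x := by
  rw [ringKrullDim_stalk_eq_coheight x]
  refine Iff.trans ?_ (SpecOrder.cohtPt_eq_zero (x := x))
  exact WithBot.coe_eq_zero

theorem isGen_map_of_flat {X Y : Scheme.{u}} (h : X ⟶ Y) [Flat h] {x : X} (hx : IsGen x) :
    IsGen (h x) := by
  intro y hy
  obtain ⟨x', hx', rfl⟩ := Flat.generalizingMap h hy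
  rw [hx x' hx']

theorem isGen_of_map {X Y : Scheme.{u}} (h : X ⟶ Y) [LocallyQuasiFinite h] {x : X}
    (hx : IsGen (h x)) : IsGen x := by
  intro y hy
  have e : h y = h x := hx _ (hy.map h.continuous)
  have := (h.isDiscrete_preimage_singleton (h x)).1
  have : (⟨y, e⟩ : ↥(h ⁻¹' {h x})) ⤳ ⟨x, rfl⟩ := (subtype_specializes_iff _ _).2 hy
  exact congrArg Subtype.val this.eq

theorem isGen_iff_of_etale {X Y : Scheme.{u}} (h : X ⟶ Y) [Etale h] (x : X) :
    IsGen (h x) ↔ IsGen x :=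
  haveI := locallyQuasiFinite_of_etale h
  ⟨isGen_of_map h, isGen_map_of_flat h⟩

/-- Quasi-compact opens have finitely many irreducible components. -/
def LFIC (U : Scheme.{u}) : Prop :=
  ∀ W : U.Opens, IsCompact (W : Set ↥U) → (irreducibleComponents ↥W).Finite

theorem finite_components_iff {X : Type*} [TopologicalSpace X] [QuasiSober X] [T0Space X] :
    (irreducibleComponents X).Finite ↔ {x : X | IsGen x}.Finite := by
  have e : {x : X | IsGen x} = genericPoints X := by
    ext x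
    rw [Set.mem_ofPred_eq, ← show _ ↔ IsGen x from SpecOrder.exists_component_iff x]
    constructor
    · rintro ⟨T, hT, hx⟩
      show closure {x} ∈ irreducibleComponents X
      rwa [hx.def]
    · exact fun h ↦ ⟨_, h, isGenericPoint_closure⟩
  rw [e]
  refine ⟨genericPoints.finite, fun h ↦ (h.image fun x ↦ closure {x}).subset fun T hT ↦ ?_⟩
  obtain ⟨x, hx⟩ := QuasiSober.sober hT.1 (isClosed_of_mem_irreducibleComponents T hT)
  exact ⟨x, by show closure {x} ∈ irreducibleComponents X; rwa [hx.def], hx.def⟩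

theorem lfic_iff {U : Scheme.{u}} :
    LFIC U ↔ ∀ W : U.Opens, IsCompact (W : Set ↥U) → {x | x ∈ W ∧ IsGen x}.Finite := by
  refine forall₂_congr fun W _ ↦ ?_
  have : QuasiSober ↥W := W.2.isOpenEmbedding_subtypeVal.quasiSober
  rw [finite_components_iff]
  have key : ∀ z : ↥W, IsGen z ↔ IsGen z.1 := fun z ↦
    ⟨fun h y hy ↦ congrArg Subtype.val
      (h ⟨y, hy.mem_open W.2 z.2⟩ ((subtype_specializes_iff _ _).2 hy)),
      fun h y hy ↦ Subtype.ext (h y.1 ((subtype_specializes_iff _ _).1 hy))⟩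
  constructor
  · intro h
    refine (h.image Subtype.val).subset ?_
    rintro x ⟨hxW, hx⟩
    exact ⟨⟨x, hxW⟩, (key _).2 hx, rfl⟩
  · intro h
    exact (h.preimage Subtype.val_injective.injOn).subset fun z hz ↦ ⟨z.2, (key z).1 hz⟩

/-- A subset of a subset with its two topologies. -/
def subsetHomeo {Y : Type*} [TopologicalSpace Y] {A B : Set Y} (h : A ⊆ B) :
    A ≃ₜ ↥(Subtype.val ⁻¹' A : Set B) where
  toFun w := ⟨⟨w.1, h w.2⟩, w.2⟩
  invFun w := ⟨w.1.1, w.2⟩
  left_inv _ := rfl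
  right_inv _ := rfl
  continuous_toFun := (continuous_subtype_val.subtype_mk _).subtype_mk _
  continuous_invFun := (continuous_subtype_val.comp continuous_subtype_val).subtype_mk _

theorem lfic_of_flat_lft {Y X : Scheme.{u}} (f : Y ⟶ X) [Flat f] [LocallyOfFiniteType f]
    (hX : LFIC X) : LFIC Y := by
  intro V hV
  have key : ∀ y : Y, y ∈ V → ∃ W : Y.Opens, y ∈ W ∧ W ≤ V ∧
      (irreducibleComponents (W : Type u)).Finite := by
    intro y hy
    obtain ⟨U, hU, hyU, -⟩ :=
      exists_isAffineOpen_mem_and_subset (x := f y) (U := (⊤ : X.Opens)) trivial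
    obtain ⟨W, hW, hyW, hWle⟩ := exists_isAffineOpen_mem_and_subset
      (x := y) (U := V ⊓ f ⁻¹ᵁ U) ⟨hy, hyU⟩
    refine ⟨W, hyW, fun z hz => (hWle hz).1, ?_⟩
    have e : W ≤ f ⁻¹ᵁ U := fun z hz => (hWle hz).2
    have hflat := f.flat_appLE hU hW e
    have hft := f.finiteType_appLE hU hW e
    algebraize [(f.appLE U W e).hom]
    have hA : (minimalPrimes Γ(X, U)).Finite :=
      (EtaPt.FlatComponents.finite_irreducibleComponents_spec_iff _).mp
        (FlatComponents.finite_of_homeomorph (Scheme.homeoOfIso hU.isoSpec) (hX U hU.isCompact))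
    exact FlatComponents.finite_of_homeomorph (Scheme.homeoOfIso hW.isoSpec).symm
      ((EtaPt.FlatComponents.finite_irreducibleComponents_spec_iff _).mpr
        (EtaPt.FlatComponents.finite_minimalPrimes_of_flat Γ(X, U) Γ(Y, W) hA))
  choose W hyW hWV hWfin using key
  obtain ⟨t, ht⟩ := hV.elim_finite_subcover (fun y : V => (W y.1 y.2 : Set Y))
    (fun y => (W y.1 y.2).isOpen) (fun y hy => Set.mem_iUnion.mpr ⟨⟨y, hy⟩, hyW y hy⟩)
  refine FlatComponents.finite_of_open_cover (X := (V : Type u))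
    (fun i : t => Subtype.val ⁻¹' (W i.1.1 i.1.2 : Set Y))
    (fun i => (W i.1.1 i.1.2).isOpen.preimage continuous_subtype_val) (fun z _ => ?_) (fun i => ?_)
  · obtain ⟨i, hi, hzi⟩ := Set.mem_iUnion₂.mp (ht z.2)
    exact Set.mem_iUnion.mpr ⟨⟨i, hi⟩, hzi⟩
  · refine FlatComponents.finite_of_homeomorph ?_ (hWfin i.1.1 i.1.2)
    exact subsetHomeo (hWV _ _)

theorem lfic_of_etale_surjective {W U : Scheme.{u}} (q : W ⟶ U) [Etale q] [Surjective q]
    (hW : LFIC W) : LFIC U := by
  rw [lfic_iff] at hW ⊢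
  intro O hO
  have := locallyQuasiFinite_of_etale q
  have hbig : ∀ x ∈ O, ∃ A : W.Opens, IsCompact (A : Set W) ∧ x ∈ q '' A := fun x _ ↦ by
    obtain ⟨w, rfl⟩ := q.surjective x
    obtain ⟨A, hA, hw, -⟩ :=
      exists_isAffineOpen_mem_and_subset (x := w) (U := (⊤ : W.Opens)) trivial
    exact ⟨A, hA.isCompact, w, hw, rfl⟩
  choose A hAc hxA using hbig
  obtain ⟨t, ht⟩ := hO.elim_finite_subcover (fun x : O ↦ q '' (A x.1 x.2 : Set W))
    (fun x ↦ q.isOpenMap _ (A x.1 x.2).2) (fun x hx ↦ Set.mem_iUnion.2 ⟨⟨x, hx⟩, hxA x hx⟩)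
  refine ((t.finite_toSet.biUnion fun i _ ↦ hW (A i.1 i.2) (hAc i.1 i.2)).image q).subset ?_
  rintro x ⟨hxO, hx⟩
  obtain ⟨i, hi, w, hw, rfl⟩ := Set.mem_iUnion₂.1 (ht hxO)
  exact ⟨w, Set.mem_iUnion₂.2 ⟨i, hi, hw, isGen_of_map q hx⟩, rfl⟩

variable {S : Scheme.{u}} {X : Sp S}

theorem hasAt_dim0_iff (hX : IsAlgSpace X) {U : Over S} {a : (yon S).obj U ⟶ X}
    (ha : RepWith @Etale a) (u : ↥U.left) :
    HasAt (fun U u => ringKrullDim ↥(U.presheaf.stalk u) = 0) X (Points.ofPt a u) ↔ IsGen u := by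
  refine ⟨?_, fun h ↦ ⟨U, a, u, ha, rfl, (dim0_iff u).2 h⟩⟩
  rintro ⟨V, b, v, hb, e, hv⟩
  obtain ⟨W, p, q, sq⟩ := exists_isPullback_yon hX.diag a b
  have : Etale p.left := repWith_property hb sq.flip
  have : Etale q.left := repWith_property ha sq
  obtain ⟨w, rfl, rfl⟩ := (ofPt_eq_ofPt_iff_of_isPullback sq u v).1 e.symm
  rwa [isGen_iff_of_etale, ← isGen_iff_of_etale q.left w, ← dim0_iff]

theorem hasAt_dim0_map_of_flat {Y : Sp S} (hX : IsAlgSpace X) (hY : IsAlgSpace Y) {f : X ⟶ Y}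
    (hf : LocP @Flat f) {x : Points X}
    (hx : HasAt (fun U u => ringKrullDim ↥(U.presheaf.stalk u) = 0) X x) :
    HasAt (fun U u => ringKrullDim ↥(U.presheaf.stalk u) = 0) Y (Points.map f x) := by
  obtain ⟨U, V, a, b, h, ha, has, hb, -, w⟩ := exists_chart hX hY f
  obtain ⟨u, rfl⟩ := surjective_ofPt has x
  have : Flat h.left := hf a b h ha hb w
  rw [Points.map_ofPt, w, ofPt_yon_map_comp, hasAt_dim0_iff hY hb]
  exact isGen_map_of_flat h.left ((hasAt_dim0_iff hX ha u).1 hx)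

theorem lfic_etaleLocally_of_flat_lft {Y : Sp S} (hX : IsAlgSpace X) (hY : IsAlgSpace Y)
    {f : X ⟶ Y} (hf : LocP @Flat f) (hf' : LocP @LocallyOfFiniteType f)
    (h : EtaleLocally LFIC Y) : EtaleLocally LFIC X := by
  obtain ⟨V, b, hb, hbs, hV⟩ := h
  obtain ⟨U, a, k, ha, has, w⟩ := exists_chart_over hX hY f hb hbs
  have : Flat k.left := hf a b k ha hb w
  have : LocallyOfFiniteType k.left := hf' a b k ha hb w
  exact ⟨U, a, ha, has, lfic_of_flat_lft k.left hV⟩

theorem lfic_chart_iff (hX : IsAlgSpace X) :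
    EtaleLocally LFIC X ↔
      ∀ (U : Over S) (a : (yon S).obj U ⟶ X), RepWith @Etale a → LFIC U.left := by
  constructor
  · rintro ⟨V, b, hb, hbs, hV⟩ U a ha
    obtain ⟨W, p, q, sq⟩ := exists_isPullback_yon hX.diag a b
    have : Etale p.left := repWith_property hb sq.flip
    have : Surjective p.left := repWith_property hbs sq.flip
    have : Etale q.left := repWith_property ha sq
    exact lfic_of_etale_surjective p.left (lfic_of_flat_lft q.left hV)
  · intro h
    obtain ⟨U, a, ha, has⟩ := hX.atlas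
    exact ⟨U, a, ha, has, h U a ha⟩

theorem finite_components_of_surjective {A B : Type*} [TopologicalSpace A] [TopologicalSpace B]
    (f : A → B) (hf : Continuous f) (hs : Function.Surjective f)
    (h : (irreducibleComponents A).Finite) : (irreducibleComponents B).Finite := by
  refine (h.image fun C ↦ closure (f '' C)).subset fun Z hZ ↦ ?_
  have hcov : Z ⊆ ⋃₀ ((fun C ↦ closure (f '' C)) '' irreducibleComponents A) := by
    intro b _
    obtain ⟨a, rfl⟩ := hs b
    exact ⟨_, ⟨_, irreducibleComponent_mem_irreducibleComponents a, rfl⟩,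
      subset_closure ⟨a, mem_irreducibleComponent, rfl⟩⟩
  obtain ⟨_, hC', hle⟩ := isIrreducible_iff_sUnion_isClosed.1 hZ.1
    (h.image fun C ↦ closure (f '' C)).toFinset
    (fun z hz ↦ by
      obtain ⟨C, -, rfl⟩ := (Set.Finite.mem_toFinset _).1 hz
      exact isClosed_closure)
    (by simpa using hcov)
  obtain ⟨C, hC, rfl⟩ := (Set.Finite.mem_toFinset _).1 hC'
  exact ⟨C, hC, (hle.antisymm (hZ.2 (hC.1.image f hf.continuousOn).closure hle)).symm⟩

theorem compactSpace_opensOver {U : Over S} (W : U.left.Opens) (hW : IsCompact (W : Set ↥U.left)) :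
    IsQuasiCompactSp ((yon S).obj (Over.mk (W.ι ≫ U.hom))) :=
  ⟨_, (yon S).map (𝟙 _), (AlgSp.repWith_yon_map_iff _ _).2 (inferInstanceAs (Etale (𝟙 _))),
    (AlgSp.repWith_yon_map_iff _ _).2 (inferInstanceAs (Surjective (𝟙 _))),
    isCompact_iff_compactSpace.1 hW⟩

theorem isEtaleMor_of_chart {U W : Over S} (j : W ⟶ U) [Etale j.left] {a : (yon S).obj U ⟶ X}
    (ha : RepWith @Etale a) : IsEtaleMor ((yon S).map j ≫ a) := by
  intro V φ hφ
  obtain ⟨g, rfl⟩ := (yon S).map_surjective φ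
  have : Etale g.left := (AlgSp.repWith_yon_map_iff _ g).1 hφ
  rw [← Category.assoc, ← Functor.map_comp]
  have : Etale (g ≫ j).left := by rw [Over.comp_left]; infer_instance
  exact repWith_etale_comp (g ≫ j) ha

theorem lfic_iff_finite_codim0 (hX : IsAlgSpace X) :
    EtaleLocally LFIC X ↔
      ∀ (Y : AlgSp.Space S) (g : Y.obj ⟶ X), IsEtaleMor g → IsQuasiCompactSp Y.obj →
        {y : Points Y.obj |
          HasAt (fun U u => ringKrullDim ↥(U.presheaf.stalk u) = 0) Y.obj y}.Finite := by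
  rw [lfic_chart_iff hX]
  constructor
  · rintro h Y g hg ⟨V, b, hb, hbs, hV⟩
    have hc : IsCompact ((⊤ : V.left.Opens) : Set ↥V.left) := isCompact_univ
    refine ((lfic_iff.1 (h V (b ≫ g) (hg b hb)) ⊤ hc).image (Points.ofPt b)).subset fun y hy ↦ ?_
    obtain ⟨v, rfl⟩ := surjective_ofPt hbs y
    exact ⟨v, ⟨trivial, (hasAt_dim0_iff Y.property hb v).1 hy⟩, rfl⟩
  · intro h U a ha
    rw [lfic_iff]
    intro W hW
    let j : Over.mk (W.ι ≫ U.hom) ⟶ U := Over.homMk W.ι rfl
    have : Etale j.left := inferInstanceAs (Etale W.ι)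
    have hfin := h ⟨_, IsAlgSpace.yon_obj (Over.mk (W.ι ≫ U.hom))⟩ ((yon S).map j ≫ a)
      (isEtaleMor_of_chart j ha) (compactSpace_opensOver W hW)
    refine ((hfin.image (fun y ↦ W.ι (Points.toScheme (Over.mk (W.ι ≫ U.hom)) y)))).subset ?_
    rintro x ⟨hxW, hx⟩
    let z : ↥(Over.mk (W.ι ≫ U.hom)).left := (⟨x, hxW⟩ : ↥W)
    refine ⟨Points.ofScheme _ z, ?_, ?_⟩
    · have h1 : RepWith @Etale ((yon S).map (𝟙 (Over.mk (W.ι ≫ U.hom)))) :=
        (AlgSp.repWith_yon_map_iff _ _).2 (inferInstanceAs (Etale (𝟙 _)))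
      have h2 := (hasAt_dim0_iff (IsAlgSpace.yon_obj _) h1 z).2 ((isGen_iff_of_etale W.ι z).1 hx)
      rwa [CategoryTheory.Functor.map_id] at h2
    · exact congrArg W.ι ((Points.schemeEquiv (Over.mk (W.ι ≫ U.hom))).symm_apply_apply z)

theorem lfic_iff_finite_components (hX : IsAlgSpace X) :
    EtaleLocally LFIC X ↔
      ∀ (Y : AlgSp.Space S) (g : Y.obj ⟶ X), IsEtaleMor g → IsQuasiCompactSp Y.obj →
        (irreducibleComponents (Points Y.obj)).Finite := by
  rw [lfic_chart_iff hX]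
  constructor
  · rintro h Y g hg ⟨V, b, hb, hbs, hV⟩
    refine finite_components_of_surjective _ (Points.continuous_ofPt b) (surjective_ofPt hbs) ?_
    exact FlatComponents.finite_of_homeomorph (Homeomorph.Set.univ ↥V.left)
      (h V (b ≫ g) (hg b hb) ⊤ (show IsCompact (Set.univ : Set ↥V.left) from isCompact_univ))
  · intro h U a ha W hW
    let j : Over.mk (W.ι ≫ U.hom) ⟶ U := Over.homMk W.ι rfl
    have : Etale j.left := inferInstanceAs (Etale W.ι)
    have hfin := h ⟨_, IsAlgSpace.yon_obj (Over.mk (W.ι ≫ U.hom))⟩ ((yon S).map j ≫ a)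
      (isEtaleMor_of_chart j ha) (compactSpace_opensOver W hW)
    exact finite_components_of_surjective (Points.schemeHomeo (Over.mk (W.ι ≫ U.hom))).symm
      (Points.schemeHomeo (Over.mk (W.ι ≫ U.hom))).symm.continuous
      (Points.schemeHomeo (Over.mk (W.ι ≫ U.hom))).symm.surjective hfin

end Groth.Agent.Lib.AlgSpMor.Codim
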