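import Groth.Agent.Lib.AlgSpMor.LocP
import Groth.Agent.Lib.AlgSpace.Points
import Groth.Agent.Lib.FtPoint.Basic
import Groth.Prelude.Def_AlgSp4

/-!
# Finite type points of algebraic spaces
-/

set_option autoImplicit false
universe u

open CategoryTheory CategoryTheory.Limits AlgebraicGeometry
open Groth.Agent.Lib.AlgSpace
open Groth.Agent.Lib.AlgSpMor.LocP

namespace Groth.Agent.Lib.AlgSpMor.FTPoint

open AlgSp (Sp yon Representable RepWith IsAlgSpace LocP)
open AlgSp

variable {S : Scheme.{u}} {X : Sp S}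

/-- A finite type point: the image of a morphism locally of finite type from the spectrum of a field. -/
def IsFT (x : Points X) : Prop :=
  ∃ (k : Type u) (_ : Field k) (str : Spec (CommRingCat.of k) ⟶ S) (ξ : (yon S).obj (Over.mk str) ⟶ X),
    LocP @LocallyOfFiniteType ξ ∧ Points.ofPt ξ (IsLocalRing.closedPoint k) = x

theorem etaleLocalST_lft :
    SourceDescent.Scheme.EtaleLocalST (@LocallyOfFiniteType : MorphismProperty Scheme.{u}) :=
  SourceDescent.Scheme.locallyOfFiniteType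

theorem isFT_of_chart {U : Over S} {a : (yon S).obj U ⟶ X} (ha : RepWith @Etale a) {z : ↥U.left}
    (hz : LocallyOfFiniteType (U.left.fromSpecResidueField z)) : IsFT (Points.ofPt a z) := by
  let g : Over.mk (U.left.fromSpecResidueField z ≫ U.hom) ⟶ U :=
    Over.homMk (U.left.fromSpecResidueField z) rfl
  refine ⟨U.left.residueField z, inferInstance, U.left.fromSpecResidueField z ≫ U.hom,
    (yon S).map g ≫ a, locP_of_repWith etaleLocalST_lft ?_, ?_⟩
  · exact repWith_yon_map_comp (show LocallyOfFiniteType g.left from hz)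
      (repWith_mono ha fun _ _ h (_ : Etale h) ↦ (inferInstance : LocallyOfFiniteType h))
  · exact (ofPt_yon_map_comp g a _).trans
      (congrArg _ (Scheme.fromSpecResidueField_apply z _))

theorem exists_closed_chart_of_isFT (hX : IsAlgSpace X) {x : Points X} (hx : IsFT x) :
    ∃ (U : Over S) (φ : (yon S).obj U ⟶ X) (u : ↥U.left), RepWith @Etale φ ∧
      IsClosed ({u} : Set ↥U.left) ∧ Points.ofPt φ u = x := by
  obtain ⟨k, _, str, ξ, hξ, rfl⟩ := hx
  obtain ⟨U, a, ha, has⟩ := hX.atlas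
  obtain ⟨R, p, q, sq⟩ := exists_isPullback_yon hX.diag ξ a
  have : Etale p.left := repWith_property ha sq.flip
  have : Surjective p.left := repWith_property has sq.flip
  have hq : LocallyOfFiniteType q.left :=
    hξ ((yon S).map p) a q ((AlgSp.repWith_yon_map_iff _ _).2 ‹Etale p.left›) ha sq.w
  obtain ⟨r₀, -⟩ := p.left.surjective (IsLocalRing.closedPoint k)
  obtain ⟨r, -, hr⟩ := FtPoint.Basic.exists_ftPoint_of_isLocallyClosed
    (Z := (Set.univ : Set R.left)) isOpen_univ.isLocallyClosed ⟨r₀, trivial⟩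
  have : LocallyOfFiniteType (R.left.fromSpecResidueField r ≫ q.left) :=
    MorphismProperty.comp_mem (@LocallyOfFiniteType) _ _ hr hq
  obtain ⟨V, -, hu, hc⟩ := @FtPoint.Basic.exists_isClosed_of_locallyOfFiniteType _
    (R.left.residueField r) _ (R.left.fromSpecResidueField r ≫ q.left) this
  let g : Over.mk (V.ι ≫ U.hom) ⟶ U := Over.homMk V.ι rfl
  have : Etale g.left := inferInstanceAs (Etale V.ι)
  refine ⟨_, (yon S).map g ≫ a, ⟨_, hu⟩, repWith_etale_comp g ha, hc, ?_⟩
  refine (ofPt_yon_map_comp g a _).trans ?_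
  have e : (R.left.fromSpecResidueField r ≫ q.left) (IsLocalRing.closedPoint _) = q.left r :=
    (Scheme.Hom.comp_apply _ _ _).trans (congrArg _ (Scheme.fromSpecResidueField_apply r _))
  refine (congrArg (Points.ofPt a) e).trans ?_
  rw [← ofPt_yon_map_comp, ← sq.w, ofPt_yon_map_comp]
  exact congrArg _ (Subsingleton.elim (α := ↥(Spec (CommRingCat.of k))) _ _)

theorem isFT_iff (hX : IsAlgSpace X) (x : Points X) :
    IsFT x ↔ ∃ (U : Over S) (φ : (yon S).obj U ⟶ X) (u : ↥U.left), RepWith @Etale φ ∧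
      IsClosed ({u} : Set ↥U.left) ∧ Points.ofPt φ u = x := by
  refine ⟨exists_closed_chart_of_isFT hX, ?_⟩
  rintro ⟨U, φ, u, hφ, hu, rfl⟩
  have := isClosed_singleton_iff_isClosedImmersion.1 hu
  exact isFT_of_chart hφ inferInstance

theorem exists_isFT_of_isLocallyClosed (hX : IsAlgSpace X) {T : Set (Points X)}
    (hT : IsLocallyClosed T) (hne : T.Nonempty) : ∃ x ∈ T, IsFT x := by
  obtain ⟨U, a, ha, has⟩ := hX.atlas
  obtain ⟨x, hx⟩ := hne
  obtain ⟨u, rfl⟩ := surjective_ofPt has x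
  obtain ⟨z, hz, hz'⟩ := FtPoint.Basic.exists_ftPoint_of_isLocallyClosed
    (hT.preimage (Points.continuous_ofPt a)) ⟨u, hx⟩
  exact ⟨_, hz, isFT_of_chart ha hz'⟩

theorem subset_closure_isFT (hX : IsAlgSpace X) {T : Set (Points X)} (hT : IsClosed T) :
    T ⊆ closure {x | x ∈ T ∧ IsFT x} := by
  intro x hx
  rw [mem_closure_iff]
  intro O hO hxO
  obtain ⟨y, ⟨hyO, hyT⟩, hy⟩ :=
    exists_isFT_of_isLocallyClosed hX ⟨O, T, hO, hT, rfl⟩ ⟨x, hxO, hx⟩
  exact ⟨y, hyO, hyT, hy⟩

theorem exists_isFT_map_eq {Y : Sp S} (hX : IsAlgSpace X) (hY : IsAlgSpace Y) (f : X ⟶ Y)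
    {y : Points Y} (hy : IsFT y) (hy' : y ∈ Set.range (Points.map f)) :
    ∃ x, Points.map f x = y ∧ IsFT x := by
  obtain ⟨V, b, v, hb, hv, rfl⟩ := exists_closed_chart_of_isFT hY hy
  obtain ⟨x, hx⟩ := hy'
  obtain ⟨U, a, ha, has⟩ := hX.atlas
  obtain ⟨u, rfl⟩ := surjective_ofPt has x
  obtain ⟨W, p, q, sq⟩ := exists_isPullback_yon hY.diag (a ≫ f) b
  rw [Points.map_ofPt] at hx
  obtain ⟨w, -, hw⟩ := (ofPt_eq_ofPt_iff_of_isPullback sq u v).1 hx
  obtain ⟨z, hz, hz'⟩ := FtPoint.Basic.exists_ftPoint_of_isLocallyClosed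
    (hv.preimage q.left.continuous).isLocallyClosed ⟨w, hw⟩
  have : Etale p.left := repWith_property hb sq.flip
  refine ⟨_, ?_, isFT_of_chart (repWith_etale_comp p ha) hz'⟩
  rw [Points.map_ofPt, Category.assoc, sq.w, ofPt_yon_map_comp]
  exact congrArg _ hz

end Groth.Agent.Lib.AlgSpMor.FTPoint
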