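import Groth.Agent.Lib.AlgSpMor.Sep
import Groth.Agent.Lib.AlgSpMor.Proper

/-!
# Fibre products over a space separated over a scheme
-/

set_option autoImplicit false
universe u

open CategoryTheory CategoryTheory.Limits AlgebraicGeometry
open Groth.Agent.Lib.AlgSpace

namespace Groth.Agent.Lib.AlgSpMor.SepPair

open AlgSp (Sp yon Representable RepWith IsAlgSpace IsSeparatedMor)
open AlgSp

variable {S : Scheme.{u}}

attribute [local simp] pullback.lift_fst pullback.lift_snd

/-- Cancelling a monomorphism on the right of a morphism with a property of the diagonal. -/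
theorem repWith_diagonal_of_comp_mono {P : MorphismProperty Scheme.{u}}
    {X Y Z : Sp S} {f : X ⟶ Y} {ι : Y ⟶ Z} [Mono ι]
    (h : RepWith P (pullback.diagonal (f ≫ ι))) : RepWith P (pullback.diagonal f) := by
  let m : pullback f f ⟶ pullback (f ≫ ι) (f ≫ ι) :=
    pullback.map _ _ _ _ (𝟙 _) (𝟙 _) ι (by simp) (by simp)
  have hm : Mono m := by
    refine ⟨fun c c' e ↦ pullback.hom_ext ?_ ?_⟩
    · simpa [m, pullback.map] using congr($e ≫ pullback.fst _ _)
    · simpa [m, pullback.map] using congr($e ≫ pullback.snd _ _)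
  have e : pullback.diagonal f ≫ m = pullback.diagonal (f ≫ ι) := by
    apply pullback.hom_ext <;> simp [m, pullback.map]
  refine repWith_baseChange (fst := 𝟙 X) (g := m) ?_ h
  refine isPullback_of_yon (by rw [Category.id_comp, e]) (fun T c c' h _ ↦ by simpa using h)
    fun T c d hcd ↦ ⟨c, by simp, ?_⟩
  rw [← cancel_mono m, Category.assoc, e, hcd]

/-- `U ×_X V ⟶ U ×_T V` is a closed immersion for `X` separated over `T`. -/
theorem isClosedImmersion_pair {X : Sp S} {T U V R : Over S} {f : X ⟶ (yon S).obj T}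
    (hf : IsSeparatedMor f) {α : (yon S).obj U ⟶ X} {β : (yon S).obj V ⟶ X} {mU : U ⟶ T}
    {mV : V ⟶ T} (hα : α ≫ f = (yon S).map mU) (hβ : β ≫ f = (yon S).map mV) {p : R ⟶ U}
    {q : R ⟶ V} (sq : IsPullback ((yon S).map p) ((yon S).map q) α β)
    {P : Over S} {a : P ⟶ U} {b : P ⟶ V} (sqP : IsPullback a b mU mV) (c : R ⟶ P)
    (hca : c ≫ a = p) (hcb : c ≫ b = q) : IsClosedImmersion c.left := by
  let d : (yon S).obj P ⟶ pullback f f :=
    pullback.lift ((yon S).map a ≫ α) ((yon S).map b ≫ β)
      (by rw [Category.assoc, Category.assoc, hα, hβ, ← Functor.map_comp, ← Functor.map_comp, sqP.w])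
  have h : RepWith @IsClosedImmersion (pullback.diagonal f) := hf
  refine repWith_property h (ξ := d) (fst := (yon S).map p ≫ α) ?_
  have hpq : (yon S).map p ≫ α = (yon S).map q ≫ β := sq.w
  refine isPullback_of_yon ?_ (fun W z z' _ e ↦ ?_) fun W x y e ↦ ?_
  · apply pullback.hom_ext
    · simp [d, ← Functor.map_comp_assoc, hca]
    · simp [d, ← Functor.map_comp_assoc, hcb, hpq]
  · refine sq.hom_ext ?_ ?_
    · simpa [← Functor.map_comp, hca] using congr($e ≫ (yon S).map a)
    · simpa [← Functor.map_comp, hcb] using congr($e ≫ (yon S).map b)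
  · have e1 : x = (y ≫ (yon S).map a) ≫ α := by simpa [d] using congr($e ≫ pullback.fst f f)
    have e2 : x = (y ≫ (yon S).map b) ≫ β := by simpa [d] using congr($e ≫ pullback.snd f f)
    refine ⟨sq.lift _ _ (e1.symm.trans e2), ?_, ?_⟩
    · rw [← Category.assoc, sq.lift_fst]; exact e1.symm
    · refine (isPullback_yon sqP).hom_ext ?_ ?_
      · rw [Category.assoc, ← Functor.map_comp, hca, sq.lift_fst]
      · rw [Category.assoc, ← Functor.map_comp, hcb, sq.lift_snd]

end Groth.Agent.Lib.AlgSpMor.SepPair
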