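import Groth.Agent.Lib.AlgSpMor.FlatMonoAlg
import Groth.Agent.Lib.AlgSpMor.LqfRep
import Groth.Agent.Lib.AlgSpMor.EtaleMono

/-!
# Flat monomorphisms of algebraic spaces are representable
-/

set_option autoImplicit false
set_option linter.style.haveILetI false
universe u

open CategoryTheory CategoryTheory.Limits AlgebraicGeometry
open Groth.Agent.Lib.AlgSpace
open scoped TensorProduct

namespace Groth.Agent.Lib.AlgSpMor.FlatMono

/-- A flat affine map with etale self-product is, up to monomorphism, etale. -/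
theorem exists_etale_factor_Spec {A C : CommRingCat.{u}} (φ : A ⟶ C) (hφ : φ.hom.Flat)
    {R : Scheme.{u}} {p q : R ⟶ Spec C} (sq : IsPullback p q (Spec.map φ) (Spec.map φ))
    (hp : Etale p) :
    ∃ (Y : Scheme.{u}) (π : Spec C ⟶ Y) (τ : Y ⟶ Spec A),
      π ≫ τ = Spec.map φ ∧ p ≫ π = q ≫ π ∧ Etale π := by
  letI : Algebra A C := φ.hom.toAlgebra
  have hflat : Module.Flat A C := hφ
  have hmap : Spec.map (CommRingCat.ofHom (algebraMap A C)) = Spec.map φ := rfl
  let e := pullbackSpecIso A C C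
  have sqS : IsPullback (e.inv ≫ pullback.fst _ _) (e.inv ≫ pullback.snd _ _)
      (Spec.map φ) (Spec.map φ) :=
    IsPullback.of_iso (IsPullback.of_hasPullback (Spec.map (CommRingCat.ofHom (algebraMap A C)))
      (Spec.map (CommRingCat.ofHom (algebraMap A C)))) e (Iso.refl _) (Iso.refl _) (Iso.refl _)
      (by simp) (by simp) (by simp [hmap]) (by simp [hmap])
  have hE : Algebra.Etale C (C ⊗[A] C) := by
    have h : Etale (e.inv ≫ pullback.fst _ _) := by
      rw [← sqS.isoIsPullback_hom_fst _ _ sq]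
      haveI := hp
      infer_instance
    rw [pullbackSpecIso_inv_fst'] at h
    have := (HasRingHomProperty.Spec_iff (P := @Etale)).1 h
    exact RingHom.etale_algebraMap.1 this
  haveI := hflat
  haveI := hE
  let B := FlatMonoAlg.eqRing A C
  refine ⟨Spec (CommRingCat.of B), Spec.map (CommRingCat.ofHom B.val.toRingHom),
    Spec.map (CommRingCat.ofHom (algebraMap A B)), ?_, ?_, ?_⟩
  · rw [← Spec.map_comp]
    rfl
  · have h : (e.inv ≫ pullback.fst _ _) ≫ Spec.map (CommRingCat.ofHom B.val.toRingHom) =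
        (e.inv ≫ pullback.snd _ _) ≫ Spec.map (CommRingCat.ofHom B.val.toRingHom) := by
      rw [pullbackSpecIso_inv_fst, pullbackSpecIso_inv_snd, ← Spec.map_comp, ← Spec.map_comp]
      congr 1
      ext b
      exact b.2
    have h' := congrArg ((sq.isoIsPullback _ _ sqS).hom ≫ ·) h
    have e1 := sq.isoIsPullback_hom_fst _ _ sqS
    have e2 := sq.isoIsPullback_hom_snd _ _ sqS
    refine ((congrArg (· ≫ Spec.map (CommRingCat.ofHom B.val.toRingHom)) e1).symm.trans ?_).trans
      (congrArg (· ≫ Spec.map (CommRingCat.ofHom B.val.toRingHom)) e2)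
    exact (Category.assoc _ _ _).trans (h'.trans (Category.assoc _ _ _).symm)
  · exact (HasRingHomProperty.Spec_iff (P := @Etale)).2 FlatMonoAlg.etale_eqRing

/-- A flat map of affine schemes with etale self-product is, up to monomorphism, etale. -/
theorem exists_etale_factor {U T R : Scheme.{u}} [IsAffine U] [IsAffine T] (m : U ⟶ T) [Flat m]
    {p q : R ⟶ U} (sq : IsPullback p q m m) (hp : Etale p) :
    ∃ (Y : Scheme.{u}) (π : U ⟶ Y) (τ : Y ⟶ T), π ≫ τ = m ∧ p ≫ π = q ≫ π ∧ Etale π := by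
  have hm : m ≫ T.isoSpec.hom = U.isoSpec.hom ≫ Spec.map m.appTop :=
    (Scheme.isoSpec_hom_naturality m).symm
  have sq' : IsPullback (p ≫ U.isoSpec.hom) (q ≫ U.isoSpec.hom) (Spec.map m.appTop)
      (Spec.map m.appTop) :=
    IsPullback.of_iso sq (Iso.refl _) U.isoSpec U.isoSpec T.isoSpec (by simp) (by simp) hm hm
  have hflat : m.appTop.hom.Flat := HasRingHomProperty.appTop (P := @Flat) m ‹_›
  obtain ⟨Y, π, τ, h1, h2, h3⟩ := exists_etale_factor_Spec m.appTop hflat sq'
    (by haveI := hp; infer_instance)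
  refine ⟨Y, U.isoSpec.hom ≫ π, τ ≫ T.isoSpec.inv, ?_, ?_, ?_⟩
  · rw [Category.assoc, reassoc_of% h1, ← Category.assoc, ← hm, Category.assoc, Iso.hom_inv_id,
      Category.comp_id]
  · simpa using h2
  · haveI := h3
    infer_instance

open AlgSp (Sp yon Representable RepWith IsAlgSpace LocP)
open AlgSp

variable {S : Scheme.{u}}

/-- A space with a monomorphism to an affine scheme and an affine flat chart is a scheme. -/
theorem exists_iso_of_affine_chart {T U : Over S} [IsAffine T.left] [IsAffine U.left] {X : Sp S}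
    {f : X ⟶ (yon S).obj T} [Mono f] {a : (yon S).obj U ⟶ X} (ha : RepWith @Etale a)
    (has : RepWith @Surjective a) {m : U ⟶ T} (hm : a ≫ f = (yon S).map m) [Flat m.left] :
    ∃ W : Over S, Nonempty ((yon S).obj W ≅ X) := by
  haveI := isLocallySurjective_of_etale ha has
  let R : Over S := ha.rep.pullback a
  let p : R ⟶ U := ha.rep.fst' a
  let q : R ⟶ U := ha.rep.snd a
  have sqR : IsPullback ((yon S).map p) ((yon S).map q) a a := ha.rep.isPullback' a
  have hpm : p ≫ m = q ≫ m := (yon S).map_injective (by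
    rw [Functor.map_comp, Functor.map_comp, ← hm, ← Category.assoc, ← Category.assoc, sqR.w])
  have sqm : IsPullback p q m m := by
    refine isPullback_of_yon_map (isPullback_of_yon (by rw [← (yon S).map_comp p m,
      ← (yon S).map_comp q m, hpm]) (fun Z c c' e1 e2 ↦ sqR.hom_ext e1 e2) fun Z c c' e ↦ ?_)
    have e' : c ≫ a = c' ≫ a := by
      rw [← cancel_mono f, Category.assoc, Category.assoc, hm, e]
    exact ⟨sqR.lift c c' e', sqR.lift_fst _ _ _, sqR.lift_snd _ _ _⟩
  have hp : Etale p.left := repWith_property ha sqR.flip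
  obtain ⟨Y₀, π₀, τ₀, hπτ, hπ₀, hπe⟩ :=
    exists_etale_factor m.left (sqm.map (Over.forget S)) hp
  let Y : Over S := Over.mk (τ₀ ≫ T.hom)
  let π : U ⟶ Y := Over.homMk π₀
    (show π₀ ≫ τ₀ ≫ T.hom = U.hom by rw [reassoc_of% hπτ, Over.w])
  let τ : Y ⟶ T := Over.homMk τ₀
  let V : Y.left.Opens := ⟨Set.range π.left, π₀.isOpenMap.isOpen_range⟩
  let Y' : Over S := Topo.opensOver V
  let ι : Y' ⟶ Y := Topo.opensOverι V
  haveI : IsOpenImmersion ι.left := inferInstanceAs (IsOpenImmersion V.ι)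
  haveI : Mono ι := Over.mono_of_mono_left ι
  let π' : U ⟶ Y' := Over.homMk
    (IsOpenImmersion.lift ι.left π.left
      (show Set.range π.left ⊆ Set.range ι.left from fun y hy ↦ V.range_ι.symm.subset hy))
    (by rw [← Over.w ι, IsOpenImmersion.lift_fac_assoc, Over.w])
  have hπ' : π' ≫ ι = π := Over.OverMorphism.ext (IsOpenImmersion.lift_fac _ _ _)
  haveI : Etale π'.left := EtaleMono.etale_of_comp π'.left ι.left (by
    rw [← Over.comp_left, hπ']; exact hπe)
  haveI : Surjective π'.left := ⟨fun y ↦ by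
    obtain ⟨z, hz⟩ : ι.left y ∈ Set.range π.left := V.range_ι.subset ⟨y, rfl⟩
    refine ⟨z, ι.left.isOpenEmbedding.injective ?_⟩
    rw [← Scheme.Hom.comp_apply, ← Over.comp_left, hπ', hz]⟩
  have hw : p ≫ π' = q ≫ π' := by
    rw [← cancel_mono ι, Category.assoc, Category.assoc, hπ']
    exact Over.OverMorphism.ext hπ₀
  have sqπ : IsPullback ((yon S).map p) ((yon S).map q) ((yon S).map π') ((yon S).map π') := by
    refine isPullback_of_yon (by rw [← (yon S).map_comp p π', ← (yon S).map_comp q π', hw])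
      (fun Z c c' e1 e2 ↦ sqR.hom_ext e1 e2) fun Z c c' e ↦ ?_
    have hm' : π' ≫ ι ≫ τ = m := by
      rw [reassoc_of% hπ']
      exact Over.OverMorphism.ext hπτ
    have e' := e =≫ (yon S).map (ι ≫ τ)
    simp only [Category.assoc, ← (yon S).map_comp π' (ι ≫ τ), hm'] at e'
    have e'' : c ≫ a = c' ≫ a := by
      rw [← cancel_mono f, Category.assoc, Category.assoc, hm, e']
    exact ⟨sqR.lift c c' e'', sqR.lift_fst _ _ _, sqR.lift_snd _ _ _⟩
  haveI : Sheaf.IsLocallySurjective ((yon S).map π') :=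
    isLocallySurjective_of_etale ((repWith_yon_map_iff _ π').2 ‹_›)
      ((repWith_yon_map_iff _ π').2 ‹_›)
  obtain ⟨φ, hφ⟩ := exists_desc a sqR ((yon S).map π') sqπ.w
  obtain ⟨ψ, hψ⟩ := exists_desc ((yon S).map π') sqπ a sqR.w
  refine ⟨Y', ⟨⟨ψ, φ, ?_, ?_⟩⟩⟩
  · rw [← cancel_epi ((yon S).map π'), reassoc_of% hψ, hφ, Category.comp_id]
  · rw [← cancel_epi a, reassoc_of% hφ, hψ, Category.comp_id]

/-- The image of an affine chart over an affine open of the base. -/
theorem exists_open_scheme {T : Over S} {X : Sp S} (hX : IsAlgSpace X) {f : X ⟶ (yon S).obj T}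
    [Mono f] (hfl : LocP @Flat f) (x : Points X) :
    ∃ (W : Over S) (l : (yon S).obj W ⟶ X), RepWith @IsOpenImmersion l ∧
      x ∈ Set.range (Points.map l) := by
  obtain ⟨U₀, a₀, ha₀, ha₀s⟩ := hX.atlas
  obtain ⟨u, rfl⟩ := surjective_ofPt ha₀s x
  obtain ⟨m₀, hm₀⟩ := (yon S).map_surjective (a₀ ≫ f)
  obtain ⟨O, hO, huO, -⟩ := exists_isAffineOpen_mem_and_subset
    (U := ⊤) (Set.mem_univ (m₀.left u))
  obtain ⟨Uo, hUo, hu, hUO⟩ := exists_isAffineOpen_mem_and_subset
    (U := m₀.left ⁻¹ᵁ O) (show u ∈ m₀.left ⁻¹ᵁ O from huO)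
  let U : Over S := Topo.opensOver Uo
  let ι : U ⟶ U₀ := Topo.opensOverι Uo
  let T₀ : Over S := Topo.opensOver O
  let κ : T₀ ⟶ T := Topo.opensOverι O
  haveI : IsAffine U.left := hUo
  haveI : IsAffine T₀.left := hO
  haveI : IsOpenImmersion κ.left := inferInstanceAs (IsOpenImmersion O.ι)
  haveI : IsOpenImmersion ι.left := inferInstanceAs (IsOpenImmersion Uo.ι)
  haveI : Mono κ := Over.mono_of_mono_left κ
  have hr : Set.range (ι ≫ m₀).left ⊆ Set.range κ.left := by
    rintro _ ⟨z, rfl⟩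
    exact O.range_ι.symm.subset (hUO z.2)
  let m : U ⟶ T₀ := Over.homMk (IsOpenImmersion.lift κ.left (ι ≫ m₀).left hr) (by
    rw [← Over.w κ, IsOpenImmersion.lift_fac_assoc, Over.w])
  have hmκ : m ≫ κ = ι ≫ m₀ := Over.OverMorphism.ext (IsOpenImmersion.lift_fac _ _ _)
  let a : (yon S).obj U ⟶ X := (yon S).map ι ≫ a₀
  have ha : RepWith @Etale a := LocP.repWith_etale_comp ι ha₀
  have haf : a ≫ f = (yon S).map m ≫ (yon S).map κ := by
    rw [Category.assoc, ← hm₀, ← Functor.map_comp, ← Functor.map_comp, hmκ]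
  haveI : Flat m.left :=
    hfl a ((yon S).map κ) m ha ((repWith_yon_map_iff _ κ).2 inferInstance) haf
  obtain ⟨F, j, -, hj, hjr⟩ :=
    exists_open_subspace hX (AlgSpDecent.Core.isOpen_range_ofPt ha)
  have hjm : Mono j :=
    mono_of_repWith (P := @IsOpenImmersion)
      (fun _ _ g (_ : IsOpenImmersion g) ↦ (inferInstance : Mono g)) hj
  obtain ⟨a', ha'⟩ := exists_lift_yon_of_range_subset hj a hjr.symm.subset
  have sqa : IsPullback (𝟙 ((yon S).obj U)) a' a j :=
    isPullback_of_yon (by simp [ha']) (fun Z c c' e _ ↦ by simpa using e) fun Z c z e ↦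
      ⟨c, Category.comp_id c, by rw [← cancel_mono j, Category.assoc, ha', e]⟩
  have ha'e : RepWith @Etale a' := repWith_baseChange sqa ha
  have ha's : RepWith @Surjective a' := repWith_surjective_of_points ha'e.rep fun y ↦ by
    obtain ⟨z, hz⟩ := hjr.subset ⟨y, rfl⟩
    refine ⟨Points.ofPt (𝟙 _) z, injective_map_of_mono j ?_⟩
    rw [← Points.map_comp, ha', Points.map_ofPt, Category.id_comp, hz]
  haveI := isLocallySurjective_of_etale ha'e ha's
  obtain ⟨f₀, hf₀⟩ := exists_desc a' (ha'e.rep.isPullback' a') ((yon S).map m) (by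
    rw [← cancel_mono ((yon S).map κ), Category.assoc, Category.assoc, ← haf, ← ha',
      ← Category.assoc, ← Category.assoc, ← Category.assoc, ← Category.assoc,
      (ha'e.rep.isPullback' a').w])
  have hjf : f₀ ≫ (yon S).map κ = j ≫ f := by
    rw [← cancel_epi a', ← Category.assoc, hf₀, ← Category.assoc, ha', haf]
  haveI : Mono (f₀ ≫ (yon S).map κ) := by rw [hjf]; infer_instance
  haveI : Mono f₀ := mono_of_mono f₀ ((yon S).map κ)
  obtain ⟨W, ⟨e⟩⟩ := exists_iso_of_affine_chart ha'e ha's hf₀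
  refine ⟨W, e.hom ≫ j, (repWith_iso_comp_iff _ _ _).2 hj, ?_⟩
  obtain ⟨y, hy⟩ : Points.ofPt a₀ u ∈ Set.range (Points.map j) :=
    hjr.symm.subset ⟨⟨u, hu⟩, ofPt_yon_map_comp ι a₀ (⟨u, hu⟩ : Uo)⟩
  exact ⟨Points.map e.inv y, by
    rw [← Points.map_comp, ← Category.assoc, e.inv_hom_id, Category.id_comp, hy]⟩

/-- A flat monomorphism of algebraic spaces is representable. -/
theorem representable {X Y : Sp S} (hX : IsAlgSpace X) (hY : IsAlgSpace Y) {f : X ⟶ Y} [Mono f]
    (hfl : LocP @Flat f) : Representable f := fun T ξ ↦ by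
  have sq := IsPullback.of_hasPullback f ξ
  have hP : IsAlgSpace (pullback f ξ) :=
    isAlgSpace_of_isPullback sq hY.diag hX (IsAlgSpace.yon_obj T)
  have hfl' : LocP @Flat (pullback.snd f ξ) :=
    LocP.locP_of_isPullback SourceDescent.Scheme.flat hX hY (IsAlgSpace.yon_obj T) sq hfl
  choose W l hl hx using fun x : Points (pullback f ξ) ↦ exists_open_scheme hP hfl' x
  obtain ⟨U₀, a₀, -, ha₀s⟩ := hP.atlas
  obtain ⟨G, m, hm, hmr⟩ :=
    AlgSpDecent.Glue.exists_union (fun u : U₀.left ↦ hl (Points.ofPt a₀ u)) hP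
  haveI := AlgSpDecent.OpenScheme.isIso_of_surjective hm fun x ↦ by
    obtain ⟨u, rfl⟩ := surjective_ofPt ha₀s x
    exact hmr.symm.subset (Set.mem_iUnion.2 ⟨u, hx _⟩)
  obtain ⟨w, hw⟩ := (yon S).map_surjective (m ≫ pullback.snd f ξ)
  exact ⟨G, w, m ≫ pullback.fst f ξ, IsPullback.of_iso sq (asIso m).symm (Iso.refl _) (Iso.refl _)
    (Iso.refl _) (by simp) (by simp [hw]) (by simp) (by simp)⟩

end Groth.Agent.Lib.AlgSpMor.FlatMono
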