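import Groth.Agent.Lib.Lim.AvoidFibre
import Groth.Agent.Lib.AlgSpMor.Topo
import Groth.Agent.Lib.AlgSpMor.QC
import Groth.Agent.Lib.AlgSpMor.LocP
import Groth.Agent.Lib.AlgSpace.Diag

/-!
# Universal closedness of quasi-compact morphisms of spaces is tested on affine spaces
-/

set_option autoImplicit false
set_option linter.style.haveILetI false

universe u

open CategoryTheory CategoryTheory.Limits AlgebraicGeometry Topology
open Groth.Agent.Lib.AlgSpace
open scoped TensorProduct

namespace Groth.Agent.Lib.AlgSpMor.AffineSpaceClosed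

open AlgSp (Sp yon Representable RepWith IsAlgSpace LocP)
open AlgSp

variable {S : Scheme.{u}} {X : Sp S} {V : Over S}

/-- The base change of `f` along `g` is closed on points. -/
def ClosedOver (f : X ⟶ (yon S).obj V) {T : Over S} (g : T ⟶ V) : Prop :=
  ∀ (P : Sp S) (fst : P ⟶ X) (snd : P ⟶ (yon S).obj T),
    IsPullback fst snd f ((yon S).map g) → IsClosedMap (Points.map snd)

/-- Closedness restricts to open subschemes of the test scheme. -/
theorem closedOver_of_isOpenImmersion {f : X ⟶ (yon S).obj V} {T' T : Over S} {g' : T' ⟶ V}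
    {g : T ⟶ V} (k : T' ⟶ T) (hk : k ≫ g = g') [IsOpenImmersion k.left] (h : ClosedOver f g) :
    ClosedOver f g' := by
  subst hk
  intro P fst snd sq C hC
  have sqT := IsPullback.of_hasPullback f ((yon S).map g)
  have sq' : IsPullback fst snd f ((yon S).map k ≫ (yon S).map g) := by
    rwa [← (yon S).map_comp k g]
  have sq2 := IsPullback.of_right' sq' sqT
  let ρ := sqT.lift fst (snd ≫ (yon S).map k) (by rw [Category.assoc]; exact sq'.w)
  have hke : RepWith @IsOpenImmersion ((yon S).map k) := (repWith_yon_map_iff _ k).2 ‹_›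
  have hρ : IsOpenEmbedding (Points.map ρ) :=
    isOpenEmbedding_map (repWith_baseChange sq2.flip hke)
  have hkp : IsOpenEmbedding (Points.map ((yon S).map k)) := isOpenEmbedding_map hke
  have e : Points.map snd '' C = Points.map ((yon S).map k) ⁻¹'
      (Points.map (pullback.snd f ((yon S).map g)) '' closure (Points.map ρ '' C)) := by
    ext t
    constructor
    · rintro ⟨c, hc, rfl⟩
      refine ⟨Points.map ρ c, subset_closure ⟨c, hc, rfl⟩, ?_⟩
      rw [← Points.map_comp, ← Points.map_comp, sqT.lift_snd]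
    · rintro ⟨z, hz, hzt⟩
      obtain ⟨c, rfl, hc⟩ := exists_of_isPullback sq2 z t hzt
      have h1 : c ∈ Points.map ρ ⁻¹' closure (Points.map ρ '' C) := hz
      rw [hρ.isOpenMap.preimage_closure_eq_closure_preimage hρ.continuous,
        Set.preimage_image_eq _ hρ.injective, hC.closure_eq] at h1
      exact ⟨c, h1, hc⟩
  rw [e]
  exact (h _ _ _ sqT _ isClosed_closure).preimage hkp.continuous

section Rings

variable {A C : Type u} [CommRing A] [CommRing C] [Algebra A C] (s : Spec (CommRingCat.of A) ⟶ S)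

/-- The spectrum of an algebra as a scheme over `S`. -/
noncomputable abbrev spec (R : Type u) [CommRing R] [Algebra A R] : Over S :=
  Over.mk (Spec.map (CommRingCat.ofHom (algebraMap A R)) ≫ s)

/-- The structure map of the spectrum of an algebra. -/
noncomputable abbrev specπ (R : Type u) [CommRing R] [Algebra A R] : spec s R ⟶ Over.mk s :=
  Over.homMk (Spec.map (CommRingCat.ofHom (algebraMap A R)))

/-- The map of spectra of an algebra map. -/
noncomputable abbrev specMap {R R' : Type u} [CommRing R] [Algebra A R] [CommRing R'] [Algebra A R']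
    (φ : R →ₐ[A] R') : spec s R' ⟶ spec s R :=
  Over.homMk (Spec.map (CommRingCat.ofHom φ.toRingHom)) (by
    show Spec.map _ ≫ Spec.map _ ≫ s = Spec.map _ ≫ s
    rw [← Spec.map_comp_assoc]
    exact congrArg (fun k ↦ Spec.map k ≫ s) (CommRingCat.hom_ext φ.comp_algebraMap))

theorem specMap_π {R R' : Type u} [CommRing R] [Algebra A R] [CommRing R'] [Algebra A R']
    (φ : R →ₐ[A] R') : specMap s φ ≫ specπ s R = specπ s R' := by
  refine Over.OverMorphism.ext ?_
  show Spec.map _ ≫ Spec.map _ = Spec.map _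
  rw [← Spec.map_comp]
  exact congrArg Spec.map (CommRingCat.hom_ext φ.comp_algebraMap)

theorem isPullback_spec (R : Type u) [CommRing R] [Algebra A R] :
    IsPullback (specMap s (Algebra.TensorProduct.includeLeft : C →ₐ[A] C ⊗[A] R))
      (specMap s (Algebra.TensorProduct.includeRight : R →ₐ[A] C ⊗[A] R))
      (specπ s C) (specπ s R) :=
  IsPullback.of_map_of_faithful (Over.forget S)
    (isPullback_SpecMap_of_isPushout _ _ _ _ (CommRingCat.isPushout_tensorProduct A C R))

variable {f : X ⟶ (yon S).obj (Over.mk s)} {a : (yon S).obj (spec s C) ⟶ X}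

/-- An open neighbourhood avoiding the image of a closed set. -/
theorem exists_nhd (ha : RepWith @Etale a) (has : RepWith @Surjective a)
    (haf : a ≫ f = (yon S).map (specπ s C))
    (hcl : ∀ n : ℕ, ClosedOver f (specπ s (MvPolynomial (ULift.{u} (Fin n)) A)))
    {B : Type u} [CommRing B] [Algebra A B] {P : Sp S} {fst : P ⟶ X}
    {snd : P ⟶ (yon S).obj (spec s B)} (sq : IsPullback fst snd f ((yon S).map (specπ s B)))
    {Z : Set (Points P)} (hZ : IsClosed Z) (p : PrimeSpectrum B)
    (hp : ∀ z ∈ Z, Points.map snd z ≠ Points.schemeHomeo (spec s B) p) :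
    ∃ O : Set (PrimeSpectrum B), IsOpen O ∧ p ∈ O ∧
      ∀ q ∈ O, ∀ z ∈ Z, Points.map snd z ≠ Points.schemeHomeo (spec s B) q := by
  classical
  -- the charts of the base changes
  have key : ∀ (R : Type u) [CommRing R] [Algebra A R] (Q : Sp S) (q₁ : Q ⟶ X)
      (q₂ : Q ⟶ (yon S).obj (spec s R)), IsPullback q₁ q₂ f ((yon S).map (specπ s R)) →
      ∃ l : (yon S).obj (spec s (C ⊗[A] R)) ⟶ Q, RepWith @Etale l ∧ RepWith @Surjective l ∧
        IsPullback ((yon S).map (specMap s (Algebra.TensorProduct.includeLeft : C →ₐ[A] C ⊗[A] R)))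
          l a q₁ ∧
        l ≫ q₂ = (yon S).map
          (specMap s (Algebra.TensorProduct.includeRight : R →ₐ[A] C ⊗[A] R)) := by
    intro R _ _ Q q₁ q₂ sqQ
    have sqW := isPullback_yon (isPullback_spec (C := C) s R)
    rw [← haf] at sqW
    let l := sqQ.lift ((yon S).map (specMap s
      (Algebra.TensorProduct.includeLeft : C →ₐ[A] C ⊗[A] R)) ≫ a)
      ((yon S).map (specMap s (Algebra.TensorProduct.includeRight : R →ₐ[A] C ⊗[A] R)))
      (by rw [Category.assoc]; exact sqW.w)
    have sql : IsPullback ((yon S).map (specMap s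
        (Algebra.TensorProduct.includeLeft : C →ₐ[A] C ⊗[A] R))) l a q₁ := by
      refine IsPullback.of_bot (v₂₁ := q₂) (v₂₂ := f) ?_ (sqQ.lift_fst _ _ _).symm sqQ
      rw [sqQ.lift_snd]
      exact sqW
    exact ⟨l, repWith_baseChange sql ha, repWith_baseChange sql has, sql, sqQ.lift_snd _ _ _⟩
  obtain ⟨lB, hlB, hlBs, sqB, hlB₂⟩ := key B P fst snd sq
  -- the closed set on the chart
  have hZ' : IsClosed (Points.ofPt lB ⁻¹' Z) := hZ.preimage (Points.continuous_ofPt lB)
  obtain ⟨J, hJ⟩ : ∃ J : Ideal (C ⊗[A] B),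
      PrimeSpectrum.zeroLocus (J : Set (C ⊗[A] B)) = Points.ofPt lB ⁻¹' Z :=
    ((PrimeSpectrum.isClosed_iff_zeroLocus_ideal _).1 hZ').imp fun _ h ↦ h.symm
  have hsnd : ∀ x : ↥(spec s (C ⊗[A] B)).left, Points.map snd (Points.ofPt lB x) =
      Points.schemeHomeo (spec s B) (PrimeSpectrum.comap
        (Algebra.TensorProduct.includeRight : B →ₐ[A] C ⊗[A] B).toRingHom x) := fun x ↦ by
    rw [Points.map_ofPt, hlB₂, Points.ofPt_eq_map_ofScheme]
    exact Points.map_yon_map_apply _ x
  obtain ⟨sB, hsB⟩ := Lim.AvoidFibre.core J p.asIdeal fun Q hQ hJQ hQp ↦ by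
    have hx : (⟨Q, hQ⟩ : PrimeSpectrum (C ⊗[A] B)) ∈ Points.ofPt lB ⁻¹' Z := by
      rw [← hJ]; exact hJQ
    exact hp _ hx ((hsnd _).trans (congrArg _ (PrimeSpectrum.ext hQp)))
  obtain ⟨e⟩ : Nonempty (ULift.{u} (Fin sB.card) ≃ sB) :=
    ⟨Equiv.ulift.trans (Finset.equivFin sB).symm⟩
  let R := MvPolynomial (ULift.{u} (Fin sB.card)) A
  let φ : R →ₐ[A] B := MvPolynomial.aeval fun i ↦ (e i : B)
  obtain ⟨j, hjJ, hjQ⟩ := hsB R φ fun b hb ↦
    ⟨MvPolynomial.X (e.symm ⟨b, hb⟩), by
      show MvPolynomial.aeval (fun i ↦ (e i : B)) _ = b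
      rw [MvPolynomial.aeval_X, Equiv.apply_symm_apply]⟩
  -- the base change to polynomials
  have sqR := IsPullback.of_hasPullback f ((yon S).map (specπ s R))
  obtain ⟨lR, hlR, -, sqlR, hlR₂⟩ := key R _ _ _ sqR
  let φ₂ : C ⊗[A] R →ₐ[A] C ⊗[A] B := Algebra.TensorProduct.map (AlgHom.id A C) φ
  let ψ : P ⟶ pullback f ((yon S).map (specπ s R)) :=
    sqR.lift fst (snd ≫ (yon S).map (specMap s φ)) (by
      rw [Category.assoc, ← (yon S).map_comp (specMap s φ) (specπ s R), specMap_π]
      exact sq.w)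
  have hμl : (yon S).map (specMap s φ₂) ≫
      (yon S).map (specMap s (Algebra.TensorProduct.includeLeft : C →ₐ[A] C ⊗[A] R)) =
      (yon S).map (specMap s (Algebra.TensorProduct.includeLeft : C →ₐ[A] C ⊗[A] B)) := by
    rw [← (yon S).map_comp]
    refine congrArg (yon S).map (Over.OverMorphism.ext ?_)
    show Spec.map _ ≫ Spec.map _ = Spec.map _
    rw [← Spec.map_comp, ← CommRingCat.ofHom_comp]
    congr 2
    ext c
    simp [φ₂]
  have hμr : (yon S).map (specMap s φ₂) ≫
      (yon S).map (specMap s (Algebra.TensorProduct.includeRight : R →ₐ[A] C ⊗[A] R)) =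
      (yon S).map (specMap s (Algebra.TensorProduct.includeRight : B →ₐ[A] C ⊗[A] B)) ≫
        (yon S).map (specMap s φ) := by
    rw [← (yon S).map_comp, ← (yon S).map_comp]
    refine congrArg (yon S).map (Over.OverMorphism.ext ?_)
    show Spec.map _ ≫ Spec.map _ = Spec.map _ ≫ Spec.map _
    rw [← Spec.map_comp, ← Spec.map_comp, ← CommRingCat.ofHom_comp, ← CommRingCat.ofHom_comp]
    congr 2
  have hlψ : (yon S).map (specMap s φ₂) ≫ lR = lB ≫ ψ := by
    apply sqR.hom_ext
    · rw [Category.assoc, Category.assoc, sqR.lift_fst, ← sqlR.w, ← Category.assoc, hμl, sqB.w]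
    · rw [Category.assoc, Category.assoc, sqR.lift_snd, hlR₂, hμr, ← Category.assoc lB, hlB₂]
  have sqψ : IsPullback ((yon S).map (specMap s φ₂)) lB lR ψ := by
    refine IsPullback.of_right ?_ hlψ sqlR
    rw [hμl, sqR.lift_fst]
    exact sqB
  let Zn := closure (Points.map ψ '' Z)
  have hZn : Points.ofPt lR ⁻¹' Zn ⊆ PrimeSpectrum.zeroLocus {j} := by
    rw [(isOpenMap_ofPt hlR).preimage_closure_eq_closure_preimage (Points.continuous_ofPt lR)]
    refine closure_minimal ?_ (PrimeSpectrum.isClosed_zeroLocus _)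
    rintro x ⟨z, hz, hzx⟩
    rw [Points.ofPt_eq_map_ofScheme] at hzx
    obtain ⟨w, hw₁, hw₂⟩ := exists_of_isPullback sqψ (Points.ofScheme _ x) z hzx.symm
    obtain ⟨w, rfl⟩ := (Points.schemeHomeo _).surjective w
    have hw₁' : PrimeSpectrum.comap φ₂.toRingHom w = x :=
      (Points.schemeHomeo _).injective ((Points.map_yon_map_apply (specMap s φ₂) w).symm.trans hw₁)
    have hwZ : w ∈ Points.ofPt lB ⁻¹' Z := by
      rw [Set.mem_preimage, Points.ofPt_eq_map_ofScheme]
      exact hw₂.symm ▸ hz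
    rw [← hJ] at hwZ
    refine (PrimeSpectrum.mem_zeroLocus x {j}).2 (Set.singleton_subset_iff.2 ?_)
    subst hw₁'
    exact hwZ hjJ
  have himg : IsClosed (Points.map (pullback.snd f ((yon S).map (specπ s R))) '' Zn) :=
    hcl sB.card _ _ _ sqR Zn isClosed_closure
  refine ⟨(fun q ↦ Points.schemeHomeo (spec s R) (PrimeSpectrum.comap φ.toRingHom q)) ⁻¹'
      (Points.map (pullback.snd f ((yon S).map (specπ s R))) '' Zn)ᶜ,
    himg.isOpen_compl.preimage
      ((Points.schemeHomeo (spec s R)).continuous.comp (PrimeSpectrum.continuous_comap _)), ?_, ?_⟩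
  · rintro ⟨z, hz, hzp⟩
    obtain ⟨x, rfl⟩ := surjective_ofPt (repWith_baseChange sqlR has) z
    rw [Points.map_ofPt, hlR₂, Points.ofPt_eq_map_ofScheme] at hzp
    have hx : PrimeSpectrum.comap
        (Algebra.TensorProduct.includeRight : R →ₐ[A] C ⊗[A] R).toRingHom x =
          PrimeSpectrum.comap φ.toRingHom p :=
      (Points.schemeHomeo (spec s R)).injective
        ((Points.map_yon_map_apply (specMap s (Algebra.TensorProduct.includeRight :
          R →ₐ[A] C ⊗[A] R)) x).symm.trans hzp)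
    let x' : PrimeSpectrum (C ⊗[A] R) := x
    have hx' : j ∈ x'.asIdeal := Set.singleton_subset_iff.1
      ((PrimeSpectrum.mem_zeroLocus x' {j}).1 (hZn hz))
    exact hjQ x'.asIdeal x'.2 (congrArg PrimeSpectrum.asIdeal hx) hx'
  · intro q hq z hz hzq
    refine hq ⟨Points.map ψ z, subset_closure ⟨z, hz, rfl⟩, ?_⟩
    rw [← Points.map_comp, sqR.lift_snd, Points.map_comp, hzq]
    exact Points.map_yon_map_apply (specMap s φ) q

end Rings

/-- A quasi-compact map from a space to a scheme is universally closed if closed on affine spaces. -/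
theorem closedOver_of_affineSpace (hX : IsAlgSpace X) {f : X ⟶ (yon S).obj V}
    (hqc : IsQuasiCompactMor f)
    (h : ∀ n : ℕ, ClosedOver f (Over.homMk (𝔸(ULift.{u} (Fin n); V.left) ↘ V.left) :
      Over.mk ((𝔸(ULift.{u} (Fin n); V.left) ↘ V.left) ≫ V.hom) ⟶ V))
    {T : Over S} (g : T ⟶ V) : ClosedOver f g := by
  intro P fst snd sq Z hZ
  rw [← isOpen_compl_iff]
  refine isOpen_iff_mem_nhds.2 fun t ht ↦ ?_
  obtain ⟨t, rfl⟩ := (Points.schemeHomeo T).surjective t
  obtain ⟨_, ⟨W, hW, rfl⟩, htW, -⟩ :=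
    V.left.isBasis_affineOpens.exists_subset_of_mem_open (Set.mem_univ (g.left t)) isOpen_univ
  obtain ⟨_, ⟨D, hD, rfl⟩, htD, hDW⟩ :=
    T.left.isBasis_affineOpens.exists_subset_of_mem_open htW (W.2.preimage g.left.continuous)
  -- rings
  let A : Type u := Γ(V.left, W)
  let B : Type u := Γ(T.left, D)
  letI : Algebra A B := (g.left.appLE W D hDW).hom.toAlgebra
  let s : Spec (CommRingCat.of A) ⟶ S := hW.fromSpec ≫ V.hom
  let w : Over.mk s ⟶ V := Over.homMk hW.fromSpec
  haveI := hW.isOpenImmersion_fromSpec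
  haveI : IsOpenImmersion w.left := inferInstanceAs (IsOpenImmersion hW.fromSpec)
  have sqW := IsPullback.of_hasPullback f ((yon S).map w)
  let fW := pullback.snd f ((yon S).map w)
  have hXW : IsAlgSpace (pullback f ((yon S).map w)) :=
    isAlgSpace_of_isPullback sqW (IsAlgSpace.yon_obj V).diag hX (IsAlgSpace.yon_obj _)
  haveI : IsAffine (Over.mk s).left := inferInstanceAs (IsAffine (Spec _))
  haveI : CompactSpace (Points (pullback f ((yon S).map w))) :=
    QC.compactSpace_of_isQuasiCompactMor hqc sqW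
  obtain ⟨U, a, hU, ha, has⟩ := QC.exists_affine_atlas hXW
  haveI := hU
  obtain ⟨m, hm⟩ := (yon S).map_surjective (a ≫ fW)
  let C : Type u := Γ(U.left, ⊤)
  obtain ⟨γ, hγ⟩ := Spec.map_surjective (U.left.isoSpec.inv ≫ m.left :
    Spec (CommRingCat.of C) ⟶ Spec (CommRingCat.of A))
  letI : Algebra A C := γ.hom.toAlgebra
  have hmU : Spec.map (CommRingCat.ofHom (algebraMap A C)) = U.left.isoSpec.inv ≫ m.left := hγ
  let u : spec s C ⟶ U := Over.homMk U.left.isoSpec.inv (by
    show U.left.isoSpec.inv ≫ U.hom = Spec.map _ ≫ s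
    rw [hmU, Category.assoc, show m.left ≫ s = U.hom from Over.w m])
  haveI : IsIso u.left := inferInstanceAs (IsIso U.left.isoSpec.inv)
  let a' : (yon S).obj (spec s C) ⟶ pullback f ((yon S).map w) := (yon S).map u ≫ a
  have ha' : RepWith @Etale a' := LocP.repWith_etale_comp u ha
  have has' : RepWith @Surjective a' := LocP.repWith_surjective_comp u has
  have haf : a' ≫ fW = (yon S).map (specπ s C) := by
    rw [Category.assoc, ← hm, ← (yon S).map_comp u m]
    exact congrArg (yon S).map (Over.OverMorphism.ext hmU.symm)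
  -- closedness over polynomial rings
  have hcl : ∀ n : ℕ, ClosedOver fW (specπ s (MvPolynomial (ULift.{u} (Fin n)) A)) := by
    intro n Q q₁ q₂ sqQ
    haveI : IsOpenImmersion (AffineSpace.map (ULift.{u} (Fin n)) hW.fromSpec) :=
      MorphismProperty.of_isPullback (AffineSpace.isPullback_map hW.fromSpec).flip
        (inferInstance : IsOpenImmersion hW.fromSpec)
    let An : Over S := Over.mk ((𝔸(ULift.{u} (Fin n); V.left) ↘ V.left) ≫ V.hom)
    have hk : ((AffineSpace.SpecIso (ULift.{u} (Fin n)) (CommRingCat.of A)).inv ≫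
        AffineSpace.map (ULift.{u} (Fin n)) hW.fromSpec) ≫
          (𝔸(ULift.{u} (Fin n); V.left) ↘ V.left) =
        Spec.map (CommRingCat.ofHom (algebraMap A (MvPolynomial (ULift.{u} (Fin n)) A))) ≫
          hW.fromSpec := by
      rw [Category.assoc, AffineSpace.map_over, AffineSpace.SpecIso_inv_over_assoc]
      rfl
    let k : spec s (MvPolynomial (ULift.{u} (Fin n)) A) ⟶ An :=
      Over.homMk ((AffineSpace.SpecIso (ULift.{u} (Fin n)) (CommRingCat.of A)).inv ≫
        AffineSpace.map (ULift.{u} (Fin n)) hW.fromSpec) (by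
        show _ ≫ _ ≫ V.hom = Spec.map _ ≫ hW.fromSpec ≫ V.hom
        rw [← Category.assoc, hk, Category.assoc])
    haveI : IsOpenImmersion k.left := inferInstanceAs (IsOpenImmersion
      ((AffineSpace.SpecIso (ULift.{u} (Fin n)) (CommRingCat.of A)).inv ≫
        AffineSpace.map (ULift.{u} (Fin n)) hW.fromSpec))
    refine closedOver_of_isOpenImmersion (g' := specπ s _ ≫ w) k (Over.OverMorphism.ext (by exact hk)) (h n)
      Q (q₁ ≫ pullback.fst f ((yon S).map w)) q₂ ?_
    rw [(yon S).map_comp]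
    exact sqQ.paste_horiz sqW
  -- the base change to `D`
  let d : spec s B ⟶ T := Over.homMk hD.fromSpec (by
    show hD.fromSpec ≫ T.hom = Spec.map _ ≫ hW.fromSpec ≫ V.hom
    rw [← Over.w g, ← Category.assoc, ← Category.assoc]
    exact congrArg (· ≫ V.hom) (IsAffineOpen.SpecMap_appLE_fromSpec g.left hW hD hDW).symm)
  haveI := hD.isOpenImmersion_fromSpec
  have hd : d ≫ g = specπ s B ≫ w :=
    Over.OverMorphism.ext (IsAffineOpen.SpecMap_appLE_fromSpec g.left hW hD hDW).symm
  have sqd := IsPullback.of_hasPullback snd ((yon S).map d)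
  let p₁ := pullback.fst snd ((yon S).map d)
  have sq3 : IsPullback (p₁ ≫ fst) (pullback.snd snd ((yon S).map d)) f
      ((yon S).map (specπ s B) ≫ (yon S).map w) := by
    rw [← (yon S).map_comp, ← hd, (yon S).map_comp d g]
    exact sqd.paste_horiz sq
  have sqB := IsPullback.of_right' sq3 sqW
  let p : PrimeSpectrum B := hD.primeIdealOf ⟨t, htD⟩
  have hpt : d.left p = t := hD.fromSpec_primeIdealOf ⟨t, htD⟩
  obtain ⟨O, hO, hpO, hOZ⟩ := exists_nhd s ha' has' haf hcl sqB
    (hZ.preimage (Points.continuous_map p₁)) p fun z hz hzp ↦ ht ⟨Points.map p₁ z, hz, by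
      rw [← Points.map_comp, sqd.w, Points.map_comp, hzp]
      exact (Points.map_yon_map_apply d p).trans (congrArg _ hpt)⟩
  have hdO : IsOpen (d.left '' O) := hD.fromSpec.isOpenEmbedding.isOpenMap _ hO
  have hmem : Points.schemeHomeo T t ∈ Points.schemeHomeo T '' (d.left '' O) :=
    ⟨t, ⟨p, hpO, hpt⟩, rfl⟩
  refine Filter.mem_of_superset (((Points.schemeHomeo T).isOpenMap _ hdO).mem_nhds hmem) ?_
  rintro _ ⟨_, ⟨q, hq, rfl⟩, rfl⟩ ⟨z, hz, hzq⟩
  obtain ⟨c, rfl, hc⟩ := exists_of_isPullback sqd z (Points.schemeHomeo (spec s B) q)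
    (hzq.trans (Points.map_yon_map_apply d q).symm)
  exact hOZ q hq c hz hc

/-- Universal closedness from closedness over affine spaces over a scheme. -/
theorem isUnivClosedMor (hX : IsAlgSpace X) {f : X ⟶ (yon S).obj V} (hqc : IsQuasiCompactMor f)
    (h : ∀ n : ℕ, ClosedOver f (Over.homMk (𝔸(ULift.{u} (Fin n); V.left) ↘ V.left) :
      Over.mk ((𝔸(ULift.{u} (Fin n); V.left) ↘ V.left) ≫ V.hom) ⟶ V)) :
    IsUnivClosedMor f :=
  (Topo.univSp_iff_affine Topo.cartLocal_isClosedMap f).2 fun Z _ g P fst snd sq ↦ by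
    obtain ⟨g, rfl⟩ := (yon S).map_surjective g
    exact closedOver_of_affineSpace hX hqc h g P fst snd sq

end Groth.Agent.Lib.AlgSpMor.AffineSpaceClosed
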