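import Mathlib.AlgebraicGeometry.Morphisms.FinitePresentation
import Mathlib.AlgebraicGeometry.Morphisms.Etale
import Groth.Agent.Lib.AlgSpace.Points
import Groth.Agent.Lib.AlgSpace.Diag

/-! # Locally constructible sets under morphisms of schemes and etale covers -/

universe u

open CategoryTheory CategoryTheory.Limits AlgebraicGeometry Topology

namespace Groth.Agent.Lib.AlgSpMor.Constructible

variable {X Y : Scheme.{u}}

/-- Preimages of locally constructible sets are locally constructible. -/
theorem isLocallyConstructible_preimage (f : X ⟶ Y) {s : Set Y} (hs : IsLocallyConstructible s) :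
    IsLocallyConstructible (f ⁻¹' s) := by
  intro x
  obtain ⟨V, hV, hxV, -⟩ := exists_isAffineOpen_mem_and_subset (U := ⊤) (Set.mem_univ (f x))
  obtain ⟨O, hO, hxO, hOV⟩ := exists_isAffineOpen_mem_and_subset (U := f ⁻¹ᵁ V) hxV
  haveI : IsAffine V.toScheme := hV
  haveI : IsAffine O.toScheme := hO
  have h1 : IsConstructible (V.ι ⁻¹' s) :=
    (hs.preimage_of_isOpenEmbedding V.ι.isOpenEmbedding).isConstructible
  have h2 := (f.resLE V O hOV).isConstructible_preimage h1
  have h3 : (f.resLE V O hOV) ⁻¹' (V.ι ⁻¹' s) = (O.ι ⁻¹' (f ⁻¹' s)) := by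
    ext z
    show V.ι (f.resLE V O hOV z) ∈ s ↔ f (O.ι z) ∈ s
    rw [← Scheme.Hom.comp_apply, Scheme.Hom.resLE_comp_ι, Scheme.Hom.comp_apply]
  rw [h3] at h2
  exact ⟨O, O.2.mem_nhds hxO, O.2, h2⟩

/-- A set is locally constructible if its preimage under an etale surjection is. -/
theorem isLocallyConstructible_of_preimage (p : X ⟶ Y) [Etale p] [Surjective p] {W : Set Y}
    (h : IsLocallyConstructible (p ⁻¹' W)) : IsLocallyConstructible W := by
  intro y
  obtain ⟨O, hO, hyO, -⟩ := exists_isAffineOpen_mem_and_subset (U := ⊤) (Set.mem_univ y)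
  haveI : IsAffine O.toScheme := hO
  let g : (p ⁻¹ᵁ O).toScheme ⟶ O.toScheme := p ∣_ O
  haveI : Surjective g := IsZariskiLocalAtTarget.restrict (P := @Surjective) inferInstance O
  haveI : Etale g := IsZariskiLocalAtTarget.restrict (P := @Etale) inferInstance O
  obtain ⟨Q : (p ⁻¹ᵁ O).toScheme.Opens, hQ, e⟩ :=
    g.isOpenMap.exists_opens_image_eq_of_prespectralSpace g.continuous (U := Set.univ)
      (by rw [g.surjective.range_eq]) isOpen_univ isCompact_univ
  haveI : CompactSpace Q.toScheme := isCompact_iff_compactSpace.mp hQ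
  haveI : QuasiCompact (Q.ι ≫ g) := (quasiCompact_iff_compactSpace _).mpr inferInstance
  have h2 : IsLocallyConstructible ((Q.ι ≫ g) '' ((Q.ι ≫ g) ⁻¹' (O.ι ⁻¹' W))) := by
    refine (Q.ι ≫ g).isLocallyConstructible_image ?_
    have := h.preimage_of_isOpenEmbedding (Q.ι ≫ (p ⁻¹ᵁ O).ι).isOpenEmbedding
    convert this using 1
    ext z
    simp only [Set.mem_preimage, ← Scheme.Hom.comp_apply]
    rw [Category.assoc, morphismRestrict_ι, ← Category.assoc]
  have hs : Function.Surjective (Q.ι ≫ g) := fun z ↦ by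
    obtain ⟨q, hq, rfl⟩ : z ∈ g '' (Q : Set (p ⁻¹ᵁ O).toScheme) := e.ge (Set.mem_univ z)
    exact ⟨⟨q, hq⟩, rfl⟩
  rw [Set.image_preimage_eq _ hs] at h2
  exact ⟨O, O.2.mem_nhds hyO, O.2, h2.isConstructible⟩

variable {S : Scheme.{u}}

open AlgSp

/-- Etale local constructibility can be tested on one atlas. -/
theorem isLocallyConstructible_ofPt_preimage {F : Sp S} (hF : Representable (Limits.diag F))
    {V : Over S} {b : (yon S).obj V ⟶ F} (hb : RepWith @Etale b) (hbs : RepWith @Surjective b)
    {E : Set (Points F)} (hE : IsLocallyConstructible (Points.ofPt b ⁻¹' E)) {U : Over S}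
    (g : (yon S).obj U ⟶ F) : IsLocallyConstructible (Points.ofPt g ⁻¹' E) := by
  obtain ⟨T, p, q, sq⟩ := AlgSpace.exists_isPullback_yon hF g b
  haveI : Etale p.left := AlgSpace.repWith_property hb sq.flip
  haveI : Surjective p.left := AlgSpace.repWith_property hbs sq.flip
  refine isLocallyConstructible_of_preimage p.left ?_
  convert isLocallyConstructible_preimage q.left hE using 1
  ext t
  show Points.ofPt g (p.left t) ∈ E ↔ Points.ofPt b (q.left t) ∈ E
  rw [← AlgSpace.ofPt_yon_map_comp, ← AlgSpace.ofPt_yon_map_comp, sq.w]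

end Groth.Agent.Lib.AlgSpMor.Constructible
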