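import Groth.Agent.Lib.AlgSpMor.LocP
import Groth.Agent.Lib.AlgSpMor.Proper
import Groth.Agent.H47.ConsFormal
import Groth.Agent.Lib.Flat55.FlatDescend

/-!
# Flatness by fibres for algebraic spaces: reduction to charts
-/

set_option autoImplicit false
set_option linter.style.haveILetI false

universe u

open CategoryTheory CategoryTheory.Limits AlgebraicGeometry Opposite
open Groth.Agent.Lib.AlgSpace

namespace Groth.Agent.Lib.AlgSpMor.FlatFibres

open AlgSp (Sp yon Representable RepWith IsAlgSpace LocP)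

variable {S : Scheme.{u}} {X Y Z : Sp S}

/-- The fibres of a map of algebraic spaces over a third one are flat. -/
def FibrewiseFlat (f : X ⟶ Y) (h : Y ⟶ Z) : Prop :=
  ∀ (K : Type u) [Field K] (sK : Spec (CommRingCat.of K) ⟶ S)
      (z : (yon S).obj (Over.mk sK) ⟶ Z) (Xz Yz : Sp S)
      (pX : Xz ⟶ X) (qX : Xz ⟶ (yon S).obj (Over.mk sK))
      (pY : Yz ⟶ Y) (qY : Yz ⟶ (yon S).obj (Over.mk sK)) (fz : Xz ⟶ Yz),
      IsPullback pX qX (f ≫ h) z → IsPullback pY qY h z → fz ≫ pY = pX ≫ f → fz ≫ qY = qX →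
      LocP @Flat fz

theorem exists_fibre_chart {X Z : Sp S} (hX : IsAlgSpace X) (hZ : IsAlgSpace Z) {g : X ⟶ Z}
    {U W K : Over S} {a : (yon S).obj U ⟶ X} (ha : RepWith @Etale a)
    {c : (yon S).obj W ⟶ Z} (hc : RepWith @Etale c) {m : U ⟶ W}
    (w : a ≫ g = (yon S).map m ≫ c) (zW : K ⟶ W) :
    ∃ aK : (yon S).obj (Limits.pullback m zW) ⟶ pullback g ((yon S).map zW ≫ c),
      RepWith @Etale aK ∧
      aK ≫ pullback.fst g ((yon S).map zW ≫ c) =
        (yon S).map (Limits.pullback.fst m zW) ≫ a ∧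
      aK ≫ pullback.snd g ((yon S).map zW ≫ c) = (yon S).map (Limits.pullback.snd m zW) := by
  have sqW := IsPullback.of_hasPullback g c
  have hXW : IsAlgSpace (pullback g c) :=
    isAlgSpace_of_isPullback sqW hZ.diag hX (IsAlgSpace.yon_obj W)
  let a' : (yon S).obj U ⟶ pullback g c := pullback.lift a ((yon S).map m) w
  have ha'1 : a' ≫ pullback.fst g c = a := pullback.lift_fst _ _ _
  have ha'2 : a' ≫ pullback.snd g c = (yon S).map m := pullback.lift_snd _ _ _
  have ha' : RepWith @Etale a' := Proper.repWith_etale_of_comp hXW.diag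
    (repWith_baseChange sqW.flip hc) (by rw [ha'1]; exact ha)
  have sqK := IsPullback.of_hasPullback g ((yon S).map zW ≫ c)
  let pr : pullback g ((yon S).map zW ≫ c) ⟶ pullback g c :=
    pullback.lift (pullback.fst _ _) (pullback.snd _ _ ≫ (yon S).map zW)
      (by rw [Category.assoc, sqK.w])
  have hpr1 : pr ≫ pullback.fst g c = pullback.fst _ _ := pullback.lift_fst _ _ _
  have hpr2 : pr ≫ pullback.snd g c = pullback.snd _ _ ≫ (yon S).map zW := pullback.lift_snd _ _ _
  have sq1 : IsPullback pr (pullback.snd g ((yon S).map zW ≫ c)) (pullback.snd g c)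
      ((yon S).map zW) := IsPullback.of_right (by rw [hpr1]; exact sqK) hpr2 sqW
  have sqU := isPullback_yon (IsPullback.of_hasPullback m zW)
  let aK : (yon S).obj (Limits.pullback m zW) ⟶ pullback g ((yon S).map zW ≫ c) :=
    sq1.lift ((yon S).map (Limits.pullback.fst m zW) ≫ a') ((yon S).map (Limits.pullback.snd m zW))
      (by rw [Category.assoc, ha'2, ← Functor.map_comp, ← Functor.map_comp, pullback.condition])
  have h1 : aK ≫ pr = (yon S).map (Limits.pullback.fst m zW) ≫ a' := sq1.lift_fst _ _ _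
  have h2 : aK ≫ pullback.snd _ _ = (yon S).map (Limits.pullback.snd m zW) := sq1.lift_snd _ _ _
  refine ⟨aK, repWith_baseChange (f := a') (g := pr)
    (IsPullback.of_bot (by rw [h2, ha'2]; exact sqU) h1.symm sq1) ha', ?_, h2⟩
  rw [← hpr1, reassoc_of% h1, ha'1]

/-- Fibrewise flatness gives flatness of the fibre maps of any chart. -/
theorem flat_fiberMap (hX : IsAlgSpace X) (hY : IsAlgSpace Y) (hZ : IsAlgSpace Z) {f : X ⟶ Y}
    {h : Y ⟶ Z} (hfib : FibrewiseFlat f h) {U V W : Over S} {a : (yon S).obj U ⟶ X}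
    (ha : RepWith @Etale a) {b : (yon S).obj V ⟶ Y} (hb : RepWith @Etale b)
    {c : (yon S).obj W ⟶ Z} (hc : RepWith @Etale c) {k : U ⟶ V} {n : V ⟶ W}
    (w₁ : a ≫ f = (yon S).map k ≫ b) (w₂ : b ≫ h = (yon S).map n ≫ c) (s : W.left) :
    Flat (MoreMor.fiberMap k.left n.left s) := by
  let K : Over S := Over.mk (W.left.fromSpecResidueField s ≫ W.hom)
  let zW : K ⟶ W := Over.homMk (W.left.fromSpecResidueField s) rfl
  have w : a ≫ f ≫ h = (yon S).map (k ≫ n) ≫ c := by
    rw [reassoc_of% w₁, w₂, Functor.map_comp, Category.assoc]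
  obtain ⟨aU, haU, hU1, hU2⟩ := exists_fibre_chart hX hZ ha hc w zW
  obtain ⟨aV, haV, hV1, hV2⟩ := exists_fibre_chart hY hZ hb hc w₂ zW
  let fz : pullback (f ≫ h) ((yon S).map zW ≫ c) ⟶ pullback h ((yon S).map zW ≫ c) :=
    pullback.lift (pullback.fst _ _ ≫ f) (pullback.snd _ _)
      (by rw [Category.assoc]; exact pullback.condition)
  let m : Limits.pullback (k ≫ n) zW ⟶ Limits.pullback n zW :=
    Limits.pullback.lift (Limits.pullback.fst _ _ ≫ k) (Limits.pullback.snd _ _)
      (by rw [Category.assoc]; exact pullback.condition)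
  have hm1 : m ≫ Limits.pullback.fst n zW = Limits.pullback.fst _ _ ≫ k := pullback.lift_fst _ _ _
  have hm2 : m ≫ Limits.pullback.snd n zW = Limits.pullback.snd _ _ := pullback.lift_snd _ _ _
  have hfz1 : fz ≫ pullback.fst _ _ = pullback.fst _ _ ≫ f := pullback.lift_fst _ _ _
  have hfz2 : fz ≫ pullback.snd _ _ = pullback.snd _ _ := pullback.lift_snd _ _ _
  have hflat : Flat m.left := hfib (W.left.residueField s) (W.left.fromSpecResidueField s ≫ W.hom)
    ((yon S).map zW ≫ c) _ _ _ _ _ _ fz (IsPullback.of_hasPullback _ _)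
    (IsPullback.of_hasPullback _ _) hfz1 hfz2 aU aV m haU haV (by
      apply pullback.hom_ext
      · rw [Category.assoc, hfz1, reassoc_of% hU1, w₁, Category.assoc, hV1,
          ← Functor.map_comp_assoc, ← Functor.map_comp_assoc, hm1]
      · rw [Category.assoc, hfz2, hU2, Category.assoc, hV2, ← Functor.map_comp, hm2])
  have sqU : IsPullback (Limits.pullback.fst (k ≫ n) zW).left (Limits.pullback.snd (k ≫ n) zW).left
      (k.left ≫ n.left) (W.left.fromSpecResidueField s) :=
    (IsPullback.of_hasPullback (k ≫ n) zW).map (Over.forget S)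
  have sqV : IsPullback (Limits.pullback.fst n zW).left (Limits.pullback.snd n zW).left
      n.left (W.left.fromSpecResidueField s) :=
    (IsPullback.of_hasPullback n zW).map (Over.forget S)
  have e : sqU.isoPullback.hom ≫ MoreMor.fiberMap k.left n.left s =
      m.left ≫ sqV.isoPullback.hom := by
    rw [Groth.Agent.H47.ConsFormal.fiberMap_eq]
    apply pullback.hom_ext
    · refine (Category.assoc _ _ _).trans ((congrArg (_ ≫ ·) (pullback.lift_fst _ _ _)).trans ?_)
      rw [IsPullback.isoPullback_hom_fst_assoc, Category.assoc,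
        IsPullback.isoPullback_hom_fst, ← Over.comp_left, ← Over.comp_left, hm1]
    · refine (Category.assoc _ _ _).trans ((congrArg (_ ≫ ·) (pullback.lift_snd _ _ _)).trans ?_)
      rw [IsPullback.isoPullback_hom_snd, Category.assoc,
        IsPullback.isoPullback_hom_snd, ← Over.comp_left, hm2]
  refine (MorphismProperty.cancel_left_of_respectsIso @Flat sqU.isoPullback.hom _).1 ?_
  rw [e]
  exact (MorphismProperty.cancel_right_of_respectsIso @Flat _ _).2 hflat

/-- Flatness of the composite and of the fibres gives flatness, given the criterion on charts. -/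
theorem locP_flat (hX : IsAlgSpace X) (hY : IsAlgSpace Y) (hZ : IsAlgSpace Z) {f : X ⟶ Y}
    {h : Y ⟶ Z} (hfl : LocP @Flat (f ≫ h)) (hfib : FibrewiseFlat f h)
    (crit : ∀ {U V W : Over S} (a : (yon S).obj U ⟶ X) (b : (yon S).obj V ⟶ Y)
      (c : (yon S).obj W ⟶ Z) (k : U ⟶ V) (n : V ⟶ W), RepWith @Etale a → RepWith @Etale b →
      RepWith @Etale c → a ≫ f = (yon S).map k ≫ b → b ≫ h = (yon S).map n ≫ c →
      Flat (k.left ≫ n.left) → (∀ s, Flat (MoreMor.fiberMap k.left n.left s)) → Flat k.left) :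
    LocP @Flat f ∧ (AlgSp.IsSurjectiveMor f → LocP @Flat h) := by
  have hP := SourceDescent.Scheme.flat.{u}
  have chart : ∀ {U V W : Over S} (a : (yon S).obj U ⟶ X) (b : (yon S).obj V ⟶ Y)
      (c : (yon S).obj W ⟶ Z) (k : U ⟶ V) (n : V ⟶ W), RepWith @Etale a → RepWith @Etale b →
      RepWith @Etale c → a ≫ f = (yon S).map k ≫ b → b ≫ h = (yon S).map n ≫ c →
      Flat k.left ∧ Flat (k.left ≫ n.left) := by
    intro U V W a b c k n ha hb hc w₁ w₂
    have h2 : Flat (k.left ≫ n.left) := hfl a c (k ≫ n) ha hc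
      (by rw [reassoc_of% w₁, w₂, Functor.map_comp, Category.assoc])
    exact ⟨crit a b c k n ha hb hc w₁ w₂ h2 fun s => flat_fiberMap hX hY hZ hfib ha hb hc w₁ w₂ s, h2⟩
  obtain ⟨V, W, b, c, n, hb, hbs, hc, -, w₂⟩ := LocP.exists_chart hY hZ h
  obtain ⟨U, a, k, ha, has, w₁⟩ := LocP.exists_chart_over hX hY f hb hbs
  obtain ⟨hk, hkn⟩ := chart a b c k n ha hb hc w₁ w₂
  refine ⟨LocP.locP_of_chart hP hX.diag hY.diag ha has hb w₁ hk, fun hs => ?_⟩
  refine LocP.locP_of_chart hP hY.diag hZ.diag hb hbs hc w₂ ?_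
  obtain ⟨U', p, q, sq⟩ := exists_isPullback_yon hY.diag (a ≫ f) b
  haveI : Etale p.left := repWith_property hb sq.flip
  haveI : Surjective q.left := ⟨fun v => by
    obtain ⟨x, hx⟩ := hs (AlgSp.Points.ofPt b v)
    obtain ⟨u, rfl⟩ := surjective_ofPt has x
    rw [AlgSp.Points.map_ofPt] at hx
    obtain ⟨z, -, hz⟩ := (ofPt_eq_ofPt_iff_of_isPullback sq u v).1 hx
    exact ⟨z, hz⟩⟩
  obtain ⟨hq, hqn⟩ := chart ((yon S).map p ≫ a) b c q n (LocP.repWith_etale_comp p ha) hb hc
    (by rw [Category.assoc, sq.w]) w₂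
  exact Groth.Agent.Lib.Flat55.FlatDescend.flat_of_comp q.left n.left

end Groth.Agent.Lib.AlgSpMor.FlatFibres
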