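import Mathlib

/-!
# Flat algebras with etale self-product

If `A → C` is flat and `C ⊗[A] C` is etale over `C`, then `A → C` factors as `A → B → C` with `B → C`
etale and `C ⊗[A] C = C ⊗[B] C`; here `B` is the equalizer of `C ⇉ C ⊗[A] C`.
-/

set_option autoImplicit false
set_option linter.style.haveILetI false

universe u

open TensorProduct

namespace Groth.Agent.Lib.AlgSpMor.FlatMonoAlg

section Torsion

variable {R : Type u} [CommRing R] {F X Y : Type u} [AddCommGroup F] [Module R F] [Module.Flat R F]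
  [AddCommGroup X] [Module R X] [AddCommGroup Y] [Module R Y]

/-- Tensoring with a flat module preserves torsion kernels. -/
theorem lTensor_ker_torsion (f : X →ₗ[R] Y) (M : Submonoid R)
    (h : ∀ x, f x = 0 → ∃ t ∈ M, t • x = 0) (z : F ⊗[R] X) (hz : f.lTensor F z = 0) :
    ∃ t ∈ M, t • z = 0 := by
  obtain ⟨w, rfl⟩ := (Module.Flat.lTensor_exact F (f.exact_subtype_ker_map) z).1 hz
  clear hz
  induction w with
  | zero => exact ⟨1, M.one_mem, by simp⟩
  | tmul m x =>
    obtain ⟨t, ht, htx⟩ := h x.1 x.2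
    refine ⟨t, ht, ?_⟩
    rw [LinearMap.lTensor_tmul, ← TensorProduct.tmul_smul, Submodule.coe_subtype, htx,
      TensorProduct.tmul_zero]
  | add a b ha hb =>
    obtain ⟨s, hs, hsa⟩ := ha
    obtain ⟨t, ht, htb⟩ := hb
    refine ⟨s * t, M.mul_mem hs ht, ?_⟩
    rw [map_add, smul_add, mul_comm s t, mul_smul, hsa, smul_zero, zero_add, mul_comm t s,
      mul_smul, htb, smul_zero]

end Torsion

section LeftExact

variable {B C : Type u} [CommRing B] [CommRing C] [Algebra B C] [Module.Flat B C]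
  {M N : Type u} [AddCommGroup M] [Module B M] [AddCommGroup N] [Module B N]
  [Module.Flat B M] [Module.Flat B N]

/-- A map of flat modules is bijective if it is so after tensoring with an effective `C`. -/
theorem bijective_of_lTensor (hinj : Function.Injective (algebraMap B C))
    (hex : ∀ c : C, c ⊗ₜ[B] (1 : C) = (1 : C) ⊗ₜ[B] c → c ∈ Set.range (algebraMap B C))
    (f : M →ₗ[B] N) (hf : Function.Bijective (f.lTensor C)) : Function.Bijective f := by
  let L : B →ₗ[B] C := Algebra.linearMap B C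
  have hu : ∀ (P : Type u) [AddCommGroup P] [Module B P] [Module.Flat B P] (x : P),
      (1 : C) ⊗ₜ[B] x = 0 → x = 0 := by
    intro P _ _ _ x hx
    have h1 : Function.Injective (L.rTensor P) :=
      Module.Flat.rTensor_preserves_injective_linearMap (M := P) L hinj
    have h2 : (1 : B) ⊗ₜ[B] x = 0 := h1 (by simp [L, hx])
    simpa using congrArg (TensorProduct.lid B P) h2
  refine ⟨(injective_iff_map_eq_zero f).2 fun x hx ↦ hu M x (hf.1 (by simp [hx])), fun n ↦ ?_⟩
  obtain ⟨y, hy⟩ := hf.2 ((1 : C) ⊗ₜ[B] n)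
  let d : C →ₗ[B] C ⊗[B] C :=
    (TensorProduct.mk B C C).flip 1 - (TensorProduct.mk B C C) 1
  have hd : Function.Exact L d := fun c ↦
    ⟨fun h ↦ hex c (sub_eq_zero.1 (by simpa [d] using h)), fun ⟨b, hb⟩ ↦ by
      subst hb
      simp [d, L, Algebra.algebraMap_eq_smul_one]⟩
  have hnat : ∀ z : C ⊗[B] M, d.rTensor N (f.lTensor C z) = f.lTensor (C ⊗[B] C) (d.rTensor M z) :=
    fun z ↦ by
      rw [← LinearMap.comp_apply, ← LinearMap.comp_apply, LinearMap.rTensor_comp_lTensor,
        LinearMap.lTensor_comp_rTensor]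
  have hinj2 : Function.Injective (f.lTensor (C ⊗[B] C)) := by
    rw [LinearMap.lTensor_tensor, LinearMap.coe_comp, LinearMap.coe_comp]
    exact (TensorProduct.assoc B C C N).symm.injective.comp
      ((Module.Flat.lTensor_preserves_injective_linearMap (M := C) _ hf.1).comp
        (TensorProduct.assoc B C C M).injective)
  have hy0 : d.rTensor M y = 0 := hinj2 (by
    rw [← hnat, hy, map_zero]; simp [d])
  obtain ⟨w, rfl⟩ := (Module.Flat.rTensor_exact M hd y).1 hy0
  obtain ⟨m, rfl⟩ := (TensorProduct.lid B M).symm.surjective w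
  refine ⟨m, sub_eq_zero.1 (hu N _ ?_)⟩
  rw [TensorProduct.tmul_sub, ← hy]
  simp [L]

end LeftExact

section Spread

variable {B C : Type u} [CommRing B] [CommRing C] [Algebra B C]

/-- The self-product of a flat algebra with etale self-product is etale after localisation. -/
theorem etale_localization [Module.Flat B C] [Algebra.Etale C (C ⊗[B] C)]
    (p : Ideal B) [p.IsPrime] (hp : ∃ q : Ideal C, q.IsPrime ∧ q.under B = p) :
    Algebra.Etale (Localization.AtPrime p)
      (Localization (Algebra.algebraMapSubmonoid C p.primeCompl)) := by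
  let Bp := Localization.AtPrime p
  let Cp := Localization (Algebra.algebraMapSubmonoid C p.primeCompl)
  haveI : Algebra.IsPushout B Bp C Cp :=
    (Algebra.isPushout_of_isLocalization p.primeCompl Bp C Cp).symm
  let e : Bp ⊗[B] C ≃ₐ[Bp] Cp := Algebra.IsPushout.equiv B Bp C Cp
  haveI : Module.Flat Bp Cp := Module.Flat.of_linearEquiv e.symm.toLinearEquiv
  haveI : Module.FaithfullyFlat Bp Cp := by
    rw [Module.FaithfullyFlat.iff_flat_and_proper_ideal]
    refine ⟨inferInstance, fun I hI htop ↦ ?_⟩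
    obtain ⟨q, hq, rfl⟩ := hp
    have hd : Disjoint (Algebra.algebraMapSubmonoid C (q.under B).primeCompl : Set C) ↑q := by
      rw [Set.disjoint_left]
      rintro _ ⟨t, ht, rfl⟩ h
      exact ht h
    let Q : Ideal Cp := q.map (algebraMap C Cp)
    haveI : Q.IsPrime := IsLocalization.isPrime_of_isPrime_disjoint
      (Algebra.algebraMapSubmonoid C (q.under B).primeCompl) _ q hq hd
    have hle : I.map (algebraMap Bp Cp) ≤ Q := by
      refine Ideal.map_le_iff_le_comap.2 ((IsLocalRing.le_maximalIdeal hI).trans ?_)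
      rw [← Localization.AtPrime.map_eq_maximalIdeal, Ideal.map_le_iff_le_comap]
      intro b hb
      show algebraMap Bp Cp (algebraMap B Bp b) ∈ Q
      rw [← IsScalarTower.algebraMap_apply, IsScalarTower.algebraMap_apply B C Cp]
      exact Ideal.mem_map_of_mem _ hb
    rw [Ideal.smul_top_eq_map] at htop
    have htop' : I.map (algebraMap Bp Cp) = ⊤ := by
      refine Submodule.restrictScalars_injective Bp _ _ ?_
      simpa using htop
    exact ‹Q.IsPrime›.ne_top (top_le_iff.1 (htop' ▸ hle))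
  haveI : Algebra.Etale Cp (Cp ⊗[B] C) :=
    Algebra.Etale.of_equiv (Algebra.TensorProduct.cancelBaseChange B C Cp Cp C)
  haveI : Algebra.Etale Cp (Cp ⊗[Bp] Cp) :=
    Algebra.Etale.of_equiv ((Algebra.TensorProduct.cancelBaseChange B Bp Cp Cp C).symm.trans
      (Algebra.TensorProduct.congr AlgEquiv.refl e))
  exact Algebra.Etale.of_etale_tensorProduct_of_faithfullyFlat Cp

/-- Generators after localisation can be chosen with trivial denominators. -/
theorem exists_finset_adjoin_eq_top (M : Submonoid B) (Bp Cp : Type u) [CommRing Bp] [CommRing Cp]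
    [Algebra B Bp] [Algebra B Cp] [Algebra C Cp] [Algebra Bp Cp] [IsScalarTower B Bp Cp]
    [IsScalarTower B C Cp] [IsLocalization M Bp]
    [IsLocalization (Algebra.algebraMapSubmonoid C M) Cp] [Algebra.FiniteType Bp Cp] :
    ∃ D : Set C, D.Finite ∧ Algebra.adjoin Bp (algebraMap C Cp '' D) = ⊤ := by
  classical
  obtain ⟨s, hs⟩ := (Algebra.FiniteType.out : (⊤ : Subalgebra Bp Cp).FG)
  choose z hz using fun x : Cp ↦ IsLocalization.surj (Algebra.algebraMapSubmonoid C M) x
  refine ⟨(fun x ↦ (z x).1) '' (s : Set Cp), s.finite_toSet.image _, ?_⟩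
  refine eq_top_iff.2 (hs ▸ Algebra.adjoin_le fun x hx ↦ ?_)
  obtain ⟨m, hm, hm'⟩ := (z x).2.2
  have h := hz x
  rw [← hm', ← IsScalarTower.algebraMap_apply B C Cp, IsScalarTower.algebraMap_apply B Bp Cp] at h
  have hu : IsUnit (algebraMap B Bp m) := IsLocalization.map_units Bp ⟨m, hm⟩
  have hx' : x = algebraMap C Cp (z x).1 * algebraMap Bp Cp ↑hu.unit⁻¹ := by
    rw [← h, mul_assoc, ← map_mul, hu.mul_val_inv, map_one, mul_one]
  rw [hx']
  exact Subalgebra.mul_mem _ (Algebra.subset_adjoin ⟨_, ⟨x, hx, rfl⟩, rfl⟩)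
    (Subalgebra.algebraMap_mem _ _)

/-- Algebra generators of `C ⊗[B] C` over the left factor can be pure tensors. -/
theorem exists_finset_one_tmul [Algebra.FiniteType C (C ⊗[B] C)] :
    ∃ D : Set C, D.Finite ∧
      Algebra.adjoin C ((fun d : C ↦ (1 : C) ⊗ₜ[B] d) '' D) = ⊤ := by
  classical
  obtain ⟨s, hs⟩ := (Algebra.FiniteType.out : (⊤ : Subalgebra C (C ⊗[B] C)).FG)
  have h : ∀ z : C ⊗[B] C, ∃ D : Set C, D.Finite ∧
      z ∈ Algebra.adjoin C ((fun d : C ↦ (1 : C) ⊗ₜ[B] d) '' D) := fun z ↦ by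
    induction z with
    | zero => exact ⟨∅, Set.finite_empty, Subalgebra.zero_mem _⟩
    | tmul c d =>
      refine ⟨{d}, Set.finite_singleton d, ?_⟩
      have e : c ⊗ₜ[B] d = algebraMap C (C ⊗[B] C) c * ((1 : C) ⊗ₜ[B] d) := by simp
      rw [e]
      exact mul_mem (Subalgebra.algebraMap_mem _ c) (Algebra.subset_adjoin ⟨d, rfl, rfl⟩)
    | add a b ha hb =>
      obtain ⟨D₁, h₁, ha⟩ := ha
      obtain ⟨D₂, h₂, hb⟩ := hb
      exact ⟨D₁ ∪ D₂, h₁.union h₂, Subalgebra.add_mem _
        (Algebra.adjoin_mono (Set.image_mono Set.subset_union_left) ha)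
        (Algebra.adjoin_mono (Set.image_mono Set.subset_union_right) hb)⟩
  choose D hD hmem using h
  refine ⟨⋃ x ∈ (s : Set (C ⊗[B] C)), D x, s.finite_toSet.biUnion fun x _ ↦ hD x, ?_⟩
  refine eq_top_iff.2 (hs ▸ Algebra.adjoin_le fun x hx ↦ ?_)
  exact Algebra.adjoin_mono (Set.image_mono (Set.subset_biUnion_of_mem hx)) (hmem x)

/-- A finitely presented approximation of `C` near `p`. -/
theorem exists_approximation [Module.Flat B C] [Algebra.Etale C (C ⊗[B] C)]
    (p : Ideal B) [p.IsPrime]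
    [Algebra.Etale (Localization.AtPrime p)
      (Localization (Algebra.algebraMapSubmonoid C p.primeCompl))] :
    ∃ (C₀ : Type u) (_ : CommRing C₀) (_ : Algebra B C₀) (ψ : C₀ →ₐ[B] C),
      Algebra.FinitePresentation B C₀ ∧
      Function.Surjective (ψ.toLinearMap.lTensor C) ∧
      (∀ x, ψ x = 0 → ∃ t ∈ p.primeCompl, t • x = 0) ∧
      ∀ c : C, ∃ t ∈ p.primeCompl, ∃ x, ψ x = t • c := by
  let M := p.primeCompl
  let Bp := Localization.AtPrime p
  let Cp := Localization (Algebra.algebraMapSubmonoid C p.primeCompl)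
  obtain ⟨D₁, hD₁, hadj₁⟩ := exists_finset_one_tmul (B := B) (C := C)
  obtain ⟨D₂, hD₂, hadj₂⟩ := exists_finset_adjoin_eq_top (C := C) M Bp Cp
  haveI : Finite ↥(D₁ ∪ D₂) := (hD₁.union hD₂).to_subtype
  let P := MvPolynomial ↥(D₁ ∪ D₂) B
  let Pp := MvPolynomial ↥(D₁ ∪ D₂) Bp
  let φ : P →ₐ[B] C := MvPolynomial.aeval Subtype.val
  let φp : Pp →ₐ[Bp] Cp := MvPolynomial.aeval fun d ↦ algebraMap C Cp d.1
  letI : Algebra P Pp := MvPolynomial.algebraMvPolynomial
  haveI : IsLocalization (M.map (MvPolynomial.C (σ := ↥(D₁ ∪ D₂)))) Pp :=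
    MvPolynomial.isLocalization M Bp
  have hmap : ∀ x : P, φp (algebraMap P Pp x) = algebraMap C Cp (φ x) := fun x ↦ by
    rw [MvPolynomial.algebraMap_def, MvPolynomial.aeval_map_algebraMap]
    exact MvPolynomial.aeval_algebraMap_apply Cp Subtype.val x
  have hφp : Function.Surjective φp := by
    rw [← AlgHom.range_eq_top, ← Algebra.adjoin_range_eq_range_aeval, eq_top_iff, ← hadj₂]
    refine Algebra.adjoin_mono ?_
    rintro _ ⟨d, hd, rfl⟩
    exact ⟨⟨d, Or.inr hd⟩, rfl⟩
  obtain ⟨G, hG⟩ := Algebra.FinitePresentation.ker_fG_of_surjective φp hφp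
  have hlift : ∀ h : Pp, φp h = 0 →
      ∃ (f : P) (r : Pp), φ f = 0 ∧ h = r * algebraMap P Pp f := by
    intro h hh
    obtain ⟨⟨a, ⟨_, s, hs, rfl⟩⟩, ha⟩ :=
      IsLocalization.surj (M.map (MvPolynomial.C (σ := ↥(D₁ ∪ D₂)))) h
    have h0 : algebraMap C Cp (φ a) = 0 := by
      rw [← hmap, ← ha, map_mul, hh, zero_mul]
    obtain ⟨⟨_, t, ht, rfl⟩, htc⟩ :=
      (IsLocalization.map_eq_zero_iff (Algebra.algebraMapSubmonoid C M) Cp _).1 h0
    have hu : IsUnit (algebraMap P Pp (MvPolynomial.C (t * s))) :=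
      IsLocalization.map_units Pp (⟨MvPolynomial.C (t * s), Submonoid.mem_map_of_mem _ (M.mul_mem ht hs)⟩ :
        ↥(M.map (MvPolynomial.C (σ := ↥(D₁ ∪ D₂)))))
    refine ⟨MvPolynomial.C t * a, ↑hu.unit⁻¹, ?_, ?_⟩
    · rw [map_mul, MvPolynomial.aeval_C]; exact htc
    · rw [eq_comm, Units.inv_mul_eq_iff_eq_mul, IsUnit.unit_spec, map_mul (MvPolynomial.C),
        map_mul, map_mul, mul_assoc, ← ha, mul_comm h]
  choose f r hf hfr using fun h : ↥G ↦
    hlift h.1 (show (h : Pp) ∈ RingHom.ker φp.toRingHom by rw [← hG]; exact Ideal.subset_span h.2)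
  let I : Ideal P := Ideal.span (Set.range f)
  have hI : ∀ x ∈ I, φ x = 0 := fun x hx ↦ by
    have : I ≤ RingHom.ker φ.toRingHom := Ideal.span_le.2 (by rintro _ ⟨h, rfl⟩; exact hf h)
    exact this hx
  let ψ : P ⧸ I →ₐ[B] C := Ideal.Quotient.liftₐ I φ hI
  refine ⟨P ⧸ I, inferInstance, inferInstance, ψ,
    Algebra.FinitePresentation.quotient (Submodule.fg_span (Set.finite_range f)), ?_, ?_, ?_⟩
  · let T : C ⊗[B] (P ⧸ I) →ₐ[C] C ⊗[B] C := Algebra.TensorProduct.map (AlgHom.id C C) ψ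
    have hT : ∀ z, T z = ψ.toLinearMap.lTensor C z := fun z ↦ by
      induction z with
      | zero => simp
      | tmul c x => simp [T]
      | add a b ha hb => simp [ha, hb]
    intro z
    obtain ⟨w, rfl⟩ : z ∈ T.range := by
      have : Algebra.adjoin C ((fun d : C ↦ (1 : C) ⊗ₜ[B] d) '' D₁) ≤ T.range :=
        Algebra.adjoin_le (by
          rintro _ ⟨d, hd, rfl⟩
          refine ⟨1 ⊗ₜ Ideal.Quotient.mk I (MvPolynomial.X ⟨d, Or.inl hd⟩), ?_⟩
          show (1 : C) ⊗ₜ[B] φ (MvPolynomial.X ⟨d, Or.inl hd⟩) = _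
          exact congrArg _ (MvPolynomial.aeval_X _ _))
      exact this (hadj₁ ▸ Algebra.mem_top)
    exact ⟨w, (hT w).symm⟩
  · intro x hx
    obtain ⟨a, rfl⟩ := Ideal.Quotient.mk_surjective x
    have ha : φ a = 0 := hx
    have hmem : algebraMap P Pp a ∈ I.map (algebraMap P Pp) := by
      have : algebraMap P Pp a ∈ RingHom.ker φp.toRingHom := by
        show φp (algebraMap P Pp a) = 0
        rw [hmap, ha, map_zero]
      rw [← hG] at this
      refine Ideal.span_le.2 ?_ this
      intro h hh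
      rw [SetLike.mem_coe, show h = _ from hfr ⟨h, hh⟩]
      exact Ideal.mul_mem_left _ _ (Ideal.mem_map_of_mem _ (Ideal.subset_span ⟨_, rfl⟩))
    obtain ⟨_, ⟨t, ht, rfl⟩, htI⟩ := (IsLocalization.algebraMap_mem_map_algebraMap_iff
      (M.map (MvPolynomial.C (σ := ↥(D₁ ∪ D₂)))) Pp I a).1 hmem
    refine ⟨t, ht, ?_⟩
    rw [Algebra.smul_def, IsScalarTower.algebraMap_apply B P (P ⧸ I),
      MvPolynomial.algebraMap_eq, Ideal.Quotient.algebraMap_eq, ← map_mul]
    exact Ideal.Quotient.eq_zero_iff_mem.2 htI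
  · intro c
    obtain ⟨Q, hQ⟩ := hφp (algebraMap C Cp c)
    obtain ⟨⟨a, ⟨_, s, hs, rfl⟩⟩, ha⟩ :=
      IsLocalization.surj (M.map (MvPolynomial.C (σ := ↥(D₁ ∪ D₂)))) Q
    have h0 : algebraMap C Cp (φ a) = algebraMap C Cp (s • c) := by
      rw [← hmap, ← ha, map_mul, hQ, hmap, MvPolynomial.aeval_C, Algebra.smul_def, map_mul,
        mul_comm]
    obtain ⟨⟨_, t, ht, rfl⟩, htc⟩ :=
      (IsLocalization.eq_iff_exists (Algebra.algebraMapSubmonoid C M) Cp).1 h0
    refine ⟨t * s, M.mul_mem ht hs, Ideal.Quotient.mk I (MvPolynomial.C t * a), ?_⟩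
    show φ (MvPolynomial.C t * a) = _
    rw [map_mul, MvPolynomial.aeval_C, mul_smul, Algebra.smul_def t]
    exact htc

/-- The approximation is etale on a principal open around `p`. -/
theorem exists_subset_etaleLocus [Module.Flat B C] [Algebra.Etale C (C ⊗[B] C)]
    (p : Ideal B) [p.IsPrime]
    [Algebra.Etale (Localization.AtPrime p)
      (Localization (Algebra.algebraMapSubmonoid C p.primeCompl))]
    {C₀ : Type u} [CommRing C₀] [Algebra B C₀] [Algebra.FinitePresentation B C₀] (ψ : C₀ →ₐ[B] C)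
    (h₁ : ∀ x, ψ x = 0 → ∃ t ∈ p.primeCompl, t • x = 0)
    (h₂ : ∀ c : C, ∃ t ∈ p.primeCompl, ∃ x, ψ x = t • c) :
    ∃ m ∈ p.primeCompl,
      ↑(PrimeSpectrum.basicOpen (algebraMap B C₀ m)) ⊆ Algebra.etaleLocus B C₀ := by
  let M := p.primeCompl
  let Bp := Localization.AtPrime p
  let Cp := Localization (Algebra.algebraMapSubmonoid C p.primeCompl)
  letI : Algebra C₀ Cp := ((algebraMap C Cp).comp ψ.toRingHom).toAlgebra
  have hψ : ∀ x, algebraMap C₀ Cp x = algebraMap C Cp (ψ x) := fun _ ↦ rfl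
  haveI : IsScalarTower B C₀ Cp := IsScalarTower.of_algebraMap_eq fun b ↦ by
    rw [hψ, ψ.commutes, ← IsScalarTower.algebraMap_apply]
  haveI : IsLocalization (Algebra.algebraMapSubmonoid C₀ M) Cp := by
    refine ⟨⟨?_, ?_, ?_⟩⟩
    · rintro ⟨_, t, ht, rfl⟩
      show IsUnit (algebraMap C₀ Cp (algebraMap B C₀ t))
      rw [← IsScalarTower.algebraMap_apply, IsScalarTower.algebraMap_apply B Bp Cp]
      exact (IsLocalization.map_units Bp (⟨t, ht⟩ : M)).map _
    · intro z
      obtain ⟨⟨c, ⟨_, s, hs, rfl⟩⟩, hc⟩ := IsLocalization.surj (Algebra.algebraMapSubmonoid C M) z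
      obtain ⟨t, ht, x, hx⟩ := h₂ c
      refine ⟨⟨x, ⟨_, t * s, M.mul_mem ht hs, rfl⟩⟩, ?_⟩
      show z * algebraMap C₀ Cp (algebraMap B C₀ (t * s)) = algebraMap C₀ Cp x
      rw [hψ, hψ, hx, ψ.commutes, Algebra.smul_def, map_mul (algebraMap B C),
        map_mul (algebraMap C Cp), map_mul (algebraMap C Cp), ← hc]
      ring
    · intro x y hxy
      rw [hψ, hψ] at hxy
      obtain ⟨⟨_, s, hs, rfl⟩, hxy⟩ :=
        (IsLocalization.eq_iff_exists (Algebra.algebraMapSubmonoid C M) Cp).1 hxy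
      have h0 : ψ (s • (x - y)) = 0 := by
        rw [map_smul, map_sub, Algebra.smul_def, mul_sub, sub_eq_zero]
        exact hxy
      obtain ⟨t, ht, htxy⟩ := h₁ _ h0
      refine ⟨⟨_, t * s, M.mul_mem ht hs, rfl⟩, sub_eq_zero.1 ?_⟩
      show algebraMap B C₀ (t * s) * x - algebraMap B C₀ (t * s) * y = 0
      rw [← mul_sub, ← Algebra.smul_def, mul_smul, htxy]
  haveI : Algebra.FormallyEtale B Bp := Algebra.FormallyEtale.of_isLocalization M
  haveI : Algebra.FormallyEtale B Cp := Algebra.FormallyEtale.comp B Bp Cp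
  have key : ∀ (Q : Ideal C₀) [Q.IsPrime],
      Disjoint (Algebra.algebraMapSubmonoid C₀ M : Set C₀) ↑Q → Algebra.IsEtaleAt B Q := by
    intro Q _ hQ
    have hle : Algebra.algebraMapSubmonoid C₀ M ≤ Q.primeCompl :=
      fun x hx ↦ Set.disjoint_left.1 hQ hx
    letI : Algebra Cp (Localization.AtPrime Q) :=
      IsLocalization.localizationAlgebraOfSubmonoidLe Cp _ _ _ hle
    haveI : IsScalarTower C₀ Cp (Localization.AtPrime Q) :=
      IsLocalization.localization_isScalarTower_of_submonoid_le Cp _ _ _ hle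
    haveI := IsLocalization.isLocalization_of_submonoid_le Cp (Localization.AtPrime Q) _ _ hle
    haveI : IsScalarTower B Cp (Localization.AtPrime Q) := IsScalarTower.of_algebraMap_eq fun b ↦ by
      rw [IsScalarTower.algebraMap_apply B C₀ Cp, ← IsScalarTower.algebraMap_apply C₀ Cp,
        ← IsScalarTower.algebraMap_apply]
    haveI : Algebra.FormallyEtale Cp (Localization.AtPrime Q) :=
      Algebra.FormallyEtale.of_isLocalization (Q.primeCompl.map (algebraMap C₀ Cp))
    exact Algebra.FormallyEtale.comp B Cp _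
  obtain ⟨J, hJ⟩ := (PrimeSpectrum.isClosed_iff_zeroLocus_ideal _).1
    (Algebra.isOpen_etaleLocus (R := B) (A := C₀)).isClosed_compl
  by_contra hcon
  have hd : Disjoint (↑J : Set C₀) (Algebra.algebraMapSubmonoid C₀ M : Set C₀) := by
    rw [Set.disjoint_left]
    rintro _ hJm ⟨m, hm, rfl⟩
    refine hcon ⟨m, hm, fun P hP ↦ by_contra fun hP' ↦ ?_⟩
    have : P ∈ PrimeSpectrum.zeroLocus (J : Set C₀) := hJ ▸ hP'
    exact hP (this hJm)
  obtain ⟨Q, hQ, hJQ, hQM⟩ := Ideal.exists_le_prime_disjoint J _ hd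
  have h : (⟨Q, hQ⟩ : PrimeSpectrum C₀) ∈ (Algebra.etaleLocus B C₀)ᶜ := hJ ▸ hJQ
  exact h (key Q hQM.symm)

/-- The main spreading out step. -/
theorem exists_etale_away [Module.Flat B C] [Algebra.Etale C (C ⊗[B] C)]
    (hinj : Function.Injective (algebraMap B C))
    (hex : ∀ c : C, c ⊗ₜ[B] (1 : C) = (1 : C) ⊗ₜ[B] c → c ∈ Set.range (algebraMap B C))
    (p : Ideal B) [p.IsPrime] (hp : ∃ q : Ideal C, q.IsPrime ∧ q.under B = p) :
    ∃ t ∉ p, Algebra.Etale B (Localization.Away (algebraMap B C t)) := by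
  classical
  haveI := etale_localization p hp
  obtain ⟨C₀, _, _, ψ, hfp, hsurj, h₁, h₂⟩ := exists_approximation (C := C) p
  obtain ⟨m, hm, hme⟩ := exists_subset_etaleLocus p ψ h₁ h₂
  let T : C ⊗[B] C₀ →ₐ[C] C ⊗[B] C := Algebra.TensorProduct.map (AlgHom.id C C) ψ
  have hT : ∀ z, T z = ψ.toLinearMap.lTensor C z := fun z ↦ by
    induction z with
    | zero => simp
    | tmul c x => simp [T]
    | add a b ha hb => simp [ha, hb]
  obtain ⟨G, hG⟩ := Algebra.FinitePresentation.ker_fG_of_surjective T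
    (fun z ↦ (hsurj z).imp fun w hw ↦ by rw [hT, hw])
  choose s hs hsz using fun z : ↥G ↦ lTensor_ker_torsion (F := C) ψ.toLinearMap p.primeCompl h₁
    (z : C ⊗[B] C₀) (by
      rw [← hT]
      have : (z : C ⊗[B] C₀) ∈ RingHom.ker T.toRingHom := by
        rw [← hG]; exact Ideal.subset_span z.2
      exact this)
  let s₁ : B := ∏ z : ↥G, s z
  have hs₁ : s₁ ∈ p.primeCompl := Submonoid.prod_mem _ fun z _ ↦ hs z
  have hkill : ∀ z, ψ.toLinearMap.lTensor C z = 0 → s₁ • z = 0 := by
    intro z hz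
    have hz' : z ∈ Ideal.span (G : Set (C ⊗[B] C₀)) := by
      rw [show Ideal.span (G : Set (C ⊗[B] C₀)) = _ from hG]
      exact (hT z).trans hz
    clear hz
    induction hz' using Submodule.span_induction with
    | mem x hx =>
      obtain ⟨c, hc⟩ : s ⟨x, hx⟩ ∣ s₁ := Finset.dvd_prod_of_mem _ (Finset.mem_univ _)
      rw [hc, mul_comm, mul_smul, hsz ⟨x, hx⟩, smul_zero]
    | zero => simp
    | add x y _ _ hx hy => rw [smul_add, hx, hy, add_zero]
    | smul a x _ hx => rw [smul_eq_mul, ← mul_smul_comm, hx, mul_zero]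
  let t : B := m * s₁
  refine ⟨t, p.primeCompl.mul_mem hm hs₁, ?_⟩
  let E₀ := Localization.Away (algebraMap B C₀ t)
  let E := Localization.Away (algebraMap B C t)
  haveI : Algebra.Etale B E₀ := Algebra.basicOpen_subset_etaleLocus_iff_etale.1
    ((show ↑(PrimeSpectrum.basicOpen (algebraMap B C₀ t)) ⊆
        (↑(PrimeSpectrum.basicOpen (algebraMap B C₀ m)) : Set (PrimeSpectrum C₀)) from
      fun P hP hm' ↦ hP (by rw [map_mul]; exact Ideal.mul_mem_right _ _ hm')).trans hme)
  haveI : Module.Flat B E := Module.Flat.trans B C E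
  let ψE : C₀ →ₐ[B] E := (IsScalarTower.toAlgHom B C E).comp ψ
  have hu : IsUnit (ψE (algebraMap B C₀ t)) := by
    show IsUnit (algebraMap C E (ψ (algebraMap B C₀ t)))
    rw [ψ.commutes]; exact IsLocalization.Away.algebraMap_isUnit _
  let ψ' : E₀ →ₐ[B] E := IsLocalization.Away.liftAlgHom (algebraMap B C₀ t) hu
  have hψ' : ∀ x, ψ' (algebraMap C₀ E₀ x) = algebraMap C E (ψ x) :=
    fun x ↦ IsLocalization.Away.lift_eq (algebraMap B C₀ t) hu x
  let ι₀ : C₀ →ₗ[B] E₀ := (IsScalarTower.toAlgHom B C₀ E₀).toLinearMap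
  let ι : C →ₗ[B] E := (IsScalarTower.toAlgHom B C E).toLinearMap
  have hcomp : ψ'.toLinearMap ∘ₗ ι₀ = ι ∘ₗ ψ.toLinearMap := LinearMap.ext hψ'
  have hnat : ∀ z, ψ'.toLinearMap.lTensor C (ι₀.lTensor C z) =
      ι.lTensor C (ψ.toLinearMap.lTensor C z) := fun z ↦ by
    rw [← LinearMap.lTensor_comp_apply, ← LinearMap.lTensor_comp_apply, hcomp]
  have hinv : ∀ (R : Type u) [CommRing R] [Algebra B R], IsUnit (algebraMap B R t) →
      ∀ k : ℕ, Function.Bijective fun z : C ⊗[B] R ↦ t ^ k • z := by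
    intro R _ _ hR k
    have h : IsUnit (algebraMap B (C ⊗[B] R) (t ^ k)) := by
      rw [map_pow]
      refine IsUnit.pow _ ?_
      rw [← (Algebra.TensorProduct.includeRight : R →ₐ[B] C ⊗[B] R).commutes]
      exact hR.map _
    have e : (fun z : C ⊗[B] R ↦ t ^ k • z) = fun z ↦ algebraMap B (C ⊗[B] R) (t ^ k) * z :=
      funext fun z ↦ Algebra.smul_def _ _
    rw [e]
    exact IsUnit.isUnit_iff_mulLeft_bijective.1 h
  have hE₀ : IsUnit (algebraMap B E₀ t) := by
    rw [IsScalarTower.algebraMap_apply B C₀ E₀]; exact IsLocalization.Away.algebraMap_isUnit _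
  have hE : IsUnit (algebraMap B E t) := by
    rw [IsScalarTower.algebraMap_apply B C E]; exact IsLocalization.Away.algebraMap_isUnit _
  have hden : ∀ {R R' : Type u} [CommRing R] [CommRing R'] [Algebra B R] [Algebra B R']
      [Algebra R R'] [IsScalarTower B R R'] [IsLocalization.Away (algebraMap B R t) R']
      (z : C ⊗[B] R'), ∃ (k : ℕ) (z₀ : C ⊗[B] R),
        t ^ k • z = (IsScalarTower.toAlgHom B R R').toLinearMap.lTensor C z₀ := by
    intro R R' _ _ _ _ _ _ _ z
    induction z with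
    | zero => exact ⟨0, 0, by simp⟩
    | tmul c y =>
      obtain ⟨k, a, ha⟩ := IsLocalization.Away.surj (algebraMap B R t) y
      refine ⟨k, c ⊗ₜ a, ?_⟩
      rw [LinearMap.lTensor_tmul, ← TensorProduct.tmul_smul]
      congr 1
      show t ^ k • y = algebraMap R R' a
      rw [← ha, Algebra.smul_def, IsScalarTower.algebraMap_apply B R R', map_pow, map_pow,
        mul_comm]
    | add a b ha hb =>
      obtain ⟨k, a', ha⟩ := ha
      obtain ⟨l, b', hb⟩ := hb
      refine ⟨k + l, t ^ l • a' + t ^ k • b', ?_⟩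
      rw [map_add, map_smul, map_smul, ← ha, ← hb, ← mul_smul, ← mul_smul, smul_add, pow_add,
        mul_comm (t ^ l) (t ^ k)]
  have hbij : Function.Bijective (ψ'.toLinearMap.lTensor C) := by
    refine ⟨(injective_iff_map_eq_zero _).2 fun z hz ↦ ?_, fun e ↦ ?_⟩
    · obtain ⟨k, z₀, hk⟩ := hden (R := C₀) (R' := E₀) z
      have h0 : ι.lTensor C (ψ.toLinearMap.lTensor C z₀) = 0 := by
        rw [← hnat]
        show ψ'.toLinearMap.lTensor C ((IsScalarTower.toAlgHom B C₀ E₀).toLinearMap.lTensor C z₀)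
          = 0
        rw [← hk, map_smul, hz, smul_zero]
      obtain ⟨_, ⟨l, rfl⟩, hl⟩ := lTensor_ker_torsion (F := C) ι (Submonoid.powers t) (fun c hc ↦ by
        obtain ⟨⟨_, l, rfl⟩, hl⟩ :=
          (IsLocalization.map_eq_zero_iff (Submonoid.powers (algebraMap B C t)) E c).1 hc
        refine ⟨t ^ l, ⟨l, rfl⟩, ?_⟩
        rw [Algebra.smul_def, map_pow]
        exact hl) _ h0
      have h3 : t ^ (l + 1) • z₀ = 0 := by
        have := hkill (t ^ l • z₀) (by rw [map_smul]; exact hl)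
        rw [pow_succ', mul_smul]
        exact (by rw [show t = m * s₁ from rfl, mul_smul, this, smul_zero] :
          t • t ^ l • z₀ = 0)
      have h4 : (fun z : C ⊗[B] E₀ ↦ t ^ (l + 1 + k) • z) z =
          (fun z : C ⊗[B] E₀ ↦ t ^ (l + 1 + k) • z) 0 := by
        show t ^ (l + 1 + k) • z = t ^ (l + 1 + k) • 0
        rw [smul_zero, pow_add, mul_smul, hk, ← map_smul, h3, map_zero]
      exact (hinv E₀ hE₀ _).1 h4
    · obtain ⟨k, c, hk⟩ := hden (R := C) (R' := E) e
      obtain ⟨z, rfl⟩ := hsurj c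
      obtain ⟨w, hw⟩ := (hinv E₀ hE₀ k).2 (ι₀.lTensor C z)
      refine ⟨w, (hinv E hE k).1 ?_⟩
      show t ^ k • _ = t ^ k • e
      rw [← map_smul, show t ^ k • w = _ from hw, hnat, hk]
  exact Algebra.Etale.of_equiv
    (AlgEquiv.ofBijective ψ' (bijective_of_lTensor hinj hex ψ'.toLinearMap hbij))

/-- A flat algebra with etale self-product and effective is etale. -/
theorem etale_of_exact [Module.Flat B C] [Algebra.Etale C (C ⊗[B] C)]
    (hinj : Function.Injective (algebraMap B C))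
    (hex : ∀ c : C, c ⊗ₜ[B] (1 : C) = (1 : C) ⊗ₜ[B] c → c ∈ Set.range (algebraMap B C)) :
    (algebraMap B C).Etale := by
  choose t ht het using fun q : PrimeSpectrum C ↦
    exists_etale_away hinj hex (q.asIdeal.under B) ⟨q.asIdeal, q.2, rfl⟩
  refine RingHom.Etale.ofLocalizationSpanTarget _ (Set.range fun q ↦ algebraMap B C (t q)) ?_ ?_
  · by_contra h
    obtain ⟨q, hq, hle⟩ := Ideal.exists_le_maximal _ h
    exact ht ⟨q, hq.isPrime⟩ (hle (Ideal.subset_span ⟨_, rfl⟩))
  · rintro ⟨_, q, rfl⟩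
    rw [← IsScalarTower.algebraMap_eq, RingHom.etale_algebraMap]
    exact het q

end Spread

section Equalizer

variable {A C : Type u} [CommRing A] [CommRing C] [Algebra A C]

/-- The equalizer of `C ⇉ C ⊗[A] C`. -/
def eqRing (A C : Type u) [CommRing A] [CommRing C] [Algebra A C] : Subalgebra A C :=
  AlgHom.equalizer (Algebra.TensorProduct.includeLeft : C →ₐ[A] C ⊗[A] C)
    Algebra.TensorProduct.includeRight

theorem smul_tmul_eqRing (b : eqRing A C) (c d : C) : (b • c) ⊗ₜ[A] d = c ⊗ₜ[A] (b • d) := by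
  have h : (b : C) ⊗ₜ[A] (1 : C) = (1 : C) ⊗ₜ[A] (b : C) := b.2
  show ((b : C) * c) ⊗ₜ[A] d = c ⊗ₜ[A] ((b : C) * d)
  calc ((b : C) * c) ⊗ₜ[A] d = ((b : C) ⊗ₜ[A] (1 : C)) * (c ⊗ₜ[A] d) := by simp
    _ = _ := by rw [h]; simp

variable [Module.Flat A C]

theorem compatibleSMul_eqRing (N : Type u) [AddCommGroup N] [Module A N] [Module (eqRing A C) N]
    [IsScalarTower A (eqRing A C) N] :
    TensorProduct.CompatibleSMul A (eqRing A C) C N := ⟨fun b c n ↦ by
  have hi : Function.Injective ((eqRing A C).val.toLinearMap.lTensor C) :=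
    Module.Flat.lTensor_preserves_injective_linearMap (M := C) _ Subtype.val_injective
  have key : (b • c) ⊗ₜ[A] (1 : eqRing A C) = c ⊗ₜ[A] b := hi (by
    show (b • c) ⊗ₜ[A] (1 : C) = c ⊗ₜ[A] (b : C)
    rw [smul_tmul_eqRing]
    simp [Subalgebra.smul_def])
  let k : eqRing A C →ₗ[A] N :=
    ((LinearMap.toSpanSingleton (eqRing A C) N n).restrictScalars A)
  have := congrArg (k.lTensor C) key
  simpa [k] using this⟩

theorem flat_eqRing : Module.Flat (eqRing A C) C := by
  rw [Module.Flat.iff_lTensor_preserves_injective_linearMap]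
  intro N N' _ _ _ _ g hg
  letI : Module A N := Module.compHom N (algebraMap A (eqRing A C))
  letI : Module A N' := Module.compHom N' (algebraMap A (eqRing A C))
  haveI : IsScalarTower A (eqRing A C) N := IsScalarTower.of_algebraMap_smul fun _ _ ↦ rfl
  haveI : IsScalarTower A (eqRing A C) N' := IsScalarTower.of_algebraMap_smul fun _ _ ↦ rfl
  haveI := compatibleSMul_eqRing (A := A) (C := C) N
  haveI := compatibleSMul_eqRing (A := A) (C := C) N'
  let e := TensorProduct.equivOfCompatibleSMul A (eqRing A C) A C N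
  let e' := TensorProduct.equivOfCompatibleSMul A (eqRing A C) A C N'
  have hi : Function.Injective ((g.restrictScalars A).lTensor C) :=
    Module.Flat.lTensor_preserves_injective_linearMap (M := C) _ hg
  have hc : ∀ x, e' (g.lTensor C x) = (g.restrictScalars A).lTensor C (e x) := fun x ↦ by
    induction x with
    | zero => simp
    | tmul c n => rfl
    | add a b ha hb => simp [ha, hb]
  intro x y hxy
  exact e.injective (hi (by rw [← hc, ← hc, hxy]))

/-- The inclusion of the equalizer is etale. -/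
theorem etale_eqRing [Algebra.Etale C (C ⊗[A] C)] : ((eqRing A C).val.toRingHom).Etale := by
  haveI := flat_eqRing (A := A) (C := C)
  haveI := compatibleSMul_eqRing (A := A) (C := C) C
  let e : C ⊗[eqRing A C] C ≃ₐ[C] C ⊗[A] C :=
    Algebra.TensorProduct.equivOfCompatibleSMul A (eqRing A C) C C C
  haveI : Algebra.Etale C (C ⊗[eqRing A C] C) := Algebra.Etale.of_equiv e.symm
  exact etale_of_exact (B := eqRing A C) (C := C) Subtype.val_injective
    fun c hc ↦ ⟨⟨c, show c ⊗ₜ[A] (1 : C) = (1 : C) ⊗ₜ[A] c from congrArg e hc⟩, rfl⟩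

end Equalizer

end Groth.Agent.Lib.AlgSpMor.FlatMonoAlg
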