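import Mathlib.AlgebraicGeometry.Morphisms.Flat
import Mathlib.AlgebraicGeometry.Morphisms.Affine
import Mathlib.AlgebraicGeometry.Morphisms.QuasiCompact
import Mathlib.Algebra.Category.Ring.Constructions
import Mathlib.RingTheory.Spectrum.Prime.Topology
import Mathlib.RingTheory.Flat.Basic

/-!
# Equalisers of rings of functions of affine schemes and flat base change
-/

set_option autoImplicit false
universe u

open CategoryTheory CategoryTheory.Limits AlgebraicGeometry TensorProduct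

namespace Groth.Agent.Lib.AlgSpMor.Fork

/-- Flat base change of an equaliser of algebras. -/
theorem eqLocus_tensor {B C D E : Type u} [CommRing B] [CommRing C] [CommRing D] [CommRing E]
    [Algebra B C] [Algebra B D] [Algebra B E] [Module.Flat B E] (p q : C →ₐ[B] D)
    (hinj : Function.Injective (algebraMap B C))
    (hex : ∀ c, p c = q c → ∃ b, algebraMap B C b = c) :
    Function.Injective (Algebra.TensorProduct.includeLeftRingHom : E →+* E ⊗[B] C) ∧
      ∀ z : E ⊗[B] C,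
        Algebra.TensorProduct.map (AlgHom.id B E) p z =
          Algebra.TensorProduct.map (AlgHom.id B E) q z → ∃ e : E, e ⊗ₜ[B] (1 : C) = z := by
  let i : B →ₗ[B] C := Algebra.linearMap B C
  let d : C →ₗ[B] D := p.toLinearMap - q.toLinearMap
  have hexact : Function.Exact i d := fun c ↦ by
    constructor
    · intro h
      exact hex c (sub_eq_zero.1 h)
    · rintro ⟨b, rfl⟩
      simp [i, d]
  have key : ∀ e : E, (i.lTensor E) ((TensorProduct.rid B E).symm e) = e ⊗ₜ[B] (1 : C) := by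
    intro e
    simp [i]
  have key2 : ∀ (r : C →ₐ[B] D) (z : E ⊗[B] C),
      r.toLinearMap.lTensor E z = Algebra.TensorProduct.map (AlgHom.id B E) r z := by
    intro r z
    induction z using TensorProduct.induction_on with
    | zero => simp
    | tmul e c => simp
    | add x y hx hy => simp [hx, hy]
  refine ⟨fun e e' h ↦ ?_, fun z hz ↦ ?_⟩
  · apply (TensorProduct.rid B E).symm.injective
    apply Module.Flat.lTensor_preserves_injective_linearMap i hinj
    rw [key, key]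
    exact h
  · have h0 : d.lTensor E z = 0 := by
      rw [show d.lTensor E = p.toLinearMap.lTensor E - q.toLinearMap.lTensor E from
        LinearMap.lTensor_sub _ _, LinearMap.sub_apply, key2, key2, hz, sub_self]
    obtain ⟨w, rfl⟩ := (Module.Flat.lTensor_exact E hexact z).1 h0
    exact ⟨TensorProduct.rid B E w, by rw [← key, LinearEquiv.symm_apply_apply]⟩

/-- Flat base change of an equaliser, in the category of rings. -/
theorem eqLocus_pushout {B C D E C' D' : CommRingCat.{u}} {π : B ⟶ C} {p q : C ⟶ D}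
    (hπ : π ≫ p = π ≫ q) {j : B ⟶ E} (hj : j.hom.Flat)
    (hinj : Function.Injective π.hom) (hex : ∀ c, p c = q c → ∃ b, π b = c)
    {σ : C ⟶ C'} {π' : E ⟶ C'} {ρ : D ⟶ D'} {ω : E ⟶ D'} {p' q' : C' ⟶ D'}
    (sqU : IsPushout π j σ π') (sqR : IsPushout (π ≫ p) j ρ ω)
    (hp₁ : σ ≫ p' = p ≫ ρ) (hp₂ : π' ≫ p' = ω) (hq₁ : σ ≫ q' = q ≫ ρ) (hq₂ : π' ≫ q' = ω) :
    Function.Injective π'.hom ∧ ∀ c, p' c = q' c → ∃ e, π' e = c := by
  algebraize [j.hom, π.hom, (π ≫ p).hom]
  let p₀ : C →ₐ[B] D := { p.hom with commutes' := fun b ↦ rfl }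
  let q₀ : C →ₐ[B] D := { q.hom with commutes' := fun b ↦ congr($(hπ.symm) b) }
  obtain ⟨hi, hx⟩ := eqLocus_tensor (E := E) p₀ q₀ hinj hex
  let iU := (CommRingCat.isPushout_tensorProduct B E C).isoIsPushout _ _ sqU.flip
  let iR := (CommRingCat.isPushout_tensorProduct B E D).isoIsPushout _ _ sqR.flip
  have mapU : ∀ (r : C →ₐ[B] D) (r' : C' ⟶ D'), σ ≫ r' = CommRingCat.ofHom r.toRingHom ≫ ρ →
      π' ≫ r' = ω → CommRingCat.ofHom (Algebra.TensorProduct.map (AlgHom.id B E) r).toRingHom ≫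
        iR.hom = iU.hom ≫ r' := by
    intro r r' h1 h2
    refine (CommRingCat.isPushout_tensorProduct B E C).hom_ext ?_ ?_
    · rw [← Category.assoc, ← Category.assoc, IsPushout.inl_isoIsPushout_hom, h2,
        ← IsPushout.inl_isoIsPushout_hom _ _ (CommRingCat.isPushout_tensorProduct B E D) sqR.flip]
      congr 1
      ext e
      simp
    · rw [← Category.assoc, ← Category.assoc, IsPushout.inr_isoIsPushout_hom, h1,
        ← IsPushout.inr_isoIsPushout_hom _ _ (CommRingCat.isPushout_tensorProduct B E D) sqR.flip,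
        ← Category.assoc]
      congr 1
  have hπ' : CommRingCat.ofHom Algebra.TensorProduct.includeLeftRingHom ≫ iU.hom = π' :=
    IsPushout.inl_isoIsPushout_hom _ _ _ _
  have hU : Function.Bijective iU.hom := ConcreteCategory.bijective_of_isIso iU.hom
  have hR : Function.Bijective iR.hom := ConcreteCategory.bijective_of_isIso iR.hom
  refine ⟨fun e e' h ↦ hi (hU.1 ?_), fun c hc ↦ ?_⟩
  · rw [← hπ'] at h
    exact h
  · obtain ⟨z, rfl⟩ := hU.2 c
    obtain ⟨e, he⟩ := hx z (hR.1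
      ((congr($(mapU p₀ p' hp₁ hp₂) z)).trans
        (hc.trans (congr($(mapU q₀ q' hq₁ hq₂) z)).symm)))
    exact ⟨e, by rw [← hπ']; exact congrArg iU.hom he⟩

/-- `Γ(Y)` is the equaliser of the two maps `Γ(U) → Γ(R)`. -/
def IsFork {U R Y : Scheme.{u}} (π : U ⟶ Y) (p q : R ⟶ U) : Prop :=
  Function.Injective π.appTop.hom ∧ ∀ c, p.appTop c = q.appTop c → ∃ b, π.appTop b = c

theorem isFork_baseChange {U R Y O U' R' : Scheme.{u}} [IsAffine U] [IsAffine R] [IsAffine Y]
    [IsAffine O] {π : U ⟶ Y} {p q : R ⟶ U} (hπ : p ≫ π = q ≫ π) (h : IsFork π p q)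
    {j : O ⟶ Y} [Flat j] {σ : U' ⟶ U} {π' : U' ⟶ O} (sqU : IsPullback σ π' π j)
    {ρ : R' ⟶ R} {ω : R' ⟶ O} (sqR : IsPullback ρ ω (p ≫ π) j) {p' q' : R' ⟶ U'}
    (hp₁ : p' ≫ σ = ρ ≫ p) (hp₂ : p' ≫ π' = ω) (hq₁ : q' ≫ σ = ρ ≫ q) (hq₂ : q' ≫ π' = ω) :
    IsFork π' p' q' := by
  have e : ∀ {A B C : Scheme.{u}} (f : A ⟶ B) (g : B ⟶ C), g.appTop ≫ f.appTop = (f ≫ g).appTop :=
    fun f g ↦ (Scheme.Hom.comp_appTop f g).symm
  refine eqLocus_pushout (π := π.appTop) (p := p.appTop) (q := q.appTop) (j := j.appTop)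
    (σ := σ.appTop) (ρ := ρ.appTop) (ω := ω.appTop) ?_ ?_ h.1 h.2
    (isPushout_appTop_of_isPullback sqU) ?_ ?_ ?_ ?_ ?_
  · rw [e, e, hπ]
  · exact HasRingHomProperty.appTop @Flat j inferInstance
  · rw [e]; exact isPushout_appTop_of_isPullback sqR
  · rw [e, e, hp₁]
  · rw [e, hp₂]
  · rw [e, e, hq₁]
  · rw [e, hq₂]

theorem IsFork.hom_ext {U R Y Q : Scheme.{u}} [IsAffine Q] {π : U ⟶ Y} {p q : R ⟶ U}
    (h : IsFork π p q) {k k' : Y ⟶ Q} (e : π ≫ k = π ≫ k') : k = k' := by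
  refine ext_of_isAffine (CommRingCat.hom_ext (RingHom.ext fun b ↦ h.1 ?_))
  have e' : k.appTop ≫ π.appTop = k'.appTop ≫ π.appTop := by
    rw [← Scheme.Hom.comp_appTop, ← Scheme.Hom.comp_appTop, e]
  exact congr($e' b)

theorem IsFork.exists_desc {U R Y Q : Scheme.{u}} [IsAffine Q] [IsAffine Y] {π : U ⟶ Y}
    {p q : R ⟶ U} (h : IsFork π p q) (r : U ⟶ Q) (hr : p ≫ r = q ≫ r) :
    ∃ k : Y ⟶ Q, π ≫ k = r := by
  have hm : ∀ c, ∃ b, π.appTop b = r.appTop c := fun c ↦ h.2 _ (by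
    have e' : r.appTop ≫ p.appTop = r.appTop ≫ q.appTop := by
      rw [← Scheme.Hom.comp_appTop, ← Scheme.Hom.comp_appTop, hr]
    exact congr($e' c))
  choose b hb using hm
  let φ : Γ(Q, ⊤) →+* Γ(Y, ⊤) :=
    { toFun := b
      map_one' := h.1 (by rw [hb]; simp)
      map_zero' := h.1 (by rw [hb]; simp)
      map_mul' := fun x y ↦ h.1 (by rw [hb, map_mul, map_mul, hb, hb])
      map_add' := fun x y ↦ h.1 (by rw [hb, map_add, map_add, hb, hb]) }
  refine ⟨Y.toSpecΓ ≫ Spec.map (CommRingCat.ofHom φ) ≫ inv Q.toSpecΓ, ?_⟩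
  have : π.appTop.hom.comp φ = r.appTop.hom := RingHom.ext hb
  rw [← Category.assoc, ← Category.assoc, IsIso.comp_inv_eq, Scheme.toSpecΓ_naturality,
    Category.assoc, Scheme.toSpecΓ_naturality, ← Spec.map_comp]
  congr 2
  exact CommRingCat.hom_ext this

/-- The affine scheme of invariant functions. -/
theorem exists_fork {U R : Scheme.{u}} [IsAffine U] (p q : R ⟶ U) :
    ∃ (Y : Scheme.{u}) (π : U ⟶ Y), IsAffine Y ∧ p ≫ π = q ≫ π ∧ IsFork π p q := by
  let Bs : Subring Γ(U, ⊤) := RingHom.eqLocus p.appTop.hom q.appTop.hom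
  let π : U ⟶ Spec (CommRingCat.of Bs) := U.toSpecΓ ≫ Spec.map (CommRingCat.ofHom Bs.subtype)
  have hπ : π.appTop =
      (Scheme.ΓSpecIso (CommRingCat.of Bs)).hom ≫ CommRingCat.ofHom Bs.subtype := by
    rw [Scheme.Hom.comp_appTop, Scheme.toSpecΓ_appTop]
    exact Scheme.ΓSpecIso_naturality _
  refine ⟨_, π, inferInstance, ext_of_isAffine ?_, ?_, fun c hc ↦ ?_⟩
  · rw [Scheme.Hom.comp_appTop p π, Scheme.Hom.comp_appTop q π, hπ, Category.assoc, Category.assoc]
    congr 1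
    exact CommRingCat.hom_ext (RingHom.ext fun b ↦ b.2)
  · rw [hπ]
    intro x y hxy
    exact (ConcreteCategory.bijective_of_isIso (Scheme.ΓSpecIso (CommRingCat.of Bs)).hom).1
      (Subtype.ext hxy)
  · refine ⟨(Scheme.ΓSpecIso (CommRingCat.of Bs)).inv ⟨c, hc⟩, ?_⟩
    rw [hπ, CommRingCat.comp_apply, Iso.inv_hom_id_apply]
    rfl

/-- Idempotent functions with the same non-vanishing locus are equal. -/
theorem idempotent_ext {U : Scheme.{u}} [CompactSpace U] {e e' : Γ(U, ⊤)}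
    (he : IsIdempotentElem e) (he' : IsIdempotentElem e') (h : U.basicOpen e = U.basicOpen e') :
    e = e' := by
  have key : ∀ a b : Γ(U, ⊤), IsIdempotentElem a → IsIdempotentElem b →
      U.basicOpen a = U.basicOpen b → a * (1 - b) = 0 := by
    intro a b ha hb hab
    refine (ha.mul hb.one_sub).eq_zero_of_isNilpotent
      ((Scheme.isNilpotent_iff_basicOpen_eq_bot _).2 ?_)
    rw [Scheme.basicOpen_mul, hab, ← Scheme.basicOpen_mul, mul_sub, mul_one, hb.eq, sub_self,
      Scheme.basicOpen_zero]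
  have h1 := key e e' he he' h
  have h2 := key e' e he' he h.symm
  rw [mul_sub, mul_one, sub_eq_zero] at h1 h2
  exact h1.trans ((mul_comm e e').trans h2.symm)

/-- A clopen subset of an affine scheme is the non-vanishing locus of an idempotent. -/
theorem exists_idempotent {U : Scheme.{u}} [IsAffine U] {C : Set U} (hC : IsClopen C) :
    ∃ e : Γ(U, ⊤), IsIdempotentElem e ∧ (U.basicOpen e : Set U) = C := by
  obtain ⟨e, he, h⟩ := PrimeSpectrum.exists_idempotent_basicOpen_eq_of_isClopen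
    (s := (U.isoSpec.inv : Spec Γ(U, ⊤) ⟶ U) ⁻¹' C)
    (hC.preimage U.isoSpec.inv.continuous)
  refine ⟨e, he, ?_⟩
  have h1 : U.isoSpec.hom ⁻¹ᵁ PrimeSpectrum.basicOpen e = U.basicOpen e :=
    U.toSpecΓ_preimage_basicOpen e
  rw [← h1]
  ext x
  have h2 := Set.ext_iff.1 h (U.isoSpec.hom x)
  refine h2.symm.trans ?_
  change U.isoSpec.inv (U.isoSpec.hom x) ∈ C ↔ x ∈ C
  rw [← Scheme.Hom.comp_apply, Iso.hom_inv_id]
  rfl

end Groth.Agent.Lib.AlgSpMor.Fork
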