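import Groth.Agent.Lib.AlgSpMor.Fork
import Groth.Agent.Lib.AlgSpMor.SepPair
import Groth.Agent.Lib.AlgSpMor.RepDescent
import Groth.Agent.Lib.AlgSpDecent.OpenScheme
import Groth.Agent.Lib.AlgSpace.Diag
import Mathlib.AlgebraicGeometry.ZariskisMainTheorem

/-!
# Separated locally quasi-finite spaces over affine schemes

An algebraic space separated over an affine scheme, with an affine chart locally quasi-finite over
the base, is an open subscheme of the spectrum of its ring of functions.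
-/

set_option autoImplicit false
set_option linter.style.haveILetI false
universe u

open CategoryTheory CategoryTheory.Limits AlgebraicGeometry
open Groth.Agent.Lib.AlgSpace Groth.Agent.Lib.FFDesc

namespace Groth.Agent.Lib.AlgSpMor.LqfScheme

open AlgSp (Sp yon Representable RepWith IsAlgSpace IsSeparatedMor)
open AlgSp

theorem exists_point {P X Y Z : Scheme.{u}} {fst : P ⟶ X} {snd : P ⟶ Y} {f : X ⟶ Z} {g : Y ⟶ Z}
    (sq : IsPullback fst snd f g) (x : X) (y : Y) (h : f x = g y) :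
    ∃ z, fst z = x ∧ snd z = y := by
  obtain ⟨z, h1, h2⟩ := Scheme.Pullback.exists_preimage_pullback x y h
  exact ⟨sq.isoPullback.inv z,
    by rw [← Scheme.Hom.comp_apply, IsPullback.isoPullback_inv_fst]; exact h1,
    by rw [← Scheme.Hom.comp_apply, IsPullback.isoPullback_inv_snd]; exact h2⟩

variable {S : Scheme.{u}}

theorem isAffine_left_of_isPullback {P X Y Z : Over S} {fst : P ⟶ X} {snd : P ⟶ Y} {f : X ⟶ Z}
    {g : Y ⟶ Z} (sq : IsPullback fst snd f g) [IsAffine X.left] [IsAffine Y.left]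
    [IsAffine Z.left] : IsAffine P.left := by
  have : IsAffineHom snd.left := MorphismProperty.of_isPullback (P := @IsAffineHom)
    (sq.map (Over.forget S)) (inferInstance : IsAffineHom f.left)
  exact isAffine_of_isAffineHom snd.left

theorem isPullback_over {P X Y Z : Over S} {fst : P ⟶ X} {snd : P ⟶ Y} {f : X ⟶ Z} {g : Y ⟶ Z}
    (sq : IsPullback fst.left snd.left f.left g.left) : IsPullback fst snd f g :=
  IsPullback.of_map_of_faithful (Over.forget S) sq

/-- Etale neighbourhoods over which a piece of a quasi-finite scheme is finite. -/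
theorem exists_nbhd {U T : Over S} [IsAffine U.left] [IsAffine T.left] (m : U ⟶ T)
    [LocallyQuasiFinite m.left] [LocallyOfFiniteType m.left] (x : U.left) :
    ∃ (T₁ V₁ : Over S) (g₁ : T₁ ⟶ T) (i : V₁ ⟶ pullback m g₁), IsAffine T₁.left ∧
      Etale g₁.left ∧ IsAffine V₁.left ∧ IsOpenImmersion i.left ∧
      IsFinite (i ≫ pullback.snd m g₁).left ∧ ∃ v, (i ≫ pullback.fst m g₁).left v = x := by
  obtain ⟨T', g, _, -, V, W, v, -, hfin, hv⟩ :=
    exists_etale_isCompl_of_quasiFiniteAt m.left rfl (m.left.quasiFiniteAt x)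
  obtain ⟨W₀, hW₀, ht, -⟩ := exists_isAffineOpen_mem_and_subset
    (U := ⊤) (Set.mem_univ (pullback.snd m.left g v.1))
  let T₁ : Over S := Over.mk (W₀.ι ≫ g ≫ T.hom)
  let g₁ : T₁ ⟶ T := Over.homMk (W₀.ι ≫ g) (by simp [T₁])
  have : IsAffine T₁.left := hW₀
  have : Etale g₁.left := inferInstanceAs (Etale (W₀.ι ≫ g))
  have sqL : IsPullback (pullback.fst m g₁).left (pullback.snd m g₁).left m.left (W₀.ι ≫ g) :=
    (IsPullback.of_hasPullback m g₁).map (Over.forget S)
  let k : (pullback m g₁).left ⟶ pullback m.left g :=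
    pullback.lift (pullback.fst m g₁).left ((pullback.snd m g₁).left ≫ W₀.ι)
      (by rw [Category.assoc]; exact sqL.w)
  have sqk : IsPullback k (pullback.snd m g₁).left (pullback.snd m.left g) W₀.ι := by
    refine IsPullback.of_right ?_ (pullback.lift_snd _ _ _) (IsPullback.of_hasPullback m.left g)
    rw [pullback.lift_fst]
    exact sqL
  have : IsOpenImmersion k := MorphismProperty.of_isPullback (P := @IsOpenImmersion) sqk.flip
    (inferInstance : IsOpenImmersion W₀.ι)
  let V₁ : (pullback m g₁).left.Opens := k ⁻¹ᵁ V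
  have hfin₁ : IsFinite (V₁.ι ≫ (pullback.snd m g₁).left) :=
    MorphismProperty.of_isPullback (P := @IsFinite)
      ((isPullback_morphismRestrict k V).paste_vert sqk) hfin
  let V₁' : Over S := Over.mk (V₁.ι ≫ (pullback m g₁).hom)
  let i : V₁' ⟶ pullback m g₁ := Over.homMk V₁.ι
  have : IsFinite (i ≫ pullback.snd m g₁).left := hfin₁
  obtain ⟨z, hz, -⟩ := exists_point sqk v.1 (⟨_, ht⟩ : W₀) rfl
  have hzV : z ∈ V₁ := show k z ∈ V by rw [hz]; exact v.2
  refine ⟨T₁, V₁', g₁, i, ‹_›, ‹_›, isAffine_of_isAffineHom (i ≫ pullback.snd m g₁).left,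
    inferInstanceAs (IsOpenImmersion V₁.ι), ‹_›, ⟨z, hzV⟩, ?_⟩
  show (pullback.fst m g₁).left z = x
  rw [← hv, ← hz, ← Scheme.Hom.comp_apply, pullback.lift_fst]

section Core

variable {T U R Y : Over S} [IsAffine T.left] [IsAffine U.left] [IsAffine R.left] [IsAffine Y.left]
  {X : Sp S} {f : X ⟶ (yon S).obj T} {a : (yon S).obj U ⟶ X} {m : U ⟶ T}
  [LocallyQuasiFinite m.left] [LocallyOfFiniteType m.left] {p q : R ⟶ U} {π : U ⟶ Y} {τ : Y ⟶ T}
  {φ : X ⟶ (yon S).obj Y}

/-- Etale locally on the spectrum of the functions, the space is that spectrum. -/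
theorem exists_piece (hX : IsAlgSpace X) (hsep : IsSeparatedMor f) (ha : RepWith @Etale a)
    (has : RepWith @Surjective a) (hm : a ≫ f = (yon S).map m)
    (sqR : IsPullback ((yon S).map p) ((yon S).map q) a a) (hπτ : π ≫ τ = m)
    (hπ : p ≫ π = q ≫ π) (hfork : Fork.IsFork π.left p.left q.left)
    (hφ : a ≫ φ = (yon S).map π) (x : U.left) :
    ∃ (O : Over S) (jO : O ⟶ Y) (s : (yon S).obj O ⟶ X), Etale jO.left ∧
      π.left x ∈ Set.range jO.left ∧ IsPullback s ((yon S).map (𝟙 O)) φ ((yon S).map jO) := by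
  haveI := isLocallySurjective_of_etale ha has
  obtain ⟨T₁, V₁, g₁, i, _, _, _, _, _, v, hv⟩ := exists_nbhd m x
  -- the base change
  let U₁ : Over S := pullback m g₁
  let σ : U₁ ⟶ U := pullback.fst m g₁
  let m₁ : U₁ ⟶ T₁ := pullback.snd m g₁
  let Y₁ : Over S := pullback τ g₁
  let y₁ : Y₁ ⟶ Y := pullback.fst τ g₁
  have : IsAffine U₁.left := isAffine_left_of_isPullback (IsPullback.of_hasPullback m g₁)
  have : IsAffine Y₁.left := isAffine_left_of_isPullback (IsPullback.of_hasPullback τ g₁)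
  have : Etale y₁.left := MorphismProperty.of_isPullback (P := @Etale)
    ((IsPullback.of_hasPullback τ g₁).map (Over.forget S)).flip ‹Etale g₁.left›
  let π₁ : U₁ ⟶ Y₁ := pullback.lift (σ ≫ π) m₁
    (by rw [Category.assoc, hπτ]; exact pullback.condition)
  have hπ₁ : π₁ ≫ y₁ = σ ≫ π := pullback.lift_fst _ _ _
  have hπ₁' : π₁ ≫ pullback.snd τ g₁ = m₁ := pullback.lift_snd _ _ _
  have sqY : IsPullback σ π₁ π y₁ := by
    refine IsPullback.of_bot ?_ hπ₁.symm (IsPullback.of_hasPullback τ g₁)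
    rw [hπτ, hπ₁']
    exact IsPullback.of_hasPullback m g₁
  -- the space over the neighbourhood
  let X₁ : Sp S := pullback f ((yon S).map g₁)
  let f₁ : X₁ ⟶ (yon S).obj T₁ := pullback.snd f ((yon S).map g₁)
  let pr : X₁ ⟶ X := pullback.fst f ((yon S).map g₁)
  have sqX₁ : IsPullback pr f₁ f ((yon S).map g₁) := IsPullback.of_hasPullback _ _
  have hX₁ : IsAlgSpace X₁ :=
    isAlgSpace_of_isPullback sqX₁ (IsAlgSpace.yon_obj T).diag hX (IsAlgSpace.yon_obj T₁)
  have hsep₁ : IsSeparatedMor f₁ := Sep.repWith_diagonal_baseChange sqX₁ hsep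
  obtain ⟨a₁, ha₁f, ha₁p⟩ : ∃ a₁ : (yon S).obj U₁ ⟶ X₁, a₁ ≫ f₁ = (yon S).map m₁ ∧
      a₁ ≫ pr = (yon S).map σ ≫ a :=
    ⟨pullback.lift ((yon S).map σ ≫ a) ((yon S).map m₁) (by
      rw [Category.assoc, hm, ← Functor.map_comp, ← Functor.map_comp, pullback.condition]),
      pullback.lift_snd _ _ _, pullback.lift_fst _ _ _⟩
  have sqa : IsPullback ((yon S).map σ) a₁ a pr := by
    refine IsPullback.of_bot ?_ ha₁p.symm sqX₁
    rw [ha₁f, hm]
    exact isPullback_yon (IsPullback.of_hasPullback m g₁)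
  have ha₁ : RepWith @Etale a₁ := repWith_baseChange sqa ha
  have ha₁s : RepWith @Surjective a₁ := repWith_baseChange sqa has
  have : MorphismProperty.IsStableUnderComposition @Etale.{u} :=
    (inferInstance : MorphismProperty.IsMultiplicative @Etale.{u}).toIsStableUnderComposition
  let b : (yon S).obj V₁ ⟶ X₁ := (yon S).map i ≫ a₁
  have hb : RepWith @Etale b := repWith_yon_map_comp (inferInstance : Etale i.left) ha₁
  have hbf : b ≫ f₁ = (yon S).map (i ≫ m₁) := by
    rw [Category.assoc, ha₁f, Functor.map_comp]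
  -- the quotient of the finite piece
  haveI : IsFinite (hb.rep.snd b).left := by
    let P := pullback (i ≫ m₁) (i ≫ m₁)
    have hP := IsPullback.of_hasPullback (i ≫ m₁) (i ≫ m₁)
    have : IsFinite (pullback.snd (i ≫ m₁) (i ≫ m₁)).left :=
      MorphismProperty.of_isPullback (P := @IsFinite) (hP.map (Over.forget S))
        (inferInstance : IsFinite (i ≫ m₁).left)
    have sqb := hb.rep.isPullback' b
    obtain ⟨c, hc1, hc2⟩ : ∃ c : hb.rep.pullback b ⟶ P,
        c ≫ pullback.fst _ _ = hb.rep.fst' b ∧ c ≫ pullback.snd _ _ = hb.rep.snd b :=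
      ⟨pullback.lift (hb.rep.fst' b) (hb.rep.snd b) ((yon S).map_injective (by
        rw [(yon S).map_comp (hb.rep.fst' b), (yon S).map_comp (hb.rep.snd b), ← hbf]
        exact (Category.assoc _ _ _).symm.trans
          ((congrArg (· ≫ f₁) sqb.w).trans (Category.assoc _ _ _))) ), pullback.lift_fst _ _ _, pullback.lift_snd _ _ _⟩
    have := SepPair.isClosedImmersion_pair hsep₁ hbf hbf sqb hP c hc1 hc2
    rw [← hc2, Over.comp_left]
    infer_instance
  obtain ⟨Q, c, l, _, _, _, _, hl, _⟩ := AlgSpDecent.AffineQuot.exists_mono_quotient hb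
  have hlr : Representable l := hX₁.representable_from_yon l
  have hlo : RepWith @IsOpenImmersion l :=
    AlgSpDecent.OpenScheme.repWith_isOpenImmersion_of_comp c hlr (hl ▸ hb)
  -- the part of the chart over the quotient
  obtain ⟨SU, s₁, r₀, sqS₀, hs₁⟩ := repWith_exists hlo a₁
  obtain ⟨r, rfl⟩ := (yon S).map_surjective r₀
  haveI : IsOpenImmersion s₁.left := hs₁
  haveI : Surjective r.left := repWith_property ha₁s sqS₀.flip
  haveI : Etale r.left := repWith_property ha₁ sqS₀.flip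
  have hmem : ∀ z : U₁.left, z ∈ Set.range s₁.left ↔
      Points.ofPt a₁ z ∈ Set.range (Points.map l) := fun z ↦ by
    have := preimage_image_map sqS₀ Set.univ
    rw [Set.image_univ, Set.preimage_univ, Set.image_univ] at this
    exact ⟨fun h ↦ this.symm.subset h, fun h ↦ this.subset h⟩
  have hclosed : IsClosed (Set.range s₁.left) := by
    let P' := pullback r c
    have sqP' : IsPullback ((yon S).map (pullback.fst r c ≫ s₁)) ((yon S).map (pullback.snd r c))
        a₁ b := by
      rw [← hl, Functor.map_comp]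
      exact (isPullback_yon (IsPullback.of_hasPullback r c)).paste_horiz sqS₀.flip
    let P := pullback m₁ (i ≫ m₁)
    have hP := IsPullback.of_hasPullback m₁ (i ≫ m₁)
    have : IsFinite (pullback.fst m₁ (i ≫ m₁)).left :=
      MorphismProperty.of_isPullback (P := @IsFinite) (hP.map (Over.forget S)).flip
        (inferInstance : IsFinite (i ≫ m₁).left)
    obtain ⟨d, hd1, hd2⟩ : ∃ d : pullback r c ⟶ P,
        d ≫ pullback.fst _ _ = pullback.fst r c ≫ s₁ ∧ d ≫ pullback.snd _ _ = pullback.snd r c :=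
      ⟨pullback.lift (pullback.fst r c ≫ s₁) (pullback.snd r c) ((yon S).map_injective (by
        rw [(yon S).map_comp _ m₁, (yon S).map_comp (pullback.snd r c), ← ha₁f, ← hbf,
          ← Category.assoc, ← Category.assoc, sqP'.w])),
        pullback.lift_fst _ _ _, pullback.lift_snd _ _ _⟩
    have := SepPair.isClosedImmersion_pair hsep₁ ha₁f hbf sqP' hP d hd1 hd2
    have hfin : IsFinite (pullback.fst r c ≫ s₁).left := by
      rw [← hd1, Over.comp_left]
      infer_instance
    have e : Set.range (pullback.fst r c ≫ s₁).left = Set.range s₁.left := by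
      haveI : Surjective (pullback.fst r c).left :=
        AlgSpDecent.Fibre.surjective_left_pullback_fst r c
      rw [Over.comp_left, Scheme.Hom.comp_base, TopCat.coe_comp, Set.range_comp,
        (pullback.fst r c).left.surjective.range_eq, Set.image_univ]
    rw [← e]
    exact (pullback.fst r c ≫ s₁).left.isClosedMap.isClosed_range
  -- the idempotent
  obtain ⟨e, he, hee⟩ :=
    Fork.exists_idempotent ⟨hclosed, s₁.left.isOpenEmbedding.isOpen_range⟩
  let R₁ : Over S := pullback (p ≫ π) y₁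
  have : IsAffine R₁.left := isAffine_left_of_isPullback (IsPullback.of_hasPullback (p ≫ π) y₁)
  obtain ⟨p₁, hp₁, hp₁'⟩ : ∃ p₁ : R₁ ⟶ U₁,
      p₁ ≫ σ = pullback.fst _ _ ≫ p ∧ p₁ ≫ π₁ = pullback.snd _ _ :=
    ⟨sqY.lift (pullback.fst _ _ ≫ p) (pullback.snd _ _)
      (by rw [Category.assoc]; exact pullback.condition), sqY.lift_fst _ _ _, sqY.lift_snd _ _ _⟩
  obtain ⟨q₁, hq₁, hq₁'⟩ : ∃ q₁ : R₁ ⟶ U₁,
      q₁ ≫ σ = pullback.fst _ _ ≫ q ∧ q₁ ≫ π₁ = pullback.snd _ _ :=
    ⟨sqY.lift (pullback.fst _ _ ≫ q) (pullback.snd _ _)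
      (by rw [Category.assoc, ← hπ]; exact pullback.condition), sqY.lift_fst _ _ _,
      sqY.lift_snd _ _ _⟩
  have hpq : (yon S).map p₁ ≫ a₁ = (yon S).map q₁ ≫ a₁ := by
    apply sqX₁.hom_ext
    · rw [Category.assoc, Category.assoc, ha₁p, ← Category.assoc, ← Category.assoc,
        ← Functor.map_comp, ← Functor.map_comp, hp₁, hq₁, Functor.map_comp, Functor.map_comp,
        Category.assoc, Category.assoc, sqR.w]
    · rw [Category.assoc, Category.assoc, ha₁f, ← Functor.map_comp, ← Functor.map_comp, ← hπ₁',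
        ← Category.assoc, ← Category.assoc, hp₁', hq₁']
  have hinv : p₁.left.appTop e = q₁.left.appTop e := by
    refine Fork.idempotent_ext (he.map _) (he.map _) (TopologicalSpace.Opens.ext ?_)
    rw [← Scheme.preimage_basicOpen_top, ← Scheme.preimage_basicOpen_top]
    ext z
    have h1 : Points.ofPt a₁ (p₁.left z) = Points.ofPt a₁ (q₁.left z) := by
      rw [← ofPt_yon_map_comp, ← ofPt_yon_map_comp, hpq]
    show p₁.left z ∈ (U₁.left.basicOpen e : Set _) ↔ q₁.left z ∈ (U₁.left.basicOpen e : Set _)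
    rw [hee, hmem, hmem, h1]
  have hfork₁ : Fork.IsFork π₁.left p₁.left q₁.left :=
    Fork.isFork_baseChange (O := Y₁.left) (j := y₁.left) (congr($(hπ).left)) hfork (sqY.map (Over.forget S))
      ((IsPullback.of_hasPullback (p ≫ π) y₁).map (Over.forget S))
      (congr($(hp₁).left)) (congr($(hp₁').left)) (congr($(hq₁).left)) (congr($(hq₁').left))
  obtain ⟨e₀, he₀⟩ := hfork₁.2 e hinv
  let O₀ : Y₁.left.Opens := Y₁.left.basicOpen e₀
  have hO₀ : (π₁.left ⁻¹ᵁ O₀ : Set U₁.left) = Set.range s₁.left := by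
    rw [Scheme.preimage_basicOpen_top, he₀, hee]
  let O : Over S := Over.mk (O₀.ι ≫ Y₁.hom)
  let o₁ : O ⟶ Y₁ := Over.homMk O₀.ι
  have : IsAffine O.left := (isAffineOpen_top Y₁.left).basicOpen e₀
  haveI : IsOpenImmersion o₁.left := inferInstanceAs (IsOpenImmersion O₀.ι)
  let jO : O ⟶ Y := o₁ ≫ y₁
  haveI : Etale jO.left := inferInstanceAs (Etale (o₁.left ≫ y₁.left))
  -- the chart over the open
  have hrs : Set.range (s₁.left ≫ π₁.left) ⊆ Set.range o₁.left := by
    rintro _ ⟨z, rfl⟩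
    refine O₀.range_ι.symm.subset ?_
    exact hO₀.symm.subset ⟨z, rfl⟩
  let π' : SU ⟶ O := Over.homMk (IsOpenImmersion.lift o₁.left (s₁.left ≫ π₁.left) hrs) (by
    rw [← Over.w o₁, IsOpenImmersion.lift_fac_assoc, Category.assoc, Over.w, Over.w])
  have hπ' : π' ≫ o₁ = s₁ ≫ π₁ := Over.OverMorphism.ext (IsOpenImmersion.lift_fac _ _ _)
  have sqO : IsPullback s₁ π' π₁ o₁ := by
    refine (isPullback_over (IsOpenImmersion.isPullback π'.left s₁.left o₁.left π₁.left
      (congr($(hπ'.symm).left)) ?_)).flip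
    ext z
    exact (iff_of_eq (congrArg (z ∈ ·) (congrArg (π₁.left ⁻¹' ·) O₀.range_ι))).trans
      (Set.ext_iff.1 hO₀ z)
  have sqU' : IsPullback (s₁ ≫ σ) π' π jO := sqO.paste_horiz sqY
  let R' : Over S := pullback (p ≫ π) jO
  obtain ⟨p', hp', hp''⟩ : ∃ p' : R' ⟶ SU,
      p' ≫ (s₁ ≫ σ) = pullback.fst _ _ ≫ p ∧ p' ≫ π' = pullback.snd _ _ :=
    ⟨sqU'.lift (pullback.fst _ _ ≫ p) (pullback.snd _ _)
      (by rw [Category.assoc]; exact pullback.condition), sqU'.lift_fst _ _ _, sqU'.lift_snd _ _ _⟩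
  obtain ⟨q', hq', hq''⟩ : ∃ q' : R' ⟶ SU,
      q' ≫ (s₁ ≫ σ) = pullback.fst _ _ ≫ q ∧ q' ≫ π' = pullback.snd _ _ :=
    ⟨sqU'.lift (pullback.fst _ _ ≫ q) (pullback.snd _ _)
      (by rw [Category.assoc, ← hπ]; exact pullback.condition), sqU'.lift_fst _ _ _,
      sqU'.lift_snd _ _ _⟩
  have hfork' : Fork.IsFork π'.left p'.left q'.left :=
    Fork.isFork_baseChange (O := O.left) (j := jO.left) (congr($(hπ).left)) hfork (sqU'.map (Over.forget S))
      ((IsPullback.of_hasPullback (p ≫ π) jO).map (Over.forget S))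
      (congr($(hp').left)) (congr($(hp'').left)) (congr($(hq').left)) (congr($(hq'').left))
  have hm₁' : s₁ ≫ m₁ = π' ≫ (o₁ ≫ pullback.snd τ g₁) := by
    rw [← Category.assoc, hπ', Category.assoc, hπ₁']
  have hr : p' ≫ r = q' ≫ r := by
    apply (yon S).map_injective
    rw [← cancel_mono l, Functor.map_comp, Functor.map_comp, Category.assoc, Category.assoc,
      sqS₀.w, ← Category.assoc, ← Category.assoc, ← Functor.map_comp, ← Functor.map_comp]
    apply sqX₁.hom_ext
    · rw [Category.assoc, Category.assoc, ha₁p, ← Category.assoc, ← Category.assoc,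
        ← Functor.map_comp, ← Functor.map_comp, Category.assoc p' s₁, Category.assoc q' s₁, hp',
        hq', Functor.map_comp, Functor.map_comp, Category.assoc, Category.assoc, sqR.w]
    · rw [Category.assoc, Category.assoc, ha₁f, ← Functor.map_comp, ← Functor.map_comp,
        Category.assoc p' s₁, Category.assoc q' s₁, hm₁', ← Category.assoc p', ← Category.assoc q',
        hp'', hq'']
  obtain ⟨k₀, hk₀⟩ := hfork'.exists_desc r.left (congr($(hr).left))
  obtain ⟨τQ, hτQ⟩ := (yon S).map_surjective (l ≫ f₁)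
  have hrτ : r ≫ τQ = s₁ ≫ m₁ := (yon S).map_injective (by
    rw [Functor.map_comp, Functor.map_comp, hτQ, ← ha₁f, ← Category.assoc, sqS₀.w, Category.assoc])
  have hkτ : k₀ ≫ τQ.left = (o₁ ≫ pullback.snd τ g₁).left := hfork'.hom_ext (by
    rw [← Category.assoc, hk₀, ← Over.comp_left, ← Over.comp_left, hrτ, hm₁'])
  let k : O ⟶ Q := Over.homMk k₀ (by rw [← Over.w τQ, ← Category.assoc, hkτ, Over.w])
  have hk : π' ≫ k = r := Over.OverMorphism.ext hk₀
  -- the inverse
  obtain ⟨φ₁, hφ₁, hφ₁'⟩ : ∃ φ₁ : X₁ ⟶ (yon S).obj Y₁, φ₁ ≫ (yon S).map y₁ = pr ≫ φ ∧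
      φ₁ ≫ (yon S).map (pullback.snd τ g₁) = f₁ := by
    have hφτ : φ ≫ (yon S).map τ = f := by
      rw [← cancel_epi a, ← Category.assoc, hφ, ← Functor.map_comp, hπτ, hm]
    exact ⟨(isPullback_yon (IsPullback.of_hasPullback τ g₁)).lift (pr ≫ φ) f₁
      (by rw [Category.assoc, hφτ]; exact sqX₁.w), IsPullback.lift_fst _ _ _ _,
      IsPullback.lift_snd _ _ _ _⟩
  have ha₁φ : a₁ ≫ φ₁ = (yon S).map π₁ := by
    apply (isPullback_yon (IsPullback.of_hasPullback τ g₁)).hom_ext
    · rw [Category.assoc, hφ₁, ← Category.assoc, ha₁p, Category.assoc, hφ, ← Functor.map_comp,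
        ← Functor.map_comp, hπ₁]
    · rw [Category.assoc, hφ₁', ha₁f, ← Functor.map_comp, hπ₁']
  obtain ⟨hq₀, hhq₀⟩ := (yon S).map_surjective (l ≫ φ₁)
  have hrq : r ≫ hq₀ = s₁ ≫ π₁ := (yon S).map_injective (by
    rw [Functor.map_comp, Functor.map_comp, hhq₀, ← ha₁φ, ← Category.assoc, sqS₀.w, Category.assoc])
  have hrange : Set.range hq₀.left ⊆ Set.range o₁.left := by
    rintro _ ⟨z, rfl⟩
    obtain ⟨y, rfl⟩ := r.left.surjective z
    rw [← Scheme.Hom.comp_apply, ← Over.comp_left, hrq, ← hπ', Over.comp_left,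
      Scheme.Hom.comp_apply]
    exact ⟨_, rfl⟩
  let h : Q ⟶ O := Over.homMk (IsOpenImmersion.lift o₁.left hq₀.left hrange) (by
    rw [← Over.w o₁, IsOpenImmersion.lift_fac_assoc, Over.w])
  have hh : h ≫ o₁ = hq₀ := Over.OverMorphism.ext (IsOpenImmersion.lift_fac _ _ _)
  haveI : Mono o₁ := Over.mono_of_mono_left o₁
  have hrh : r ≫ h = π' := by
    rw [← cancel_mono o₁, Category.assoc, hh, hrq, hπ']
  have hkh : k ≫ h = 𝟙 O := Over.OverMorphism.ext (hfork'.hom_ext (by
    rw [← Over.comp_left, ← Category.assoc, hk, hrh, Over.id_left, Category.comp_id]))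
  let s : (yon S).obj O ⟶ X := (yon S).map k ≫ l ≫ pr
  have hs : s ≫ φ = (yon S).map jO := by
    show ((yon S).map k ≫ l ≫ pr) ≫ φ = (yon S).map (o₁ ≫ y₁)
    rw [Category.assoc, Category.assoc, ← hφ₁, ← Category.assoc l, ← hhq₀, ← Functor.map_comp,
      ← Functor.map_comp, ← hh, Category.assoc, ← Category.assoc k, hkh, Category.id_comp]
  refine ⟨O, jO, s, inferInstance, ?_, ?_⟩
  · have hb₀ : Points.ofPt b v ∈ Set.range (Points.map l) := by
      rw [AlgSpDecent.OpenScheme.range_map_eq c l, hl]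
      exact ⟨v, rfl⟩
    rw [show b = (yon S).map i ≫ a₁ from rfl, ofPt_yon_map_comp, ← hmem] at hb₀
    obtain ⟨z, hz⟩ := hb₀
    refine ⟨π'.left z, ?_⟩
    rw [← Scheme.Hom.comp_apply, ← Over.comp_left, ← Category.assoc, hπ', Category.assoc, hπ₁,
      ← hv]
    simp only [Over.comp_left, Scheme.Hom.comp_apply, hz]
    rfl
  · refine isPullback_of_yon (by rw [hs, CategoryTheory.Functor.map_id, Category.id_comp])
      (fun Z c c' _ e ↦ by simpa using e) fun Z ξ z e ↦ ⟨z, ?_, by simp⟩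
    obtain ⟨Z', t, w, ht, hw⟩ := exists_lift_of_isLocallySurjective a ξ
    obtain ⟨z, rfl⟩ := (yon S).map_surjective z
    obtain ⟨w, rfl⟩ := (yon S).map_surjective w
    have hwz : w ≫ π = (t ≫ z) ≫ jO := (yon S).map_injective (by
      rw [Functor.map_comp, ← hφ, ← Category.assoc, hw, Category.assoc, e,
        (yon S).map_comp (t ≫ z) jO, (yon S).map_comp t z, Category.assoc])
    obtain ⟨w', hw₁, hw₂⟩ : ∃ w' : Z' ⟶ SU, w' ≫ (s₁ ≫ σ) = w ∧ w' ≫ π' = t ≫ z :=
      ⟨sqU'.lift _ _ hwz, sqU'.lift_fst _ _ _, sqU'.lift_snd _ _ _⟩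
    haveI := epi_yon_map t ht
    rw [← cancel_epi ((yon S).map t), ← hw, ← Category.assoc, ← Functor.map_comp, ← hw₂]
    show (yon S).map (w' ≫ π') ≫ ((yon S).map k ≫ l ≫ pr) = _
    rw [← Functor.map_comp_assoc, Category.assoc, hk, Functor.map_comp, Category.assoc,
      ← Category.assoc _ l, sqS₀.w, Category.assoc, ha₁p, ← Category.assoc, ← Category.assoc,
      ← Functor.map_comp, ← Functor.map_comp, Category.assoc, hw₁]

end Core

/-- The space is an open subscheme of the spectrum of its ring of functions. -/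
theorem exists_isOpenImmersion {T U : Over S} [IsAffine T.left] [IsAffine U.left] {X : Sp S}
    (hX : IsAlgSpace X) {f : X ⟶ (yon S).obj T} (hsep : IsSeparatedMor f)
    {a : (yon S).obj U ⟶ X} (ha : RepWith @Etale a) (has : RepWith @Surjective a) {m : U ⟶ T}
    (hm : a ≫ f = (yon S).map m) [LocallyQuasiFinite m.left] [LocallyOfFiniteType m.left] :
    ∃ (Y : Over S) (φ : X ⟶ (yon S).obj Y), IsAffine Y.left ∧ RepWith @IsOpenImmersion φ := by
  haveI := isLocallySurjective_of_etale ha has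
  let R : Over S := ha.rep.pullback a
  let p : R ⟶ U := ha.rep.fst' a
  let q : R ⟶ U := ha.rep.snd a
  have sqR : IsPullback ((yon S).map p) ((yon S).map q) a a := ha.rep.isPullback' a
  have hpm : p ≫ m = q ≫ m := (yon S).map_injective (by
    rw [Functor.map_comp, Functor.map_comp, ← hm, ← Category.assoc, ← Category.assoc, sqR.w])
  haveI : IsAffine R.left := by
    have hP := IsPullback.of_hasPullback m m
    have := isAffine_left_of_isPullback hP
    obtain ⟨d, hd1, hd2⟩ : ∃ d : R ⟶ pullback m m, d ≫ pullback.fst _ _ = p ∧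
        d ≫ pullback.snd _ _ = q :=
      ⟨pullback.lift p q hpm, pullback.lift_fst _ _ _, pullback.lift_snd _ _ _⟩
    have := SepPair.isClosedImmersion_pair hsep hm hm sqR hP d hd1 hd2
    exact isAffine_of_isAffineHom d.left
  obtain ⟨Y₀, π₀, _, hπ₀, hfork⟩ := Fork.exists_fork p.left q.left
  obtain ⟨τ₀, hτ₀⟩ := hfork.exists_desc m.left (congr($(hpm).left))
  let Y : Over S := Over.mk (τ₀ ≫ T.hom)
  let π : U ⟶ Y := Over.homMk π₀
    (show π₀ ≫ τ₀ ≫ T.hom = U.hom by rw [reassoc_of% hτ₀, Over.w])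
  let τ : Y ⟶ T := Over.homMk τ₀
  haveI : IsAffine Y.left := ‹IsAffine Y₀›
  have hπτ : π ≫ τ = m := Over.OverMorphism.ext hτ₀
  have hπ : p ≫ π = q ≫ π := Over.OverMorphism.ext hπ₀
  obtain ⟨φ, hφ⟩ := exists_desc a sqR ((yon S).map π)
    (by rw [← Functor.map_comp, ← Functor.map_comp, hπ])
  choose O jO s hje hjm sq using fun x : U.left ↦
    exists_piece hX hsep ha has hm sqR hπτ hπ hfork hφ x
  -- the open image
  let W : Y.left.Opens := ⟨⋃ x, Set.range (jO x).left, isOpen_iUnion fun x ↦ by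
    have := hje x
    exact (jO x).left.isOpenMap.isOpen_range⟩
  let Y' : Over S := Topo.opensOver W
  let ι : Y' ⟶ Y := Topo.opensOverι W
  haveI : IsOpenImmersion ι.left := inferInstanceAs (IsOpenImmersion W.ι)
  haveI : Mono ι := Over.mono_of_mono_left ι
  have hl : ∀ {Z : Over S} (g : Z ⟶ Y), Set.range g.left ⊆ (W : Set Y.left) →
      ∃ g' : Z ⟶ Y', g' ≫ ι = g := fun g hg ↦
    ⟨Over.homMk (IsOpenImmersion.lift ι.left g.left (hg.trans W.range_ι.symm.subset))
      (by rw [← Over.w ι, IsOpenImmersion.lift_fac_assoc, Over.w]),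
      Over.OverMorphism.ext (IsOpenImmersion.lift_fac _ _ _)⟩
  obtain ⟨π', hπ'⟩ := hl π (Set.range_subset_iff.2 fun x ↦ Set.mem_iUnion.2 ⟨x, hjm x⟩)
  choose jO' hjO' using fun x ↦ hl (jO x) (Set.subset_iUnion_of_subset x subset_rfl)
  obtain ⟨φ', hφ'⟩ := exists_desc a sqR ((yon S).map π') (by
    rw [← cancel_mono ((yon S).map ι), Category.assoc, Category.assoc, ← Functor.map_comp, hπ',
      ← Functor.map_comp, ← Functor.map_comp, hπ])
  have hφι : φ' ≫ (yon S).map ι = φ := by
    rw [← cancel_epi a, ← Category.assoc, hφ', hφ, ← Functor.map_comp, hπ']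
  have sq' : ∀ x, IsPullback (s x) ((yon S).map (𝟙 (O x))) φ' ((yon S).map (jO' x)) := fun x ↦ by
    refine isPullback_of_yon ?_ (fun Z c c' _ e ↦ by simpa using e) fun Z c z e ↦ ?_
    · rw [← cancel_mono ((yon S).map ι), Category.assoc, Category.assoc, hφι, ← Functor.map_comp,
        hjO', (sq x).w]
    · exact ⟨_, (sq x).lift_fst c z (by
        rw [← hφι, ← Category.assoc, e, Category.assoc, ← Functor.map_comp, hjO']),
        (sq x).lift_snd c z _⟩
  obtain ⟨b, G, t, ht, hpb, sqb⟩ := RepDescent.exists_isPullback_sigma sq'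
  haveI : IsZariskiLocalAtSource @Etale.{u} :=
    HasRingHomProperty.instIsZariskiLocalAtSource (P := @Etale) (Q := RingHom.Etale)
  haveI : Etale t.left := by
    have h : ∀ x : U.left, Etale ((sigmaOverι O x).left ≫ t.left) := fun x ↦ by
      rw [← Over.comp_left, ht]
      haveI : Etale ((jO' x).left ≫ ι.left) := by
        rw [← Over.comp_left, hjO']
        exact hje x
      exact Etale.of_comp (jO' x).left ι.left
    exact (IsZariskiLocalAtSource.iff_of_openCover (P := @Etale.{u})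
      (sigmaOpenCover fun x ↦ (O x).left)).2 h
  haveI : Surjective t.left := ⟨fun y ↦ by
    obtain ⟨x, z, hz⟩ := Set.mem_iUnion.1 (show ι.left y ∈ (W : Set Y.left) from y.2)
    refine ⟨(sigmaOverι O x).left z, ι.left.isOpenEmbedding.injective ?_⟩
    rw [← Scheme.Hom.comp_apply, ← Scheme.Hom.comp_apply, ← Category.assoc, ← Over.comp_left,
      ht, ← Over.comp_left, hjO', hz]⟩
  have hG : IsOpenImmersion G.left := IsZariskiLocalAtTarget.of_openCover (P := @IsOpenImmersion)
    (sigmaOpenCover fun x ↦ (O x).left) fun x ↦ by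
      show IsOpenImmersion (pullback.snd G.left (sigmaOverι O x).left)
      have h := hpb x
      simp only [Over.id_left] at h
      rw [← (IsPullback.of_hasPullback _ _).isoIsPullback_hom_snd _ _ h]
      infer_instance
  haveI := isLocalAtTarget_fppf_isOpenImmersion.{u}
  have hφ'o : RepWith @IsOpenImmersion φ' := RepDescent.repWith_of_cover @IsOpenImmersion
    RepDescent.effective_isOpenImmersion (IsAlgSpace.yon_obj Y').diag
    (repWith_etale_yon_map ‹Etale t.left›) (repWith_surjective_yon_map ‹Surjective t.left›) sqb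
    ((repWith_yon_map_iff _ G).2 hG)
  refine ⟨Y, φ, ‹_›, ?_⟩
  rw [← hφι]
  exact repWith_comp hφ'o ((repWith_yon_map_iff _ ι).2 ‹_›)

end Groth.Agent.Lib.AlgSpMor.LqfScheme
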