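import Groth.Agent.Lib.AlgSpMor.Proper
import Groth.Agent.Lib.AlgSpMor.Sep
import Groth.Agent.Lib.AlgSpMor.QC
import Groth.Agent.Lib.AlgSpDecent.RedInduced

/-!
# Images of proper spaces are proper
-/

set_option autoImplicit false

universe u

open CategoryTheory CategoryTheory.Limits AlgebraicGeometry
open AlgSp Groth.Agent.Lib.AlgSpace Groth.Agent.Lib.AlgSpMor

namespace Groth.Agent.Lib.AlgSpMor.ProperImage

variable {S : Scheme.{u}}

/-- Universal closedness passes along jointly surjective families. -/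
theorem isUnivClosedMor_of_family {ι : Type*} [Finite ι] {W : ι → Sp S} {V B : Sp S}
    (q : ∀ k, W k ⟶ V) (v : V ⟶ B) (hs : ∀ x, ∃ k, x ∈ Set.range (Points.map (q k)))
    (h : ∀ k, IsUnivClosedMor (q k ≫ v)) : IsUnivClosedMor v := by
  intro Z P hZ g fst snd sq
  refine fun C hC => ?_
  have hk : ∀ k, IsClosed (Points.map (pullback.snd (q k) fst ≫ snd) ''
      (Points.map (pullback.snd (q k) fst) ⁻¹' C)) := fun k =>
    h k hZ g _ _ ((IsPullback.of_hasPullback (q k) fst).paste_vert sq) _
      (hC.preimage (Points.continuous_map _))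
  have e : Points.map snd '' C = ⋃ k, Points.map (pullback.snd (q k) fst ≫ snd) ''
      (Points.map (pullback.snd (q k) fst) ⁻¹' C) := by
    ext z
    simp only [Set.mem_iUnion, Set.mem_image, Set.mem_preimage]
    constructor
    · rintro ⟨c, hc, rfl⟩
      obtain ⟨k, w, hw⟩ := hs (Points.map fst c)
      obtain ⟨p, -, hp⟩ := exists_of_isPullback (IsPullback.of_hasPullback (q k) fst) w c hw
      exact ⟨k, p, hp ▸ hc, by rw [Points.map_comp, hp]⟩
    · rintro ⟨k, p, hp, rfl⟩
      exact ⟨_, hp, by rw [Points.map_comp]⟩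
  rw [e]
  exact isClosed_iUnion_of_finite hk

/-- The square of a universally closed morphism is universally closed. -/
theorem isUnivClosedMor_map_self {W V B : Sp S} (hW : IsAlgSpace W) (hV : IsAlgSpace V)
    (hB : IsAlgSpace B) (q : W ⟶ V) (v : V ⟶ B) (hq : IsUnivClosedMor q) :
    IsUnivClosedMor (pullback.map (q ≫ v) (q ≫ v) v v q q (𝟙 B)
      (Category.comp_id _) (Category.comp_id _)) := by
  let m₁ : pullback (q ≫ v) (q ≫ v) ⟶ pullback v (q ≫ v) :=
    pullback.lift (pullback.fst _ _ ≫ q) (pullback.snd _ _)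
      (by rw [Category.assoc, pullback.condition])
  let m₂ : pullback v (q ≫ v) ⟶ pullback v v :=
    pullback.lift (pullback.fst _ _) (pullback.snd _ _ ≫ q)
      (by rw [Category.assoc, pullback.condition])
  have sq₁ : IsPullback (pullback.fst (q ≫ v) (q ≫ v)) m₁ q (pullback.fst v (q ≫ v)) :=
    IsPullback.of_bot (by simpa [m₁, pullback.lift_snd] using IsPullback.of_hasPullback (q ≫ v) (q ≫ v))
      (pullback.lift_fst _ _ _).symm (IsPullback.of_hasPullback v (q ≫ v))
  have sq₂ : IsPullback (pullback.snd v (q ≫ v)) m₂ q (pullback.snd v v) := by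
    refine IsPullback.of_bot ?_ (pullback.lift_snd _ _ _).symm
      (IsPullback.of_hasPullback v v).flip
    simpa [m₂, pullback.lift_fst] using (IsPullback.of_hasPullback v (q ≫ v)).flip
  have e : pullback.map (q ≫ v) (q ≫ v) v v q q (𝟙 B) (Category.comp_id _) (Category.comp_id _) =
      m₁ ≫ m₂ := by
    apply pullback.hom_ext <;>
      simp [m₁, m₂, pullback.lift_fst, pullback.lift_snd, pullback.lift_fst_assoc,
        pullback.lift_snd_assoc]
  rw [e]
  exact Proper.isUnivClosedMor_comp
    (isAlgSpace_of_isPullback (IsPullback.of_hasPullback v (q ≫ v)) hB.diag hV hW)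
    (isAlgSpace_of_isPullback (IsPullback.of_hasPullback v v) hB.diag hV hV).diag
    (Proper.univSp_baseChange sq₁ hq) (Proper.univSp_baseChange sq₂ hq)

/-- A space locally of finite type covered by finitely many proper ones through universally closed
maps is proper. -/
theorem isProperMor_of_family {ι : Type*} [Finite ι] {W : ι → Sp S} {V B : Sp S}
    (hW : ∀ k, IsAlgSpace (W k)) (hV : IsAlgSpace V) (hB : IsAlgSpace B) (q : ∀ k, W k ⟶ V)
    (v : V ⟶ B) (hs : ∀ x, ∃ k, x ∈ Set.range (Points.map (q k)))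
    (hq : ∀ k, IsUnivClosedMor (q k)) (hp : ∀ k, IsProperMor (q k ≫ v))
    (hft : LocP @LocallyOfFiniteType v) : IsProperMor v := by
  refine ⟨?_, ⟨hft, ?_⟩, isUnivClosedMor_of_family q v hs fun k => (hp k).2.2⟩
  · -- separatedness
    obtain ⟨hr, hlft, hmono, -, -⟩ := Sep.diagonal_props v hV
    have huc : IsUnivClosedMor (pullback.diagonal v) := by
      refine isUnivClosedMor_of_family q _ hs fun k => ?_
      have e : q k ≫ pullback.diagonal v = pullback.diagonal (q k ≫ v) ≫
          pullback.map (q k ≫ v) (q k ≫ v) v v (q k) (q k) (𝟙 B)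
            (Category.comp_id _) (Category.comp_id _) := by
        apply pullback.hom_ext <;> simp [pullback.lift_fst, pullback.lift_snd]
      rw [e]
      exact Proper.isUnivClosedMor_comp
        (isAlgSpace_of_isPullback (IsPullback.of_hasPullback (q k ≫ v) (q k ≫ v)) hB.diag (hW k) (hW k))
        (isAlgSpace_of_isPullback (IsPullback.of_hasPullback v v) hB.diag hV hV).diag
        (Proper.isUnivClosedMor_of_repWith (repWith_mono (hp k).1
          fun _ _ g (_ : IsClosedImmersion g) => (inferInstance : UniversallyClosed g)))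
        (isUnivClosedMor_map_self (hW k) hV hB (q k) v (hq k))
    refine repWith_of_exists fun T p => ⟨hr.pullback p, hr.snd p, hr.fst p, hr.isPullback p, ?_⟩
    have sq := hr.isPullback p
    have h₁ : LocallyOfFiniteType (hr.snd p).left := repWith_property hlft sq
    have h₂ : Mono (hr.snd p).left := repWith_property hmono sq
    have h₃ : UniversallyClosed (hr.snd p).left :=
      repWith_property (Proper.repWith_universallyClosed_of hr huc) sq
    rw [Sep.isClosedImmersion_eq]
    exact ⟨⟨h₃, h₁⟩, h₂⟩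
  · refine QC.isQuasiCompactMor_of_affine hV hB.diag fun Z hZ g P fst snd sq => ?_
    haveI := hZ
    have hk : ∀ k, CompactSpace (Points (pullback (q k) fst)) := fun k =>
      QC.compactSpace_of_isQuasiCompactMor (hp k).2.1.2
        ((IsPullback.of_hasPullback (q k) fst).paste_vert sq)
    have e : (Set.univ : Set (Points P)) =
        ⋃ k, Points.map (pullback.snd (q k) fst) '' Set.univ := by
      refine (Set.eq_univ_of_forall fun c => ?_).symm
      obtain ⟨k, w, hw⟩ := hs (Points.map fst c)
      obtain ⟨p, -, hp⟩ := exists_of_isPullback (IsPullback.of_hasPullback (q k) fst) w c hw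
      exact Set.mem_iUnion.2 ⟨k, p, trivial, hp⟩
    exact ⟨e ▸ isCompact_iUnion fun k => (hk k).isCompact_univ.image (Points.continuous_map _)⟩

theorem locP_closedImmersion_comp {Z X Y : Sp S} (hZ : IsAlgSpace Z) (hX : IsAlgSpace X)
    (hY : IsAlgSpace Y) {i : Z ⟶ X} (hi : RepWith @IsClosedImmersion i) {f : X ⟶ Y}
    (hf : LocP @LocallyOfFiniteType f) : LocP @LocallyOfFiniteType (i ≫ f) :=
  LocP.locP_comp SourceDescent.Scheme.locallyOfFiniteType hZ hX hY
    (Proper.isProperMor_of_closedImmersion hi).2.1.1 hf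

/-- A closed subspace covered by images of proper spaces is proper. -/
theorem isProperMor_closed {ι : Type*} [Finite ι] {Z : ι → Sp S} {V X Y : Sp S}
    (hZ : ∀ k, IsAlgSpace (Z k)) (hV : IsAlgSpace V) (hX : IsAlgSpace X) (hY : IsAlgSpace Y)
    (g : ∀ k, Z k ⟶ X) (hg : ∀ k, IsUnivClosedMor (g k)) {i : V ⟶ X}
    (hi : RepWith @IsClosedImmersion i) {f : X ⟶ Y} (hf : LocP @LocallyOfFiniteType f)
    (hp : ∀ k, IsProperMor (g k ≫ f))
    (hr : Set.range (Points.map i) ⊆ ⋃ k, Set.range (Points.map (g k))) :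
    IsProperMor (i ≫ f) := by
  have sq := fun k => IsPullback.of_hasPullback (g k) i
  have hW : ∀ k, IsAlgSpace (pullback (g k) i) := fun k =>
    isAlgSpace_of_isPullback (sq k) hX.diag (hZ k) hV
  refine isProperMor_of_family hW hV hY (fun k => pullback.snd (g k) i) (i ≫ f) (fun x => ?_)
    (fun k => Proper.univSp_baseChange (sq k) (hg k)) (fun k => ?_)
    (locP_closedImmersion_comp hV hX hY hi hf)
  · obtain ⟨k, z, hz⟩ := Set.mem_iUnion.1 (hr ⟨x, rfl⟩)
    obtain ⟨p, -, hp⟩ := exists_of_isPullback (sq k) z x hz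
    exact ⟨k, p, hp⟩
  · rw [← Category.assoc, ← (sq k).w, Category.assoc]
    exact Proper.isProperMor_comp (hW k) (hZ k) hY
      (Proper.isProperMor_of_closedImmersion (repWith_baseChange (sq k).flip hi)) (hp k)

/-- The union of the images of finitely many proper spaces underlies a proper closed subspace. -/
theorem exists_closed_image {ι : Type*} [Finite ι] {Z : ι → Sp S} {X Y : Sp S}
    (hZ : ∀ k, IsAlgSpace (Z k)) (hX : IsAlgSpace X) (hY : IsAlgSpace Y)
    (g : ∀ k, Z k ⟶ X) (hg : ∀ k, IsUnivClosedMor (g k)) {f : X ⟶ Y}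
    (hf : LocP @LocallyOfFiniteType f) (hp : ∀ k, IsProperMor (g k ≫ f)) :
    IsClosed (⋃ k, Set.range (Points.map (g k))) ∧
    ∃ (V : Space S) (i : V.obj ⟶ X), RepWith @IsClosedImmersion i ∧
      Set.range (Points.map i) = ⋃ k, Set.range (Points.map (g k)) ∧ IsProperMor (i ≫ f) := by
  have hc : IsClosed (⋃ k, Set.range (Points.map (g k))) := isClosed_iUnion_of_finite fun k =>
    (Proper.isClosedMap_of_isUnivClosedMor hX (hg k)).isClosed_range
  obtain ⟨V, i, hV, hi, hr, -⟩ := AlgSpDecent.RedInduced.exists_redInduced hX hc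
  exact ⟨hc, ⟨V, hV⟩, i, hi, hr, isProperMor_closed hZ hV hX hY g hg hi hf hp hr.subset⟩

end Groth.Agent.Lib.AlgSpMor.ProperImage
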