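import Groth.Agent.Lib.AlgSpMor.FlatMonoAlg

/-!
# Universally injective ring maps descend flatness

If `A → C` is universally injective and `C ⊗[A] M` is flat over `C`, then `M` is flat over `A`.
-/

set_option autoImplicit false
set_option linter.style.haveILetI false

universe u

open TensorProduct

namespace Groth.Agent.Lib.AlgSpMor.PureFlat

variable {A C : Type u} [CommRing A] [CommRing C] [Algebra A C]

variable (hpure : ∀ (N : Type u) [AddCommGroup N] [Module A N],
  Function.Injective fun n : N ↦ (1 : C) ⊗ₜ[A] n)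

include hpure in
/-- Flatness descends along universally injective ring maps. -/
theorem flat_of_pure (M : Type u) [AddCommGroup M] [Module A M] [Module.Flat C (C ⊗[A] M)] :
    Module.Flat A M := by
  classical
  refine Module.Flat.iff_forall_isTrivialRelation.2 fun {l a x} hx ↦ ?_
  let aL : (Fin l → A) →ₗ[A] A := ∑ i, a i • LinearMap.proj i
  have haL : ∀ v, aL v = ∑ i, a i * v i := fun v ↦ by simp [aL]
  let D : Submodule A (Fin l → M) := Submodule.span A
    (Set.range fun km : LinearMap.ker aL × M ↦ fun i ↦ (km.1 : Fin l → A) i • km.2)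
  by_cases hD : x ∈ D
  · obtain ⟨n, f, g, hfg⟩ := Submodule.mem_span_set'.1 hD
    choose km hkm using fun j ↦ (g j).2
    refine ⟨n, fun i j ↦ f j * ((km j).1 : Fin l → A) i, fun j ↦ (km j).2, fun i ↦ ?_, fun j ↦ ?_⟩
    · rw [← hfg, Finset.sum_apply]
      exact Finset.sum_congr rfl fun j _ ↦ by
        rw [Pi.smul_apply, ← congr_fun (hkm j) i, smul_smul]
    · have h : aL (km j).1 = 0 := (km j).1.2
      rw [haL] at h
      calc ∑ i, a i * (f j * ((km j).1 : Fin l → A) i)
          = f j * ∑ i, a i * ((km j).1 : Fin l → A) i := by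
            rw [Finset.mul_sum]; exact Finset.sum_congr rfl fun i _ ↦ by ring
        _ = 0 := by rw [h, mul_zero]
  · exfalso
    have hne : (Submodule.Quotient.mk x : (Fin l → M) ⧸ D) ≠ 0 := fun h ↦
      hD ((Submodule.Quotient.mk_eq_zero D).1 h)
    obtain ⟨Λ₀, hΛ₀⟩ := CharacterModule.exists_character_apply_ne_zero_of_ne_zero hne
    let Λ : CharacterModule (Fin l → M) := CharacterModule.dual D.mkQ Λ₀
    have hΛD : ∀ y ∈ D, Λ y = 0 := fun y hy ↦ by
      show Λ₀ (D.mkQ y) = 0
      rw [Submodule.mkQ_apply, (Submodule.Quotient.mk_eq_zero D).2 hy, map_zero]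
    have hΛx : Λ x ≠ 0 := hΛ₀
    let ν : Fin l → M →ₗ[A] CharacterModule A := fun i ↦
      { toFun := fun m ↦ CharacterModule.dual
          ((LinearMap.single A (fun _ : Fin l ↦ M) i).comp (LinearMap.toSpanSingleton A M m)) Λ
        map_add' := fun m m' ↦ DFunLike.ext _ _ fun r ↦ by
          show Λ (Pi.single i (r • (m + m'))) = Λ (Pi.single i (r • m)) + Λ (Pi.single i (r • m'))
          rw [smul_add, Pi.single_add, map_add]
        map_smul' := fun s m ↦ DFunLike.ext _ _ fun r ↦ by
          show Λ (Pi.single i (r • s • m)) = Λ (Pi.single i ((s • r) • m))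
          rw [smul_smul, smul_eq_mul, mul_comm] }
    have hν : ∀ i m r, ν i m r = Λ (Pi.single i (r • m)) := fun _ _ _ ↦ rfl
    -- the functionals factor through the relation
    have hβ : ∀ m : M, ∃ β : CharacterModule A, ∀ i, ν i m = a i • β := by
      intro m
      let em : (Fin l → A) →ₗ[A] (Fin l → M) :=
        LinearMap.pi fun i ↦ (LinearMap.toSpanSingleton A M m).comp (LinearMap.proj i)
      have hem : ∀ k ∈ LinearMap.ker aL, CharacterModule.dual em Λ k = 0 := fun k hk ↦
        hΛD _ (Submodule.subset_span ⟨(⟨k, hk⟩, m), rfl⟩)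
      obtain ⟨β, hβ⟩ := CharacterModule.dual_surjective_of_injective
        ((LinearMap.ker aL).liftQ aL le_rfl)
        (LinearMap.ker_eq_bot.1 (Submodule.ker_liftQ_eq_bot _ _ _ le_rfl))
        (QuotientAddGroup.lift (LinearMap.ker aL).toAddSubgroup (CharacterModule.dual em Λ) hem)
      refine ⟨β, fun i ↦ DFunLike.ext _ _ fun r ↦ ?_⟩
      have h := DFunLike.congr_fun hβ
        (Submodule.Quotient.mk (Pi.single i r : Fin l → A))
      have e1 : aL (Pi.single i r) = a i * r := by
        rw [haL, Finset.sum_eq_single i (fun j _ hj ↦ by simp [hj]) (by simp)]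
        simp
      have e2 : em (Pi.single i r) = Pi.single i (r • m) := by
        ext j
        by_cases hj : j = i <;> simp [em, hj]
      rw [hν, CharacterModule.smul_apply, smul_eq_mul, ← e1, ← e2]
      exact h.symm
    choose β hβ using hβ
    -- the evaluation on the tensor product
    have hj : Function.Injective
        ((TensorProduct.mk A (CharacterModule A) C).flip 1) := fun b b' h ↦
      hpure (CharacterModule A) (by
        have := congrArg (TensorProduct.comm A (CharacterModule A) C) h
        simpa using this)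
    obtain ⟨e, he⟩ := CharacterModule.dual_surjective_of_injective _ hj
      ({ toFun := fun b ↦ b 1, map_zero' := rfl, map_add' := fun _ _ ↦ rfl } :
        CharacterModule (CharacterModule A))
    let G : Fin l → C ⊗[A] M →+ AddCircle (1 : ℚ) := fun i ↦
      AddMonoidHom.comp e ((TensorProduct.comm A C (CharacterModule A)).toLinearMap ∘ₗ
        (ν i).lTensor C).toAddMonoidHom
    have hG : ∀ i c m, G i (c ⊗ₜ m) = e (ν i m ⊗ₜ c) := fun _ _ _ ↦ rfl
    have h1 : ∀ i m, G i ((1 : C) ⊗ₜ m) = ν i m 1 := fun i m ↦ by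
      rw [hG]
      exact DFunLike.congr_fun he (ν i m)
    have hrel : ∑ i, algebraMap A C (a i) • ((1 : C) ⊗ₜ[A] x i) = 0 := by
      simp only [algebraMap_smul, ← TensorProduct.tmul_smul, ← TensorProduct.tmul_sum, hx,
        TensorProduct.tmul_zero]
    obtain ⟨k, c, z, hcz, hc⟩ := Module.Flat.isTrivialRelation_of_sum_smul_eq_zero hrel
    have hz : ∀ (j : Fin k) (w : C ⊗[A] M), ∑ i, G i (c i j • w) = 0 := by
      intro j w
      induction w with
      | zero => simp
      | tmul d m =>
        simp only [TensorProduct.smul_tmul', smul_eq_mul, hG, hβ m, TensorProduct.smul_tmul]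
        rw [← map_sum, ← TensorProduct.tmul_sum]
        have : ∑ i, a i • (c i j * d) = 0 := by
          simp only [Algebra.smul_def, ← mul_assoc, ← Finset.sum_mul, hc j, zero_mul]
        rw [this, TensorProduct.tmul_zero, map_zero]
      | add w w' hw hw' => simp [smul_add, Finset.sum_add_distrib, hw, hw']
    refine hΛx ?_
    calc Λ x = Λ (∑ i, Pi.single i (x i)) := by rw [Finset.univ_sum_single]
      _ = ∑ i, G i ((1 : C) ⊗ₜ x i) := by
          rw [map_sum]
          exact Finset.sum_congr rfl fun i _ ↦ by rw [h1, hν, one_smul]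
      _ = ∑ i, ∑ j, G i (c i j • z j) :=
          Finset.sum_congr rfl fun i _ ↦ by rw [show (1 : C) ⊗ₜ[A] x i = _ from hcz i, map_sum]
      _ = 0 := by rw [Finset.sum_comm]; exact Finset.sum_eq_zero fun j _ ↦ hz j (z j)

variable [Algebra.Etale C (C ⊗[A] C)]

include hpure in
/-- A universally injective ring map with etale self-product is etale and surjective on spectra. -/
theorem etale_of_pure :
    (algebraMap A C).Etale ∧ Function.Surjective (PrimeSpectrum.comap (algebraMap A C)) := by
  haveI : Module.Flat A C := flat_of_pure hpure C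
  have hinj : Function.Injective (algebraMap A C) := fun r s h ↦ hpure A (by
    show (1 : C) ⊗ₜ[A] r = (1 : C) ⊗ₜ[A] s
    have e : ∀ r : A, (1 : C) ⊗ₜ[A] r = (algebraMap A C r) ⊗ₜ[A] (1 : A) := fun r ↦ by
      rw [Algebra.algebraMap_eq_smul_one, TensorProduct.smul_tmul, smul_eq_mul, mul_one]
    rw [e, e, h])
  have hex : ∀ c : C, c ⊗ₜ[A] (1 : C) = (1 : C) ⊗ₜ[A] c → c ∈ Set.range (algebraMap A C) := by
    intro c hc
    let R : Submodule A C := LinearMap.range (Algebra.linearMap A C)
    have h0 : (1 : C) ⊗ₜ[A] R.mkQ c = (1 : C) ⊗ₜ[A] (0 : C ⧸ R) := by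
      rw [TensorProduct.tmul_zero, ← LinearMap.lTensor_tmul, ← hc, LinearMap.lTensor_tmul,
        Submodule.mkQ_apply,
        (Submodule.Quotient.mk_eq_zero R).2 ⟨1, (algebraMap A C).map_one⟩, TensorProduct.tmul_zero]
    exact (Submodule.Quotient.mk_eq_zero R).1 (hpure (C ⧸ R) h0)
  haveI : Module.FaithfullyFlat A C := by
    rw [Module.FaithfullyFlat.iff_flat_and_proper_ideal]
    refine ⟨inferInstance, fun I hI htop ↦ hI ?_⟩
    rw [Ideal.eq_top_iff_one, ← Ideal.Quotient.eq_zero_iff_mem]
    refine hpure (A ⧸ I) ?_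
    show (1 : C) ⊗ₜ[A] Ideal.Quotient.mk I 1 = (1 : C) ⊗ₜ[A] (0 : A ⧸ I)
    have hmem : (1 : C) ∈ I • (⊤ : Submodule A C) := by rw [htop]; trivial
    have key : ∀ y ∈ I • (⊤ : Submodule A C),
        y ⊗ₜ[A] Ideal.Quotient.mk I 1 = (0 : C ⊗[A] (A ⧸ I)) := by
      intro y hy
      refine Submodule.smul_induction_on hy (fun r hr c _ ↦ ?_) fun y y' hy hy' ↦ by
        rw [TensorProduct.add_tmul, hy, hy', add_zero]
      rw [TensorProduct.smul_tmul, Algebra.smul_def, map_one, mul_one,
        Ideal.Quotient.algebraMap_eq, Ideal.Quotient.eq_zero_iff_mem.2 hr, TensorProduct.tmul_zero]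
    rw [key 1 hmem, TensorProduct.tmul_zero]
  exact ⟨FlatMonoAlg.etale_of_exact hinj hex,
    PrimeSpectrum.comap_surjective_of_faithfullyFlat⟩

end Groth.Agent.Lib.AlgSpMor.PureFlat
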