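import Groth.Agent.Lib.AlgSpMor.PureFlat
import Groth.Agent.Lib.AlgSpMor.QC
import Groth.Agent.Lib.AlgSpace.QuotGrpd

/-!
# Quasi-compact monomorphisms with universally injective pullback of functions are isomorphisms
-/

set_option autoImplicit false
set_option linter.style.haveILetI false
universe u

open CategoryTheory CategoryTheory.Limits AlgebraicGeometry
open Groth.Agent.Lib.AlgSpace
open scoped TensorProduct

namespace Groth.Agent.Lib.AlgSpMor.PureMono

/-- Vanishing of functions descends along flat surjective morphisms. -/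
theorem eq_zero_of_appTop {W' W : Scheme.{u}} (q : W' ⟶ W) [Flat q] [Surjective q] (s : Γ(W, ⊤))
    (h : q.appTop s = 0) : s = 0 := by
  let ev (X : Scheme.{u}) (t : Γ(X, ⊤)) : CommRingCat.of (Polynomial (ULift.{u} ℤ)) ⟶ Γ(X, ⊤) :=
    CommRingCat.ofHom (Polynomial.eval₂RingHom ((Int.castRingHom _).comp ULift.ringEquiv.toRingHom) t)
  let F (t : Γ(W, ⊤)) := W.toSpecΓ ≫ Spec.map (ev W t)
  have hev : ∀ t, ev W t ≫ q.appTop = ev W' (q.appTop t) := by
    intro t
    apply CommRingCat.hom_ext
    refine Polynomial.ringHom_ext (fun n ↦ ?_) ?_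
    · simp [ev]
    · simp [ev]
  have hF : F s = F 0 := by
    haveI : Epi q := Flat.epi_of_flat_of_surjective q
    rw [← cancel_epi q]
    simp only [F, Scheme.toSpecΓ_naturality_assoc, ← Spec.map_comp, hev, h, map_zero]
  have happ : ∀ t, (F t).appTop = (Scheme.ΓSpecIso _).hom ≫ ev W t := by
    intro t
    simp only [F, Scheme.Hom.comp_appTop, Scheme.toSpecΓ_appTop, Scheme.ΓSpecIso_naturality]
  have := congrArg (fun f : W ⟶ _ ↦ f.appTop) hF
  rw [happ, happ, cancel_epi] at this
  simpa [ev] using congr($(this).hom Polynomial.X)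

open AlgSp (Sp yon Representable RepWith IsAlgSpace LocP)
open AlgSp

variable {S : Scheme.{u}}

/-- Over an affine base, such a monomorphism has an etale surjective section up to refinement. -/
theorem exists_lift {X Y : Sp S} (hX : IsAlgSpace X) (hY : IsAlgSpace Y) {f : X ⟶ Y} [Mono f]
    (hqc : IsQuasiCompactMor f)
    (hinj : ∀ (T : Over S) (g : (yon S).obj T ⟶ Y) (P : Sp S) (fst : P ⟶ X)
      (snd : P ⟶ (yon S).obj T), IsPullback fst snd f g → ∀ s : Γ(T.left, ⊤),
        (∀ (W : Over S) (a : (yon S).obj W ⟶ P) (c : W ⟶ T),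
          a ≫ snd = (yon S).map c → c.left.appTop s = 0) → s = 0)
    {T : Over S} [IsAffine T.left] (ξ : (yon S).obj T ⟶ Y) :
    ∃ (U : Over S) (m : U ⟶ T) (x : (yon S).obj U ⟶ X),
      Etale m.left ∧ Surjective m.left ∧ x ≫ f = (yon S).map m ≫ ξ := by
  have sq := IsPullback.of_hasPullback f ξ
  let P := pullback f ξ
  have hP : IsAlgSpace P := isAlgSpace_of_isPullback sq hY.diag hX (IsAlgSpace.yon_obj T)
  haveI : CompactSpace (Points P) := QC.compactSpace_of_isQuasiCompactMor hqc sq
  haveI : Mono (pullback.snd f ξ) := inferInstance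
  obtain ⟨U, a, hU, ha, has⟩ := QC.exists_affine_atlas hP
  haveI := hU
  haveI := isLocallySurjective_of_etale ha has
  obtain ⟨m, hm⟩ := (yon S).map_surjective (a ≫ pullback.snd f ξ)
  refine ⟨U, m, a ≫ pullback.fst f ξ, ?_⟩
  have hcomm : (a ≫ pullback.fst f ξ) ≫ f = (yon S).map m ≫ ξ := by
    rw [hm, Category.assoc, Category.assoc, pullback.condition]
  let R : Over S := ha.rep.pullback a
  let p : R ⟶ U := ha.rep.fst' a
  let q : R ⟶ U := ha.rep.snd a
  have sqR : IsPullback ((yon S).map p) ((yon S).map q) a a := ha.rep.isPullback' a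
  have hpm : p ≫ m = q ≫ m := (yon S).map_injective (by
    rw [Functor.map_comp, Functor.map_comp, hm, ← Category.assoc, ← Category.assoc, sqR.w])
  have sqm : IsPullback p q m m := by
    refine isPullback_of_yon_map (isPullback_of_yon (by rw [← (yon S).map_comp p m,
      ← (yon S).map_comp q m, hpm]) (fun Z c c' e1 e2 ↦ sqR.hom_ext e1 e2) fun Z c c' e ↦ ?_)
    have e' : c ≫ a = c' ≫ a := by
      rw [← cancel_mono (pullback.snd f ξ), Category.assoc, Category.assoc, ← hm, e]
    exact ⟨sqR.lift c c' e', sqR.lift_fst _ _ _, sqR.lift_snd _ _ _⟩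
  have hp : Etale p.left := repWith_property ha sqR.flip
  -- rings
  let A : Type u := Γ(T.left, ⊤)
  let C : Type u := Γ(U.left, ⊤)
  letI : Algebra A C := m.left.appTop.hom.toAlgebra
  have hmSpec : U.left.isoSpec.hom ≫ Spec.map (CommRingCat.ofHom (algebraMap A C)) =
      m.left ≫ T.left.isoSpec.hom := Scheme.isoSpec_hom_naturality m.left
  let e := pullbackSpecIso A C C
  have hE : Algebra.Etale C (C ⊗[A] C) := by
    have sq' : IsPullback (p.left ≫ U.left.isoSpec.hom) (q.left ≫ U.left.isoSpec.hom)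
        (Spec.map (CommRingCat.ofHom (algebraMap A C)))
        (Spec.map (CommRingCat.ofHom (algebraMap A C))) :=
      IsPullback.of_iso (sqm.map (Over.forget S)) (Iso.refl _) U.left.isoSpec U.left.isoSpec
        T.left.isoSpec (by simp) (by simp) hmSpec.symm hmSpec.symm
    have sqS : IsPullback (e.inv ≫ pullback.fst _ _) (e.inv ≫ pullback.snd _ _)
        (Spec.map (CommRingCat.ofHom (algebraMap A C)))
        (Spec.map (CommRingCat.ofHom (algebraMap A C))) :=
      IsPullback.of_iso (IsPullback.of_hasPullback _ _) e (Iso.refl _) (Iso.refl _) (Iso.refl _)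
        (by simp) (by simp) (by simp) (by simp)
    have h : Etale (e.inv ≫ pullback.fst _ _) := by
      rw [← sqS.isoIsPullback_hom_fst _ _ sq']
      haveI := hp
      infer_instance
    rw [pullbackSpecIso_inv_fst'] at h
    exact RingHom.etale_algebraMap.1 ((HasRingHomProperty.Spec_iff (P := @Etale)).1 h)
  have hpure : ∀ (N : Type u) [AddCommGroup N] [Module A N],
      Function.Injective fun n : N ↦ (1 : C) ⊗ₜ[A] n := by
    intro N _ _ n n' hn
    rw [← sub_eq_zero]
    generalize hd : n - n' = d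
    have hd0 : (1 : C) ⊗ₜ[A] d = 0 := by
      rw [← hd, TensorProduct.tmul_sub, sub_eq_zero]; exact hn
    clear hd hn n n'
    letI : Module Aᵐᵒᵖ N := Module.compHom N ((RingHom.id A).fromOpposite mul_comm)
    haveI : IsCentralScalar A N := ⟨fun r y ↦ rfl⟩
    let A' : Type u := TrivSqZeroExt A N
    let T' : Over S := Over.mk (Spec.map (CommRingCat.ofHom (algebraMap A A')) ≫
      T.left.isoSpec.inv ≫ T.hom)
    let g : T' ⟶ T := Over.homMk (Spec.map (CommRingCat.ofHom (algebraMap A A')) ≫
      T.left.isoSpec.inv) (by simp [T'])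
    have sq' := IsPullback.of_hasPullback f ((yon S).map g ≫ ξ)
    let s : Γ(T'.left, ⊤) := (Scheme.ΓSpecIso (CommRingCat.of A')).inv (TrivSqZeroExt.inr d)
    have hs : s = 0 := by
      refine hinj T' _ _ _ _ sq' s fun W α c hα ↦ ?_
      let l : (yon S).obj W ⟶ P := sq.lift (α ≫ pullback.fst f ((yon S).map g ≫ ξ))
        ((yon S).map (c ≫ g)) (by
          rw [Category.assoc, sq'.w, reassoc_of% hα, (yon S).map_comp c g, Category.assoc])
      obtain ⟨W', w, r₀, sqW, hw⟩ := repWith_exists ha l
      haveI : Etale w.left := hw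
      haveI : Surjective w.left := repWith_property has sqW
      obtain ⟨r, rfl⟩ := (yon S).map_surjective r₀
      have hr : r ≫ m = w ≫ c ≫ g := (yon S).map_injective (by
        rw [(yon S).map_comp r m, hm, ← Category.assoc, sqW.w, Category.assoc, sq.lift_snd,
          (yon S).map_comp w (c ≫ g)])
      have hr' : (r.left ≫ U.left.isoSpec.hom) ≫ Spec.map (CommRingCat.ofHom (algebraMap A C)) =
          (w ≫ c).left ≫ Spec.map (CommRingCat.ofHom (algebraMap A A')) := by
        rw [Category.assoc, hmSpec, ← Category.assoc, ← Over.comp_left, hr]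
        simp [g]
      let k : W'.left ⟶ Spec (CommRingCat.of (C ⊗[A] A')) :=
        pullback.lift _ _ hr' ≫ (pullbackSpecIso A C A').hom
      have hk : k ≫ Spec.map (CommRingCat.ofHom
          (Algebra.TensorProduct.includeRight : A' →ₐ[A] C ⊗[A] A').toRingHom) = (w ≫ c).left := by
        simp [k, pullbackSpecIso_hom_snd, pullback.lift_snd]
      refine eq_zero_of_appTop w.left _ ?_
      have h1 : ((1 : C) ⊗ₜ[A] (TrivSqZeroExt.inr d : A')) = 0 := by
        have := congrArg ((TrivSqZeroExt.inrHom A N).lTensor C) hd0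
        rw [map_zero, LinearMap.lTensor_tmul] at this
        exact this
      have h2 : (Spec.map (CommRingCat.ofHom
          (Algebra.TensorProduct.includeRight : A' →ₐ[A] C ⊗[A] A').toRingHom)).appTop s = 0 := by
        have := congr($(Scheme.ΓSpecIso_inv_naturality (CommRingCat.ofHom
          (Algebra.TensorProduct.includeRight : A' →ₐ[A] C ⊗[A] A').toRingHom)).hom
          (TrivSqZeroExt.inr d))
        refine this.symm.trans ?_
        change (Scheme.ΓSpecIso (CommRingCat.of (C ⊗[A] A'))).inv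
          ((1 : C) ⊗ₜ[A] (TrivSqZeroExt.inr d : A')) = 0
        rw [h1, map_zero]
      rw [← CommRingCat.comp_apply, ← Scheme.Hom.comp_appTop, ← Over.comp_left, ← hk,
        Scheme.Hom.comp_appTop, CommRingCat.comp_apply, h2, map_zero]
    have : (TrivSqZeroExt.inr d : A') = 0 := by
      have := congrArg (Scheme.ΓSpecIso (CommRingCat.of A')).hom hs
      simpa [s] using this
    exact TrivSqZeroExt.inr_injective (this.trans (TrivSqZeroExt.inr_zero A).symm)
  haveI := hE
  obtain ⟨het, hsurj⟩ := PureFlat.etale_of_pure hpure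
  have hm' : m.left = U.left.isoSpec.hom ≫ Spec.map (CommRingCat.ofHom (algebraMap A C)) ≫
      T.left.isoSpec.inv := by
    rw [reassoc_of% hmSpec, Iso.hom_inv_id, Category.comp_id]
  haveI : Etale (Spec.map (CommRingCat.ofHom (algebraMap A C))) :=
    (HasRingHomProperty.Spec_iff (P := @Etale)).2 het
  haveI : Surjective (Spec.map (CommRingCat.ofHom (algebraMap A C))) := ⟨hsurj⟩
  refine ⟨?_, ?_, hcomm⟩
  · rw [hm']; infer_instance
  · rw [hm']; infer_instance

/-- A quasi-compact monomorphism with universally injective pullback of functions is an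
isomorphism. -/
theorem isIso {X Y : Sp S} (hX : IsAlgSpace X) (hY : IsAlgSpace Y) {f : X ⟶ Y} [Mono f]
    (hqc : IsQuasiCompactMor f)
    (hinj : ∀ (T : Over S) (g : (yon S).obj T ⟶ Y) (P : Sp S) (fst : P ⟶ X)
      (snd : P ⟶ (yon S).obj T), IsPullback fst snd f g → ∀ s : Γ(T.left, ⊤),
        (∀ (W : Over S) (a : (yon S).obj W ⟶ P) (c : W ⟶ T),
          a ≫ snd = (yon S).map c → c.left.appTop s = 0) → s = 0) :
    IsIso f := by
  haveI : IsZariskiLocalAtSource (@Flat : MorphismProperty Scheme.{u}) :=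
    HasRingHomProperty.instIsZariskiLocalAtSource (P := @Flat) (Q := RingHom.Flat)
  haveI : IsZariskiLocalAtSource (@LocallyOfFinitePresentation : MorphismProperty Scheme.{u}) :=
    HasRingHomProperty.instIsZariskiLocalAtSource (P := @LocallyOfFinitePresentation)
      (Q := RingHom.FinitePresentation)
  haveI : Sheaf.IsLocallySurjective f := by
    refine isLocallySurjective_of_lift f fun T b ↦ ?_
    let 𝒰 := T.left.affineCover
    let Z : 𝒰.I₀ → Over S := fun i ↦ Over.mk (𝒰.f i ≫ T.hom)
    let o : ∀ i, Z i ⟶ T := fun i ↦ Over.homMk (𝒰.f i)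
    haveI : ∀ i, IsAffine (Z i).left := fun i ↦ inferInstanceAs (IsAffine (𝒰.X i))
    choose V v x hve hvs hx using fun i ↦ exists_lift hX hY hqc hinj ((yon S).map (o i) ≫ b)
    obtain ⟨d, hd, -⟩ := existsUnique_sigmaOver_desc V x
    obtain ⟨π, hπ⟩ := exists_sigmaOver_desc fun i ↦ v i ≫ o i
    have hπl : π.left = Sigma.desc fun i ↦ (v i).left ≫ 𝒰.f i := Sigma.hom_ext _ _ fun i ↦ by
      rw [Sigma.ι_desc]
      exact congrArg (fun k ↦ k.left) (hπ i)
    refine ⟨sigmaOver V, π, d, ⟨⟨⟨fun t ↦ ?_⟩, ?_⟩, ?_⟩, ?_⟩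
    · obtain ⟨i, y, hy⟩ := 𝒰.exists_eq t
      obtain ⟨z, hz⟩ := (hvs i).surj y
      refine ⟨Sigma.ι (fun i ↦ (V i).left) i z, ?_⟩
      rw [hπl, ← Scheme.Hom.comp_apply]
      change (Sigma.ι (fun i ↦ (V i).left) i ≫ Sigma.desc fun i ↦ (v i).left ≫ 𝒰.f i) z = t
      rw [Sigma.ι_desc, Scheme.Hom.comp_apply, hz]
      exact hy
    · rw [hπl]
      exact IsZariskiLocalAtSource.sigmaDesc (P := (@Flat : MorphismProperty Scheme.{u})) fun i ↦ by
        haveI := hve i
        exact (inferInstance : Flat ((v i).left ≫ 𝒰.f i))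
    · rw [hπl]
      exact IsZariskiLocalAtSource.sigmaDesc
        (P := (@LocallyOfFinitePresentation : MorphismProperty Scheme.{u})) fun i ↦ by
        haveI := hve i
        exact (inferInstance : LocallyOfFinitePresentation ((v i).left ≫ 𝒰.f i))
    · refine hom_ext_of_family V _ (sigmaOverι_mem_J V) fun i ↦ ?_
      rw [reassoc_of% (hd i), hx i, ← Category.assoc, ← (yon S).map_comp (v i) (o i),
        ← Category.assoc, ← (yon S).map_comp (sigmaOverι V i) π, hπ i]
  exact isIso_of_mono_of_epi f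

end Groth.Agent.Lib.AlgSpMor.PureMono
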