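import Groth.Agent.Lib.AlgSpMor.LocP
import Groth.Agent.Lib.AlgSpace.Points
import Groth.Prelude.Def_AlgSp4

/-!
# Surjective charts of surjective morphisms
-/

set_option autoImplicit false
set_option linter.style.haveILetI false

universe u

open CategoryTheory CategoryTheory.Limits AlgebraicGeometry
open Groth.Agent.Lib.AlgSpace

namespace Groth.Agent.Lib.AlgSpMor.SurjChart

open AlgSp (Sp yon RepWith IsAlgSpace)

variable {S : Scheme.{u}}

/-- Over a given chart of the target, a surjective morphism has a chart which is surjective. -/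
theorem exists_chart {X Y : Sp S} (hX : IsAlgSpace X) (hY : IsAlgSpace Y) {f : X ⟶ Y}
    (hs : AlgSp.IsSurjectiveMor f) {V : Over S} {b : (yon S).obj V ⟶ Y} (hb : RepWith @Etale b)
    (hbs : RepWith @Surjective b) :
    ∃ (U : Over S) (a : (yon S).obj U ⟶ X) (k : U ⟶ V), RepWith @Etale a ∧ RepWith @Surjective a ∧
      a ≫ f = (yon S).map k ≫ b ∧ Surjective k.left := by
  obtain ⟨U₀, a₀, h₀, h₀s⟩ := hX.atlas
  obtain ⟨U, p, q, sq⟩ := exists_isPullback_yon hY.diag (a₀ ≫ f) b
  haveI : Etale p.left := repWith_property hb sq.flip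
  haveI : Surjective p.left := repWith_property hbs sq.flip
  refine ⟨U, (yon S).map p ≫ a₀, q, LocP.repWith_etale_comp p h₀,
    LocP.repWith_surjective_comp p h₀s, by rw [Category.assoc, sq.w], ⟨fun v => ?_⟩⟩
  obtain ⟨x, hx⟩ := hs (AlgSp.Points.ofPt b v)
  obtain ⟨u, rfl⟩ := surjective_ofPt h₀s x
  rw [AlgSp.Points.map_ofPt] at hx
  obtain ⟨z, -, hz⟩ := (ofPt_eq_ofPt_iff_of_isPullback sq u v).1 hx
  exact ⟨z, hz⟩

end Groth.Agent.Lib.AlgSpMor.SurjChart
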