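import Groth.Agent.Lib.AlgSpMor.RelNorm.Main
import Groth.Agent.Lib.AlgSpace.OpenSubExists
import Groth.Prelude.Def_AlgSpCov

/-!
# Zariski locality on the base of representable properties
-/

set_option autoImplicit false
set_option linter.style.haveILetI false

universe u

open CategoryTheory CategoryTheory.Limits AlgebraicGeometry Opposite
open Groth.Agent.Lib.AlgSpace

namespace Groth.Agent.Lib.AlgSpMor.ZarLocal

open AlgSp (Sp yon Representable RepWith IsAlgSpace)

variable {S : Scheme.{u}}

/-- A representable property with effective descent can be tested on a Zariski cover of the target. -/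
theorem repWith_of_zarCover (P : MorphismProperty Scheme.{u}) [P.IsStableUnderBaseChange]
    [IsZariskiLocalAtTarget P] [P.IsLocalAtTarget Scheme.fppfPrecoverage]
    (heff : ∀ ⦃A B : Scheme.{u}⦄ (p : A ⟶ B), fppfCover p → ∀ D : Desc.SchDD p, P D.obj.hom →
      ∃ (U : Over B) (q : D.obj.left ⟶ U.left), Groth.Agent.Lib.FFDesc.IsDescended D U q)
    {X Y : Sp S} (hY : IsAlgSpace Y) {f : X ⟶ Y} {ι : Type u} {Yi : ι → Sp S}
    (hYi : ∀ i, IsAlgSpace (Yi i)) {j : ∀ i, Yi i ⟶ Y} (hj : AlgSp.IsZarCover Yi j)
    {Xi : ι → Sp S} {p : ∀ i, Xi i ⟶ X} {q : ∀ i, Xi i ⟶ Yi i}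
    (sq : ∀ i, IsPullback (p i) (q i) f (j i)) (h : ∀ i, RepWith P (q i)) : RepWith P f := by
  haveI : MorphismProperty.IsStableUnderComposition (@Etale : MorphismProperty Scheme.{u}) :=
    ⟨fun f g (_ : Etale f) (_ : Etale g) ↦ inferInstanceAs (Etale (f ≫ g))⟩
  haveI : IsZariskiLocalAtSource (@Etale : MorphismProperty Scheme.{u}) :=
    HasRingHomProperty.instIsZariskiLocalAtSource (P := @Etale) (Q := RingHom.Etale)
  choose W a ha has using fun i => (hYi i).atlas
  choose V v c sqc hv using fun i => repWith_exists (h i) (a i)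
  obtain ⟨w, hw, -⟩ := existsUnique_sigmaOver_desc W (fun i => a i ≫ j i)
  have hai : ∀ i, RepWith @Etale (a i ≫ j i) := fun i =>
    repWith_comp (ha i) (repWith_mono (hj.1 i) fun _ _ g (_ : IsOpenImmersion g) ↦
      (inferInstance : Etale g))
  have hwe : RepWith @Etale w := by
    refine ⟨representable_from_yon hY.diag w, fun T R ξ fst g sqR => ?_⟩
    obtain ⟨e₀, rfl⟩ := (yon S).map_surjective fst
    refine (IsZariskiLocalAtSource.iff_of_openCover (P := @Etale)
      ((sigmaOpenCover fun i => (W i).left).pullback₁ e₀.left)).2 fun i => ?_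
    have sqi := IsPullback.of_hasPullback e₀ (sigmaOverι W i)
    have sq2 : IsPullback ((yon S).map (Limits.pullback.snd e₀ (sigmaOverι W i)))
        ((yon S).map (Limits.pullback.fst e₀ (sigmaOverι W i)) ≫ (yon S).map g) (a i ≫ j i) ξ := by
      rw [← hw i]
      exact (isPullback_yon sqi).flip.paste_vert sqR
    rw [← Functor.map_comp] at sq2
    have hE : Etale (Limits.pullback.fst e₀ (sigmaOverι W i) ≫ g).left := repWith_property (hai i) sq2
    let e := (sqi.map (Over.forget S)).isoPullback
    show Etale (pullback.fst e₀.left (sigmaOverι W i).left ≫ g.left)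
    refine (MorphismProperty.cancel_left_of_respectsIso @Etale e.hom _).1 ?_
    have he : e.hom ≫ pullback.fst e₀.left (sigmaOverι W i).left =
        (Limits.pullback.fst e₀ (sigmaOverι W i)).left := IsPullback.isoPullback_hom_fst _
    exact (congrArg (fun z => Etale z) ((Category.assoc _ _ _).symm.trans
      (congrArg (· ≫ g.left) he))).mpr hE
  have hws : RepWith @Surjective w := repWith_surjective_of_points hwe.rep fun y => by
    obtain ⟨i, x, rfl⟩ := hj.2 y
    obtain ⟨u, rfl⟩ := surjective_ofPt (has i) x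
    refine ⟨AlgSp.Points.ofScheme _ ((sigmaOverι W i).left u), ?_⟩
    rw [AlgSp.Points.map_ofPt, Category.id_comp, ← ofPt_yon_map_comp, hw, AlgSp.Points.map_ofPt]
  have sqP := IsPullback.of_hasPullback f w
  have sqW : ∀ i, IsPullback (c i ≫ p i) ((yon S).map (v i)) f ((yon S).map (sigmaOverι W i) ≫ w) :=
    fun i => by rw [hw i]; exact (sqc i).paste_horiz (sq i)
  have sqi' : ∀ i, IsPullback
      (sqP.lift (c i ≫ p i) ((yon S).map (v i) ≫ (yon S).map (sigmaOverι W i))
        (by rw [Category.assoc ((yon S).map (v i))]; exact (sqW i).w))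
      ((yon S).map (v i)) (pullback.snd f w) ((yon S).map (sigmaOverι W i)) := fun i =>
    IsPullback.of_right (by rw [sqP.lift_fst]; exact sqW i) (sqP.lift_snd _ _ _) sqP
  obtain ⟨b, G, t, ht, hpb, sqb⟩ := RepDescent.exists_isPullback_sigma sqi'
  have htid : t = 𝟙 _ := Over.OverMorphism.ext (Sigma.hom_ext _ _ fun i => by
    exact (congrArg Over.Hom.left (ht i)).trans (Category.comp_id _).symm)
  haveI : Etale t.left := by rw [htid, Over.id_left]; infer_instance
  haveI : Surjective t.left := by rw [htid, Over.id_left]; infer_instance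
  have hG : P G.left := IsZariskiLocalAtTarget.of_openCover (P := P)
    (sigmaOpenCover fun i ↦ (W i).left) fun i ↦ by
      show P (pullback.snd G.left (sigmaOverι W i).left)
      rw [← (IsPullback.of_hasPullback _ _).isoIsPullback_hom_snd _ _ (hpb i)]
      exact (MorphismProperty.cancel_left_of_respectsIso P _ _).2 (hv i)
  have hsnd : RepWith P (pullback.snd f w) :=
    RepDescent.repWith_of_cover _ heff (IsAlgSpace.yon_obj (sigmaOver W)).diag
      ((AlgSp.repWith_yon_map_iff _ t).2 ‹Etale t.left›)
      ((AlgSp.repWith_yon_map_iff _ t).2 ‹Surjective t.left›) sqb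
      ((AlgSp.repWith_yon_map_iff _ G).2 hG)
  exact RepDescent.repWith_of_cover _ heff hY.diag hwe hws sqP hsnd

end Groth.Agent.Lib.AlgSpMor.ZarLocal
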